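import Cfsg.Agent.D3.K
import Cfsg.Agent.U5.E0
import Cfsg.Agent.U5.E3
import Cfsg.Agent.H4.Sp4L

/-! Subgroups, commutators and general fusion lemmas for the Sylow subgroup of `³D₄(q)`. -/

set_option autoImplicit false
set_option linter.unusedSectionVars false
set_option linter.style.haveILetI false

open Equiv
open scoped commutatorElement

namespace Cfsg.Agent.D3

open Cfsg.Fus Cfsg.FusionSystem U

variable {K : Type*} [Field K] [TF K]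

attribute [simp] mul_a mul_b mul_c inv_a inv_b inv_c one_a one_b one_c one_d one_e one_f U.hb U.he U.hf

theorem mul_d' (x y : U K) : (x * y).d = x.d + y.d + cr y.a x.c + ad y.a * x.b := by
  usimp3; kunf; ring
theorem mul_e' (x y : U K) :
    (x * y).e = x.e + y.e + tr (y.a * x.d) + tr (ad y.a * x.c) + nm y.a * x.b := by
  usimp3; kunf; ring
theorem mul_f' (x y : U K) : (x * y).f = x.f + y.f -
    y.b * (x.e + tr (y.a * x.d) + tr (ad y.a * x.c) + nm y.a * x.b) +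
    tr (y.c * (x.d + cr y.a x.c + ad y.a * x.b)) + tr (y.a * ad x.c) + x.b * tr (ad y.a * x.c) +
    nm y.a * x.b ^ 2 := by
  usimp3; kunf; simp only [U.hb]; ring

/-- The commutator used in the chain lemmas. -/
def cm (g x : U K) : U K := x⁻¹ * (g * x * g⁻¹)

theorem cm_def (g x : U K) : x⁻¹ * (g * x * g⁻¹) = cm g x := rfl
theorem cj_eq (g x : U K) : g * x * g⁻¹ = x * cm g x := by simp [cm]
theorem cm_eq_one {g x : U K} : cm g x = 1 ↔ g * x = x * g := by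
  rw [cm, inv_mul_eq_one, eq_mul_inv_iff_mul_eq, eq_comm]
theorem cm_eq (g x : U K) : cm g x = ⁅x⁻¹, g⁆ := by simp [cm, commutatorElement_def, mul_assoc]
theorem cm_mem_comm {E : Subgroup (U K)} {g x : U K} (hg : g ∈ E) (hx : x ∈ E) : cm g x ∈ ⁅E, E⁆ :=
  cm_eq g x ▸ Subgroup.commutator_mem_commutator (E.inv_mem hx) hg
theorem cm_swap (g x : U K) : cm g x = (cm x⁻¹ g⁻¹)⁻¹ := by simp [cm, mul_assoc]

/-- Brute force computation of a coordinate of a commutator. -/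
macro "cmc" : tactic => `(tactic| ((try simp only [cm]); usimp3; kunf; (try simp only [*, U.hb,
  U.he, U.hf, map_zero, mul_zero, zero_mul, add_zero, zero_add, sub_zero, neg_zero]); ring))

@[simp] theorem cm_a (g x : U K) : (cm g x).a = 0 := by simp [cm]
@[simp] theorem cm_b (g x : U K) : (cm g x).b = 0 := by simp [cm]
theorem cm_c (g x : U K) : (cm g x).c = x.a * g.b - g.a * x.b := by simp [cm]; ring
theorem cm_d (g x : U K) : (cm g x).d = cr x.a g.c - cr g.a x.c - cr g.a (x.a * g.b - g.a * x.b) +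
    ad x.a * g.b - ad g.a * x.b := by cmc
theorem cm_e (g x : U K) : (cm g x).e = tr (x.a * g.d) - tr (g.a * x.d) + tr (ad x.a * g.c) -
    tr (ad g.a * x.c) + nm x.a * g.b - nm g.a * x.b - tr (g.a * (cm g x).d) -
    tr (ad g.a * (cm g x).c) := by rw [cm_d, cm_c]; cmc
/-- last coordinate, `g ∈ D` -/
theorem cm_f_D {g : U K} (ha : g.a = 0) (hb : g.b = 0) (x : U K) : (cm g x).f =
    tr (x.c * g.d) - tr (g.c * x.d) + tr (x.c * cr x.a g.c) - tr (x.a * ad g.c) -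
      x.b * (g.e + tr (x.a * g.d) + tr (ad x.a * g.c)) := by cmc
/-- last coordinate on `Q₁` -/
theorem cm_f_Q1 {g x : U K} (hg : g.a = 0) (hx : x.a = 0) :
    (cm g x).f = g.b * x.e - x.b * g.e + tr (x.c * g.d) - tr (g.c * x.d) := by cmc
/-- last coordinate, `x ∈ W` -/
theorem cm_f_W (g : U K) {x : U K} (ha : x.a = 0) (hb : x.b = 0) (hc : x.c = 0) :
    (cm g x).f = g.b * x.e - tr (g.c * x.d) := by cmc

theorem cm_d_D {g : U K} (ha : g.a = 0) (hb : g.b = 0) (x : U K) : (cm g x).d = cr x.a g.c := by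
  simp [cm_d, ha, hb]
theorem cm_e_D {g : U K} (ha : g.a = 0) (hb : g.b = 0) (x : U K) :
    (cm g x).e = tr (x.a * g.d) + tr (ad x.a * g.c) := by simp [cm_e, ha, hb]
theorem cm_d_Q2 {g x : U K} (hg : g.b = 0) (hx : x.b = 0) :
    (cm g x).d = cr x.a g.c - cr g.a x.c := by simp [cm_d, hg, hx]
theorem cm_e_W (g : U K) {x : U K} (ha : x.a = 0) (hb : x.b = 0) (hc : x.c = 0) :
    (cm g x).e = -tr (g.a * x.d) := by simp [cm_e, cm_d, cm_c, ha, hb, hc]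

/-! Conjugation on `Q₁` modulo `Z`. -/
theorem cj_a (g x : U K) : (g * x * g⁻¹).a = x.a := by simp
theorem cj_b (g x : U K) : (g * x * g⁻¹).b = x.b := by simp
theorem cj_c (g x : U K) : (g * x * g⁻¹).c = x.c + x.a * g.b - g.a * x.b := by simp; ring
theorem cj_d (g : U K) {x : U K} (hx : x.a = 0) :
    (g * x * g⁻¹).d = x.d - cr g.a x.c + ad g.a * x.b := by cmc
theorem cj_e (g : U K) {x : U K} (hx : x.a = 0) :
    (g * x * g⁻¹).e = x.e - tr (g.a * x.d) + tr (ad g.a * x.c) - nm g.a * x.b := by cmc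

/-! Powers. -/
theorem sq_f_Q1 {x : U K} (hx : x.a = 0) : (x * x).f = 2 * x.f - x.b * x.e + tr (x.c * x.d) := by cmc
theorem cube_d (x : U K) : (x * x * x).d = 3 * (x.d + cr x.a x.c) + 5 * ad x.a * x.b := by cmc

/-- `Z(S)` -/
def sZ (K : Type*) [Field K] [TF K] : Subgroup (U K) where
  carrier := {x | x.a = 0 ∧ x.b = 0 ∧ x.c = 0 ∧ x.d = 0 ∧ x.e = 0}
  one_mem' := by simp
  mul_mem' := by rintro x w ⟨a, b, c, d, y⟩ ⟨a', b', c', d', y'⟩; simp [mul_d, mul_e, *]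
  inv_mem' := by rintro x ⟨a, b, c, d, y⟩; simp [inv_d, inv_e, *]
/-- `Z₂(S) = Z(Q₂)` -/
def sZ2 (K : Type*) [Field K] [TF K] : Subgroup (U K) where
  carrier := {x | x.a = 0 ∧ x.b = 0 ∧ x.c = 0 ∧ x.d = 0}
  one_mem' := by simp
  mul_mem' := by rintro x w ⟨a, b, c, d⟩ ⟨a', b', c', d'⟩; simp [mul_d, *]
  inv_mem' := by rintro x ⟨a, b, c, d⟩; simp [inv_d, *]
/-- `W = Z₃(S) = Φ(Q₂)` -/
def sW (K : Type*) [Field K] [TF K] : Subgroup (U K) where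
  carrier := {x | x.a = 0 ∧ x.b = 0 ∧ x.c = 0}
  one_mem' := by simp
  mul_mem' := by rintro x w ⟨a, b, c⟩ ⟨a', b', c'⟩; simp [*]
  inv_mem' := by rintro x ⟨a, b, c⟩; simp [*]
/-- `D = Φ(S) = Q₁ ∩ Q₂` -/
def sD (K : Type*) [Field K] [TF K] : Subgroup (U K) where
  carrier := {x | x.a = 0 ∧ x.b = 0}
  one_mem' := by simp
  mul_mem' := by rintro x w ⟨a, b⟩ ⟨a', b'⟩; simp [*]
  inv_mem' := by rintro x ⟨a, b⟩; simp [*]
/-- `D∞ = X_a W` -/
def sI (K : Type*) [Field K] [TF K] : Subgroup (U K) where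
  carrier := {x | x.b = 0 ∧ x.c = 0}
  one_mem' := by simp
  mul_mem' := by rintro x w ⟨a, b⟩ ⟨a', b'⟩; simp [*]
  inv_mem' := by rintro x ⟨a, b⟩; simp [*]

theorem mem_sZ {x : U K} : x ∈ sZ K ↔ x.a = 0 ∧ x.b = 0 ∧ x.c = 0 ∧ x.d = 0 ∧ x.e = 0 := Iff.rfl
theorem mem_sZ2 {x : U K} : x ∈ sZ2 K ↔ x.a = 0 ∧ x.b = 0 ∧ x.c = 0 ∧ x.d = 0 := Iff.rfl
theorem mem_sW {x : U K} : x ∈ sW K ↔ x.a = 0 ∧ x.b = 0 ∧ x.c = 0 := Iff.rfl
theorem mem_sD {x : U K} : x ∈ sD K ↔ x.a = 0 ∧ x.b = 0 := Iff.rfl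
theorem mem_sI {x : U K} : x ∈ sI K ↔ x.b = 0 ∧ x.c = 0 := Iff.rfl

theorem Z_Z2 : sZ K ≤ sZ2 K := fun _ h => ⟨h.1, h.2.1, h.2.2.1, h.2.2.2.1⟩
theorem Z2_W : sZ2 K ≤ sW K := fun _ h => ⟨h.1, h.2.1, h.2.2.1⟩
theorem W_D : sW K ≤ sD K := fun _ h => ⟨h.1, h.2.1⟩
theorem W_I : sW K ≤ sI K := fun _ h => h.2
theorem D_Q1 : sD K ≤ Q1 := fun _ h => h.1
theorem D_Q2 : sD K ≤ Q2 := fun _ h => h.2
theorem I_Q2 : sI K ≤ Q2 := fun _ h => h.1
theorem XF_mem (t : K) (h : φ t = t) : XF t h ∈ sZ K := ⟨rfl, rfl, rfl, rfl, rfl⟩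
theorem XE_mem (t : K) (h : φ t = t) : XE t h ∈ sZ2 K := ⟨rfl, rfl, rfl, rfl⟩
theorem XD_mem (t : K) : XD t ∈ sW K := ⟨rfl, rfl, rfl⟩
theorem XC_mem (t : K) : XC t ∈ sD K := ⟨rfl, rfl⟩
theorem XB_mem (t : K) (h : φ t = t) : XB t h ∈ (Q1 : Subgroup (U K)) := rfl
theorem XA_mem (t : K) : XA t ∈ sI K := ⟨rfl, rfl⟩

theorem eq_of_Z {x w : U K} (hx : x ∈ sZ K) (hw : w ∈ sZ K) (h : x.f = w.f) : x = w :=
  U.ext (hx.1.trans hw.1.symm) (hx.2.1.trans hw.2.1.symm) (hx.2.2.1.trans hw.2.2.1.symm)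
    (hx.2.2.2.1.trans hw.2.2.2.1.symm) (hx.2.2.2.2.trans hw.2.2.2.2.symm) h
theorem eq_of_Z2 {x w : U K} (hx : x ∈ sZ2 K) (hw : w ∈ sZ2 K) (h : x.e = w.e) (h' : x.f = w.f) :
    x = w :=
  U.ext (hx.1.trans hw.1.symm) (hx.2.1.trans hw.2.1.symm) (hx.2.2.1.trans hw.2.2.1.symm)
    (hx.2.2.2.trans hw.2.2.2.symm) h h'

theorem cm_D (g x : U K) : cm g x ∈ sD K := ⟨cm_a g x, cm_b g x⟩
theorem cm_W {g : U K} (hg : g ∈ sD K) (x : U K) : cm g x ∈ sW K :=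
  ⟨cm_a g x, cm_b g x, by simp [cm_c, hg.1, hg.2]⟩
theorem cm_W' (g : U K) {x : U K} (hx : x ∈ sD K) : cm g x ∈ sW K :=
  ⟨cm_a g x, cm_b g x, by simp [cm_c, hx.1, hx.2]⟩
theorem cm_Z2 {g : U K} (hg : g ∈ sW K) (x : U K) : cm g x ∈ sZ2 K :=
  ⟨cm_a g x, cm_b g x, by simp [cm_c, hg.1, hg.2.1], by simp [cm_d, hg.1, hg.2.1, hg.2.2]⟩
theorem cm_Z2' (g : U K) {x : U K} (hx : x ∈ sW K) : cm g x ∈ sZ2 K :=
  ⟨cm_a g x, cm_b g x, by simp [cm_c, hx.1, hx.2.1], by simp [cm_d, hx.1, hx.2.1, hx.2.2]⟩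
theorem cm_Z {g : U K} (hg : g ∈ sZ2 K) (x : U K) : cm g x ∈ sZ K := by
  obtain ⟨a, b, c, d⟩ := hg
  simp [mem_sZ, cm_c, cm_d, cm_e, *]
theorem cm_Z' (g : U K) {x : U K} (hx : x ∈ sZ2 K) : cm g x ∈ sZ K := by
  obtain ⟨a, b, c, d⟩ := hx
  simp [mem_sZ, cm_c, cm_d, cm_e, *]
theorem cm_Q1 {g x : U K} (hg : g ∈ Q1) (hx : x ∈ Q1) : cm g x ∈ sZ K := by
  simp [mem_sZ, cm_c, cm_d, cm_e, mem_Q1.1 hg, mem_Q1.1 hx]
theorem cm_Q2 {g x : U K} (hg : g ∈ Q2) (hx : x ∈ Q2) : cm g x ∈ sW K := by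
  simp [mem_sW, cm_c, mem_Q2.1 hg, mem_Q2.1 hx]
theorem comm_Z (g : U K) {x : U K} (hx : x ∈ sZ K) : g * x = x * g :=
  cm_eq_one.1 (eq_of_Z (cm_Z' g (Z_Z2 hx)) (one_mem _) (by
    simp [cm_f_W g hx.1 hx.2.1 hx.2.2.1, hx.2.2.2.1, hx.2.2.2.2]))
theorem comm_Z2 {g x : U K} (hg : g ∈ Q2) (hx : x ∈ sZ2 K) : g * x = x * g :=
  cm_eq_one.1 (eq_of_Z (cm_Z' g hx) (one_mem _) (by
    simp [cm_f_W g hx.1 hx.2.1 hx.2.2.1, hx.2.2.2, mem_Q2.1 hg]))
theorem comm_W {g x : U K} (hg : g ∈ sW K) (hx : x ∈ sW K) : g * x = x * g :=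
  cm_eq_one.1 (eq_of_Z (cm_Q1 hg.1 hx.1) (one_mem _) (by
    simp [cm_f_W g hx.1 hx.2.1 hx.2.2, hg.2.1, hg.2.2]))

theorem mem_Q2_of_comm {x : U K} (h : x * XE 1 (map_one _) = XE 1 (map_one _) * x) : x ∈ Q2 := by
  have := congrArg U.f (cm_eq_one.2 h)
  rw [cm_f_W x rfl rfl rfl] at this
  simpa [XE, mem_Q2] using this

/-- `C_S(W) = W` -/
theorem mem_W_of_comm {x : U K} (h : ∀ w ∈ sW K, x * w = w * x) : x ∈ sW K := by
  have b : x.b = 0 := mem_Q2_of_comm (h _ (Z2_W (XE_mem _ _)))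
  refine ⟨eq_zero_of_tr fun y => ?_, b, eq_zero_of_tr fun y => ?_⟩
  · have := congrArg U.e (cm_eq_one.2 (h _ (XD_mem y)))
    rw [cm_e_W x rfl rfl rfl] at this
    simpa [XD] using this
  · have := congrArg U.f (cm_eq_one.2 (h _ (XD_mem y)))
    rw [cm_f_W x rfl rfl rfl] at this
    simpa [XD] using this

/-- `C_S(D) = Z₂` -/
theorem mem_Z2_of_comm {x : U K} (h : ∀ w ∈ sD K, x * w = w * x) : x ∈ sZ2 K := by
  obtain ⟨a, b, c⟩ := mem_W_of_comm fun w hw => h w (W_D hw)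
  refine ⟨a, b, c, eq_zero_of_tr fun y => ?_⟩
  simpa [cm_f_W _ a b c, XC, mul_comm] using congrArg U.f (cm_eq_one.2 (h _ (XC_mem y)).symm)

/-- `C_S(Q₁) = Z` -/
theorem mem_Z_of_comm {x : U K} (h : ∀ w ∈ Q1, x * w = w * x) : x ∈ sZ K := by
  obtain ⟨a, b, c, d⟩ := mem_Z2_of_comm fun w hw => h w (D_Q1 hw)
  refine ⟨a, b, c, d, ?_⟩
  simpa [cm_f_W _ a b c, XB] using
    congrArg U.f (cm_eq_one.2 (h _ (XB_mem 1 (map_one _))).symm)

/-- every element of `Z` is a commutator in `D` -/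
theorem exists_cm_Z {z : U K} (hz : z ∈ sZ K) : ∃ t, cm (XD t) (XC 1) = z := by
  obtain ⟨t, ht⟩ := exists_tr (one_ne_zero (α := K)) z.hf
  exact ⟨t, eq_of_Z (cm_Q1 rfl rfl) hz (by simpa [cm_f_Q1, XD, XC] using ht)⟩

section Card
variable [Finite K]

theorem isPGroup_U (p : ℕ) [Fact p.Prime] [CharP K p] : IsPGroup p (U K) := by
  haveI := Fintype.ofFinite K
  have hK : ∀ x : U K, x ∈ Q1 → (x ^ p) ^ p = 1 := fun x hx => by
    have h1 : ∀ n : ℕ, (x ^ n).a = 0 ∧ (x ^ n).b = n * x.b ∧ (x ^ n).c = n * x.c ∧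
        (x ^ n).d = n * x.d ∧ (x ^ n).e = n * x.e := fun n => by
      induction n with
      | zero => simp
      | succ n ih => simp [pow_succ, mul_d', mul_e', ih, mem_Q1.1 hx, add_mul]
    have h2 : x ^ p ∈ sZ K := by simpa [mem_sZ] using h1 p
    generalize x ^ p = z at h2
    have h3 : ∀ n : ℕ, (z ^ n).f = n * z.f := fun n => by
      induction n with
      | zero => simp
      | succ n ih =>
        simp [pow_succ, mul_f', ih, h2.1, h2.2.1, h2.2.2.1, add_mul]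
    exact eq_of_Z (pow_mem h2 p) (one_mem _) (by simp [h3])
  intro x
  have h1 : ∀ n : ℕ, (x ^ n).a = n * x.a := fun n => by
    induction n with
    | zero => simp
    | succ n ih => simp [pow_succ, ih, add_mul]
  exact ⟨3, by rw [show p ^ 3 = p * p * p by ring, pow_mul, pow_mul]; exact hK _ (by simp [mem_Q1, h1])⟩

theorem topP (p : ℕ) [Fact p.Prime] [CharP K p] : IsPGroup p (⊤ : Subgroup (U K)) :=
  (isPGroup_U p).to_subgroup ⊤

end Card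

variable [Finite K] {F : FusionSystem (⊤ : Subgroup (U K))} {E : Subgroup (U K)} {τ : Perm (U K)}

theorem norm_of_cm {g : U K} (h : ∀ x ∈ E, cm g x ∈ E) : g ∈ Subgroup.normalizer (E : Set (U K)) :=
  Subgroup.mem_normalizer_fintype fun x hx => by rw [cj_eq]; exact E.mul_mem hx (h x hx)

theorem norm_of_D (h : sD K ≤ E) (g : U K) : g ∈ Subgroup.normalizer (E : Set (U K)) :=
  norm_of_cm fun x _ => h (cm_D g x)

theorem fn_of_D (h : sD K ≤ E) : F.IsFullyNormalized E :=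
  F.isFullyNormalized_of_le_normalizer le_top fun g _ => norm_of_D h g

theorem iso_cj_of_D (h : sD K ≤ E) (g : U K) : F.Iso E E (cj g) :=
  F.iso_cj le_top trivial (norm_of_D h g)

theorem cent_of_comm (h : F.IsCentric E) {g : U K} (hg : ∀ x ∈ E, x * g = g * x) : g ∈ E :=
  h.centralizerIn_le ⟨trivial, Subgroup.mem_centralizer_iff.2 hg⟩

theorem map_cm (hτ : F.Iso E E τ) {g x : U K} (hg : g ∈ E) (hx : x ∈ E) :
    τ (cm g x) = cm (τ g) (τ x) := by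
  rw [cm, cm, hτ.homOn (E.inv_mem hx) (E.mul_mem (E.mul_mem hg hx) (E.inv_mem hg)),
    hτ.homOn.map_conj hg hx, hτ.homOn.map_inv hx]

theorem map_comm (hτ : F.Iso E E τ) {g x : U K} (hg : g ∈ E) (hx : x ∈ E) (h : g * x = x * g) :
    τ g * τ x = τ x * τ g := by rw [← hτ.homOn hg hx, h, hτ.homOn hx hg]

theorem cm_left (hτ : F.Iso E E τ) {g x : U K} (hg : g ∈ E) (hx : x ∈ E) :
    cm g (τ x) = τ (cm (τ⁻¹ g) x) := by rw [map_cm hτ (hτ.inv_mem hg) hx]; simp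

theorem cm_right (hτ : F.Iso E E τ) {g x : U K} (hg : g ∈ E) (hx : x ∈ E) :
    cm (τ g) x = τ (cm g (τ⁻¹ x)) := by rw [map_cm hτ hg (hτ.inv_mem hx)]; simp

/-- Invariance under `Aut_F(E)`. -/
def Inv (F : FusionSystem (⊤ : Subgroup (U K))) (E A : Subgroup (U K)) : Prop :=
  ∀ τ, F.Iso E E τ → ∀ x ∈ A, τ x ∈ A

theorem inv_comm : Inv F E ⁅E, E⁆ := fun _ hτ _ hx => Uf.E0.comm_inv hτ hx

theorem inv_center : Inv F E (E ⊓ Subgroup.centralizer (E : Set (U K))) := fun τ hτ x hx =>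
  ⟨hτ.mem hx.1, Subgroup.mem_centralizer_iff.2 fun y hy => by
    simpa using map_comm hτ (hτ.inv_mem hy) hx.1
      (Subgroup.mem_centralizer_iff.1 hx.2 _ (hτ.inv_mem hy))⟩

/-- A chain of length five. -/
def ch (A B C D E : Subgroup (U K)) : ℕ → Subgroup (U K)
  | 0 => ⊥
  | 1 => A
  | 2 => B
  | 3 => C
  | 4 => D
  | _ + 5 => E

variable {p : ℕ} [Fact p.Prime] [CharP K p]

/-- The chain lemma (repeat subgroups for shorter chains). -/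
theorem mem_of_chain (hE : F.IsEssential p E) {A B C D : Subgroup (U K)} (hA : A ≤ E) (hB : B ≤ E)
    (hC : C ≤ E) (hD : D ≤ E) (iA : Inv F E A) (iB : Inv F E B) (iC : Inv F E C) (iD : Inv F E D)
    {g : U K} (h0 : ∀ x ∈ A, g * x = x * g) (h1 : ∀ x ∈ B, cm g x ∈ A) (h2 : ∀ x ∈ C, cm g x ∈ B)
    (h3 : ∀ x ∈ D, cm g x ∈ C) (h4 : ∀ x ∈ E, cm g x ∈ D) : g ∈ E := by
  refine hE.isCentric.mem_of_cj_mem_opStab (hE.isRadical (topP p)) trivial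
    ((F.iso_cj hE.le trivial (norm_of_cm fun x hx => hD (h4 x hx))).mem_opStab_of_chain (topP p)
    (C := ch A B C D E) (n := 5) (fun i hi => ?_) rfl rfl (fun τ hτ i hi => ?_) fun i hi x hx => ?_)
  · interval_cases i
    exacts [bot_le, hA, hB, hC, hD, le_rfl]
  · interval_cases i
    exacts [fun x hx => by rw [Subgroup.mem_bot.1 hx, hτ.homOn.map_one]; exact one_mem _,
      iA τ hτ, iB τ hτ, iC τ hτ, iD τ hτ, fun x hx => hτ.mem hx]
  · interval_cases i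
    exacts [cm_eq_one.2 (h0 x hx), h1 x hx, h2 x hx, h3 x hx, h4 x hx]

theorem ess_ne_top (hF : F.IsSaturated p) (hE : F.IsEssential p E) : E ≠ ⊤ :=
  (hE.lt hF (topP p)).ne

theorem Z_le (hE : F.IsEssential p E) : sZ K ≤ E := fun _ hx =>
  cent_of_comm hE.isCentric fun g _ => comm_Z g hx

/-- An automorphism of `E ≥ D` keeping `Z, Z₂, W, D` extends to `S`. -/
theorem ext_top (hF : F.IsSaturated p) (h : sD K ≤ E) (hτ : F.Iso E E τ)
    (h1 : ∀ x ∈ sZ K, τ x ∈ sZ K) (h2 : ∀ x ∈ sZ2 K, τ x ∈ sZ2 K) (h3 : ∀ x ∈ sW K, τ x ∈ sW K)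
    (h4 : ∀ x ∈ sD K, τ x ∈ sD K) : ∃ α, F.Iso ⊤ ⊤ α ∧ ∀ x ∈ E, α x = τ x := by
  refine H4.Sp.exists_ext_top ((fn_of_D h).isReceptive hF (topP p)) (fun g _ => norm_of_D h g) hτ
    fun g _ => ?_
  have key : ∀ x ∈ E, x⁻¹ * (τ * cj g * τ⁻¹) x = τ (cm g (τ⁻¹ x)) := fun x hx => by
    rw [Perm.mul_apply, Perm.mul_apply, cj_apply, cj_eq, hτ.homOn (hτ.inv_mem hx) (h (cm_D _ _))]
    simp
  have k3 := W_D.trans h
  have k2 := Z2_W.trans k3
  have k1 := Z_Z2.trans k2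
  refine H4.Sp.mem_innS_of_chain ((fn_of_D h).isFullyAutomized hF (topP p)) (topP p)
    (C := ch (sZ K) (sZ2 K) (sW K) (sD K) E) (n := 5) (fun i hi => ?_) (fun i hi => ?_) rfl rfl
    (fun g _ _ i hi x hx => ?_) (hτ.conj (iso_cj_of_D h g)) fun i hi x hx => ?_
  · interval_cases i
    exacts [bot_le, k1, k2, k3, h, le_rfl]
  · interval_cases i
    exacts [bot_le, Z_Z2, Z2_W, W_D, h]
  · interval_cases i
    exacts [cm_eq_one.2 (comm_Z g hx), cm_Z' g hx, cm_Z2' g hx, cm_W' g hx, cm_D g x]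
  · interval_cases i
    · rw [key x (k1 hx), cm_eq_one.2 (comm_Z g (Uf.Ea.inv_maps h1 x hx)), hτ.homOn.map_one]
      exact one_mem _
    · rw [key x (k2 hx)]; exact h1 _ (cm_Z' g (Uf.Ea.inv_maps h2 x hx))
    · rw [key x (k3 hx)]; exact h2 _ (cm_Z2' g (Uf.Ea.inv_maps h3 x hx))
    · rw [key x (h hx)]; exact h3 _ (cm_W' g (Uf.Ea.inv_maps h4 x hx))
    · rw [key x hx]; exact h4 _ (cm_D _ _)

end Cfsg.Agent.D3
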