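import Cfsg.Agent.D3.I
import Cfsg.Agent.H4.Sp4S

/-! Essential subgroups inside `Q₁` and inside the rank one subgroups of `Q₂`. -/

set_option autoImplicit false
set_option linter.unusedSectionVars false

open Equiv

namespace Cfsg.Agent.D3.B1

open Cfsg.Fus Cfsg.FusionSystem U

variable {K : Type} [Field K] [TF K]

theorem hyp (α β : K) {r : K} (hr : φ r = r) : ∃ c d, tr (α * d) = 0 ∧ tr (β * c) = 0 ∧ tr (c * d) = r := by
  by_cases ha : α = 0
  · obtain ⟨c, h1, h2, -⟩ := perp2 β β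
    obtain ⟨d, hd⟩ := exists_tr h1 hr
    exact ⟨c, d, by simp [ha], h2, hd⟩
  · obtain ⟨m, hm⟩ := exists_tr ha (r := 1) (map_one _)
    obtain ⟨c, h1, h2, h3⟩ := perp2 β m
    obtain ⟨d, h4, h5⟩ := exists_tr2 (a := α) (b := c) (fun e => by
      obtain ⟨l, k, rfl⟩ := dep_of_wg ha e
      rw [mul_left_comm, tr_smul k, mul_comm m, hm, mul_one] at h3
      exact h1 (by rw [h3, zero_mul])) (map_zero _) hr
    exact ⟨c, d, h4, h2, h5⟩

theorem cm_I {g x : U K} (hg : g ∈ sI K) (hx : x ∈ sI K) :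
    cm g x = XE (tr (x.a * g.d) - tr (g.a * x.d)) (by rw [map_sub, φ_tr, φ_tr]) := by
  obtain ⟨h1, h2⟩ := hg
  obtain ⟨h3, h4⟩ := hx
  refine U.ext (cm_a ..) (cm_b ..) (by simp [cm_c, XE, *]) (by simp [cm_d, XE, *])
    (by simp [cm_e, cm_d, cm_c, XE, *]) (show _ = 0 from Eq.trans (by cmc) tr_zero)

variable [Finite K] {p : ℕ} [Fact p.Prime] [CharP K p] {F : FusionSystem (⊤ : Subgroup (U K))} {E : Subgroup (U K)}

theorem b1 (hF : F.IsSaturated p) (hE : F.IsEssential p E) (h : E ≤ Q1) : E = Q1 := by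
  refine le_antisymm h (by_contra fun hn => ?_)
  obtain ⟨τ, hτ, β, hβ, x, hx, v, rfl, k⟩ := qoU2' hF hE (B := Q1) (fun g hg x hx => Z_le hE (cm_Q1 hg (h hx)))
    (fun g hg y _ x hx => by rw [cm_eq_one.2 (comm_Z y (cm_Q1 hg (h hx)))]; exact one_mem _) hn
  have hv := h (hτ.mem (Z_le hE (cm_Q1 hβ (h hx))))
  generalize τ (cm β x) = v at k hv
  refine hn fun g hg => k g hg ?_
  obtain ⟨c, d, h1, h2, h3⟩ := hyp v.c v.d (cm g v).hf
  have k' : ∀ y ∈ Q1, (cm y v).f = 0 → y ∈ E := fun y hy e =>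
    k y hy (by rw [eq_of_Z (cm_Q1 hy hv) (one_mem _) e]; exact one_mem _)
  rw [eq_of_Z (cm_Q1 hg hv) (cm_Q1 (g := XD d) (x := XC c) rfl rfl) (by
    rw [← h3, cm_f_Q1 (g := XD d) (x := XC c) rfl rfl]; simp [XD, XC])]
  exact cm_mem_comm (k' _ rfl (by rw [cm_f_Q1 rfl hv]; simpa [XD] using h1))
    (k' _ rfl (by rw [cm_f_Q1 rfl hv]; simpa [XC, mul_comm] using h2))

theorem Z2_le (hE : F.IsEssential p E) (h : E ≤ Q2) : sZ2 K ≤ E := fun _ hx =>
  cent_of_comm hE.isCentric fun _ hg => comm_Z2 (h hg) hx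

variable [WD]

theorem not_I (hF : F.IsSaturated p) (hE : F.IsEssential p E) (h : E ≤ sI K) : False := by
  by_cases hn : sI K ≤ E
  · exact WD.noI hF (le_antisymm h hn ▸ hE)
  have z : ∀ g ∈ sI K, ∀ x ∈ E, cm g x ∈ sZ2 K := fun g hg x hx => cm_I hg (h hx) ▸ XE_mem _ _
  obtain ⟨τ, hτ, β, hβ, x, hx, v, rfl, k⟩ := qoU2' hF hE (B := sI K)
    (fun g hg x hx => Z2_le hE (h.trans I_Q2) (z g hg x hx))
    (fun g hg y hy x hx => by rw [cm_eq_one.2 (comm_Z2 (I_Q2 hy) (z g hg x hx))]; exact one_mem _) hn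
  have hv := h (hτ.mem (Z2_le hE (h.trans I_Q2) (z β hβ x hx)))
  generalize τ (cm β x) = v at k hv
  refine hn fun g hg => k g hg ?_
  obtain ⟨c, d, h1, h2, h3⟩ := hyp v.a v.d (cm g v).he
  have k' : ∀ y ∈ sI K, tr (v.a * y.d) - tr (y.a * v.d) = 0 → y ∈ E := fun y hy e =>
    k y hy (by rw [show cm y v = 1 from (cm_I hy hv).trans (U.ext rfl rfl rfl rfl e rfl)]; exact one_mem _)
  rw [show cm g v = cm (XD d) (XA c) by
    rw [cm_I (W_I (XD_mem d)) (XA_mem c), cm_I hg hv] at *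
    exact U.ext rfl rfl rfl rfl (by simpa [XD, XA, XE] using h3.symm) rfl]
  exact cm_mem_comm (k' _ (W_I (XD_mem d)) (by simpa [XD] using h1))
    (k' _ (XA_mem c) (by simpa [XA, mul_comm] using h2))

/-- no essential subgroup lies in a rank one subgroup `D_λ` -/
theorem not_D (hF : F.IsSaturated p) (hE : F.IsEssential p E) (h : E ≤ Q2) {α β : K} (hα : φ α = α) (hβ : φ β = β)
    (h0 : α ≠ 0 ∨ β ≠ 0) : ∃ x ∈ E, α * x.c - β * x.a ≠ 0 := by
  by_contra! hn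
  by_cases ha : α = 0
  · have := b1 hF hE fun x hx => by simpa [ha, h0.resolve_left (not_not.2 ha), mem_Q1] using hn x hx
    simpa [XB, mem_Q2] using h (this.ge (XB_mem 1 (map_one _)))
  · refine not_I hF (H4.Sp.essential_img hE (iso_cj_of_D le_top (XB (-β / α) (fix_div (by rw [map_neg, hβ]) hα))))
      ((Subgroup.closure_le _).2 ?_)
    rintro _ ⟨x, hx, rfl⟩
    refine ⟨(cj_b _ _).trans (h hx), (cj_c _ _).trans ?_⟩
    simp only [XB, zero_mul, sub_zero]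
    field_simp
    linear_combination hn x hx

end Cfsg.Agent.D3.B1
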