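import Cfsg.Agent.D3.B1a

/-! Essential subgroups inside `Q₂`; `instance : B14`. -/

set_option autoImplicit false
set_option linter.unusedSectionVars false

open Equiv

namespace Cfsg.Agent.D3.B1

open Cfsg.Fus Cfsg.FusionSystem U

variable {K : Type} [Field K] [TF K]

theorem rank1 {a c : K} (h : wg a c = 0) : ∃ α β x, φ α = α ∧ φ β = β ∧ (α ≠ 0 ∨ β ≠ 0) ∧ a = α * x ∧ c = β * x := by
  by_cases ha : a = 0
  · exact ⟨0, 1, c, map_zero _, map_one _, .inr one_ne_zero, by simp [ha], by simp⟩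
  · obtain ⟨l, h1, h2⟩ := dep_of_wg ha h
    exact ⟨1, l, a, map_one _, h1, .inl one_ne_zero, by simp, h2⟩

theorem ne_of_wg {a c : K} (h : wg a c ≠ 0) : a ≠ 0 := by rintro rfl; exact h (by kunf; ring)

theorem XD_d (t : K) : (XD t).d = t := rfl

theorem cm_W_Q2 {g x : U K} (hg : g ∈ sW K) (hx : x ∈ Q2) :
    (cm g x).e = tr (x.a * g.d) ∧ (cm g x).f = tr (x.c * g.d) := by
  simp [cm_e_D hg.1 hg.2.1, cm_f_D hg.1 hg.2.1, hg.2.2, mem_Q2.1 hx]

theorem Z2_of_d {x y : U K} (hx : x ∈ sW K) (hy : y ∈ sW K) (e : x.d = y.d) : x⁻¹ * y ∈ sZ2 K := by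
  obtain ⟨a, b, c⟩ := hx
  obtain ⟨a', b', c'⟩ := hy
  simp [mem_sZ2, mul_d', inv_d, *]

/-- characteristic `2`: an involution of rank one has its centraliser in `D_λ` -/
theorem two_cent (h2 : (2 : K) = 0) {v x : U K} (hv : v ∈ Q2) (hx : x ∈ Q2) {α β t l : K} (hα : φ α = α) (hβ : φ β = β)
    (h0 : α ≠ 0 ∨ β ≠ 0) (ha : v.a = α * t) (hc : v.c = β * t) (hl : φ l = l) (e : α * x.c - β * x.a = l * t)
    (hs : v * v = 1) (hm : x * v = v * x) : l * t = 0 := by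
  have : CharP K 2 := CharTwo.of_one_ne_zero_of_two_eq_zero one_ne_zero h2
  have e1 := congrArg U.e hm
  have e2 := congrArg U.f hm
  have e3 := congrArg U.e hs
  have e4 := congrArg U.f hs
  have f1 := congrArg φ e
  have f2 := congrArg φ f1
  simp only [mul_e', mul_f', mem_Q2.1 hv, mem_Q2.1 hx, ha, hc, one_e, one_f] at e1 e2 e3 e4
  kunf at e1 e2 e3 e4 f1 f2
  simp only [hα, hβ, hl] at e1 e2 e3 e4 f1 f2
  have k : l ^ 2 * nm t = 0 := by
    kunf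
    rcases h0 with h0 | h0 <;> refine mul_left_cancel₀ h0 ?_ <;> grind
  rcases mul_eq_zero.1 k with k | k
  · rw [pow_eq_zero_iff two_ne_zero |>.1 k, zero_mul]
  · rw [nm_eq_zero.1 k, mul_zero]

theorem indep {a c α β γ : K} (h : wg a c ≠ 0) (hα : φ α = α) (hβ : φ β = β) (hγ : φ γ = γ)
    (e : α * ad a + β * cr a c + γ * ad c = 0) : α = 0 ∧ β = 0 ∧ γ = 0 := by
  have f1 := congrArg φ e
  have f2 := congrArg φ f1
  have n := nm_ne_zero h
  kunf at e f1 f2 n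
  simp only [hα, hβ, hγ] at f1 f2
  refine ⟨mul_left_cancel₀ n ?_, mul_left_cancel₀ n ?_, mul_left_cancel₀ n ?_⟩ <;> grind

variable [Finite K] {p : ℕ} [Fact p.Prime] [CharP K p] {F : FusionSystem (⊤ : Subgroup (U K))} {E : Subgroup (U K)}
variable [WD]

theorem W_le (hF : F.IsSaturated p) (hE : F.IsEssential p E) (h : E ≤ Q2) : sW K ≤ E := by
  by_contra hn
  have hB : ∀ g ∈ sW K, ∀ x ∈ E, cm g x ∈ E := fun g hg x _ => Z2_le hE h (cm_Z2 hg x)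
  have hq : ∀ g ∈ sW K, ∀ y ∈ sW K, ∀ x ∈ E, cm y (cm g x) ∈ ⁅E, E⁆ := fun g hg y hy x _ => by
    rw [cm_eq_one.2 (comm_W hy (Z2_W (cm_Z2 hg x)))]; exact one_mem _
  obtain ⟨τ, hτ, β, hβ, x, hx, v, rfl, k⟩ := qoU2' hF hE hB hq hn
  have z := cm_Z2 hβ x
  obtain ⟨hv, hc⟩ := inv_center τ hτ _ ⟨hB β hβ x hx, Subgroup.mem_centralizer_iff.2 fun y hy => comm_Z2 (h hy) z⟩
  have hs : (2 : K) = 0 → τ (cm β x) * τ (cm β x) = 1 := fun h2 => by
    rw [← hτ.homOn (hB β hβ x hx) (hB β hβ x hx), eq_of_Z2 (mul_mem z z) (one_mem _) ?_ ?_, hτ.homOn.map_one] <;>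
      simp [mul_e', mul_f', z.2.2.1, z.2.2.2, ← two_mul, h2]
  generalize τ (cm β x) = v at k hv hc hs
  replace hc := Subgroup.mem_centralizer_iff.1 hc
  have hd : ∀ y ∈ E, cr v.a y.c - cr y.a v.c = 0 := fun y hy => by
    rw [← cm_d_Q2 (h hy) (h hv), cm_eq_one.2 (hc y hy), one_d]
  by_cases hw : wg v.a v.c = 0
  · obtain ⟨α, β, t, h1, h2, h0, ha, hb⟩ := rank1 hw
    have ht : t ≠ 0 := by
      rintro rfl
      exact hn fun g hg => k g hg (by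
        rw [cm_eq_one.2 (comm_W hg ⟨by simpa using ha, h hv, by simpa using hb⟩)]; exact one_mem _)
    obtain ⟨y, hy, e⟩ := not_D hF hE h h1 h2 h0
    have e' : cr t (α * y.c - β * y.a) = 0 := by
      rw [← hd y hy, ha, hb, cr_sub, cr_smul h1, cr_smul h2, cr_smul h2, smul_cr h1, cr_comm y.a]
    by_cases c2 : (2 : K) = 0
    · obtain ⟨l, hl, e''⟩ := cr_ker_two c2 ht e'
      exact e (e''.trans (two_cent c2 (h hv) (h hy) h1 h2 h0 ha hb hl e'' (hs c2) (hc y hy)))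
    · exact e (cr_eq_zero c2 ht e')
  have c2 : (2 : K) ≠ 0 := fun c2 => hw (by
    have := congrArg U.d (hs c2)
    rw [mul_d', mem_Q2.1 (h hv), one_d, cr_eq_wg c2] at this
    linear_combination this - v.d * c2)
  have k0 : ∀ g ∈ sW K, g ∈ E → tr (v.a * g.d) = 0 ∧ tr (v.c * g.d) = 0 := fun g hg hg' => by
    simpa [cm_eq_one.2 (hc g hg'), eq_comm] using cm_W_Q2 hg (h hv)
  have k1 : ∀ z ∈ sZ2 K, z ∈ ⁅E, E⁆ → z.e = 0 ∧ z.f = 0 := fun z hz hz' => by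
    obtain ⟨d, d1, d2⟩ := exists_tr2 hw z.he z.hf
    have w := cm_W_Q2 (XD_mem d) (h hv)
    exact d1 ▸ d2 ▸ k0 _ (XD_mem d) (k _ (XD_mem d)
      (eq_of_Z2 (cm_Z2 (XD_mem d) v) hz (w.1.trans d1) (w.2.trans d2) ▸ hz'))
  have k2 : XD (wg v.a v.c) ∈ E := k _ (XD_mem _) (by
    have w := cm_W_Q2 (XD_mem (wg v.a v.c)) (h hv)
    rw [eq_of_Z2 (cm_Z2 (XD_mem _) v) (one_mem _) (w.1.trans (tr_wg _ _)) (w.2.trans (tr_wg' _ _))]
    exact one_mem _)
  have k3 : ∀ y ∈ E, ∃ l, φ l = l ∧ y.a = l * v.a ∧ y.c = l * v.c := fun y hy => by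
    have w := cm_W_Q2 (XD_mem (wg v.a v.c)) (h hy)
    obtain ⟨w1, w2⟩ := k1 _ (cm_Z2 (XD_mem _) y) (cm_mem_comm k2 hy)
    obtain ⟨a1, b1, f1, f2, e1⟩ := span2 hw (w.1.symm.trans w1)
    obtain ⟨a2, b2, f3, f4, e2⟩ := span2 hw (w.2.symm.trans w2)
    obtain ⟨i1, i2, i3⟩ := indep hw (α := 2 * a2) (β := b2 - a1) (γ := -(2 * b1)) (by simp [f3, map_ofNat])
      (by simp [f1, f4]) (by simp [f2, map_ofNat]) (by
        have := hd y hy
        rw [e1, e2, cr_add, add_cr, cr_smul f3, cr_smul f4, smul_cr f1, smul_cr f2, cr_self, cr_self] at this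
        linear_combination this)
    exact ⟨a1, f1, by rw [e1, (mul_eq_zero.1 (neg_eq_zero.1 i3)).resolve_left c2]; ring,
      by rw [e2, (mul_eq_zero.1 i1).resolve_left c2, sub_eq_zero.1 i2]; ring⟩
  obtain ⟨m, hm⟩ := exists_tr (ne_of_wg hw) (r := 1) (map_one _)
  obtain ⟨b, hb, hb'⟩ := SetLike.not_le_iff_exists.1 hn
  choose d d1 d2 using fun y : Fx K × Fx K => exists_tr2 hw y.1.2 y.2.2
  have := qoU hF hE (B := sW K) hB hq hb hb' (fun y => (⟨tr (y.a * m), φ_tr _⟩ : Fx K)) (fun x hx y hy e => ?_)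
    (fun y => XD (d y)) (fun y => XD_mem _) fun y y' e => ?_
  · rw [Nat.card_prod] at this
    have := Finite.one_lt_card (α := Fx K)
    nlinarith
  · obtain ⟨l, l1, l2, l3⟩ := k3 x hx
    obtain ⟨l', l1', l2', l3'⟩ := k3 y hy
    obtain rfl : l = l' := by simpa [l2, l2', mul_assoc, tr_smul l1, tr_smul l1', hm] using e
    rw [cm_eq_one.2 (comm_W hb ⟨by simp [l2, l2'], (Q2.mul_mem (inv_mem (h hy)) (h hx) :),
      by simp [l3, l3', mem_Q2.1 (h hy)]⟩)]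
    exact one_mem _
  · have := k0 _ (mul_mem (inv_mem (XD_mem _)) (XD_mem _)) e
    simp only [mul_d', inv_d, XD, inv_b, inv_c, map_zero, mul_zero, add_zero, sub_zero, neg_zero, zero_cr,
      mul_add, mul_neg, tr_add, tr_neg, d1, d2, neg_add_eq_zero] at this
    exact Prod.ext (Subtype.ext this.1.symm) (Subtype.ext this.2.symm)

theorem Z2_comm (hF : F.IsSaturated p) (hE : F.IsEssential p E) (h : E ≤ Q2) : sZ2 K ≤ ⁅E, E⁆ := fun z hz => by
  have W := W_le hF hE h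
  obtain ⟨x, hx, ha⟩ := not_D hF hE h (map_zero _) (map_one _) (.inr one_ne_zero)
  replace ha : x.a ≠ 0 := by simpa using ha
  by_cases hw : wg x.a x.c = 0
  · obtain ⟨l, hl, e⟩ := dep_of_wg ha hw
    obtain ⟨y, hy, e'⟩ := not_D hF hE h (map_one _) hl (.inl one_ne_zero)
    obtain ⟨d, hd⟩ := exists_tr e' (r := z.f - l * z.e) (by simp [hl])
    obtain ⟨d', hd'⟩ := exists_tr ha (r := z.e - tr (y.a * d)) (by simp [φ_tr])
    have w := cm_W_Q2 (XD_mem d) (h hy)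
    have w' := cm_W_Q2 (XD_mem d') (h hx)
    have z1 := cm_Z2 (XD_mem d) y
    have z2 := cm_Z2 (XD_mem d') x
    rw [one_mul, sub_mul, tr_sub, mul_assoc, tr_smul hl] at hd
    rw [e, mul_assoc, tr_smul hl] at w'
    rw [← eq_of_Z2 (mul_mem z1 z2) hz ?_ ?_]
    · exact mul_mem (cm_mem_comm (W (XD_mem _)) hy) (cm_mem_comm (W (XD_mem _)) hx)
    all_goals simp only [mul_e', mul_f', cm_a, cm_b, z1.2.2.1, z2.2.2.1, w, w', XD_d, hd', zero_mul, mul_zero, tr_zero,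
      ad_zero]
    · ring
    · linear_combination hd
  · obtain ⟨d, d1, d2⟩ := exists_tr2 hw z.he z.hf
    have w := cm_W_Q2 (XD_mem d) (h hx)
    exact eq_of_Z2 (cm_Z2 (XD_mem d) x) hz (w.1.trans d1) (w.2.trans d2) ▸ cm_mem_comm (W (XD_mem _)) hx

/-- the element of `Q₂` with given `a`, `c` -/
def el (a c : K) : U K := ⟨a, 0, c, 0, 0, 0, map_zero _, map_zero _, map_zero _⟩

theorem b4 (hF : F.IsSaturated p) (hE : F.IsEssential p E) (h : E ≤ Q2) : E = Q2 := by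
  refine le_antisymm h (by_contra fun hn => ?_)
  have W := W_le hF hE h
  have Z := Z2_comm hF hE h
  obtain ⟨τ, hτ, β, hβ, x, hx, v, hτv, k⟩ := qoU2' hF hE (B := Q2) (fun g hg x hx => W (cm_Q2 hg (h hx)))
    (fun g hg y _ x hx => Z (cm_Z2' y (cm_Q2 hg (h hx)))) hn
  have w := cm_Q2 hβ (h hx)
  have hv : v ∈ E := hτv ▸ hτ.mem (W w)
  have k1 : ∀ g ∈ Q2, ∀ y ∈ E, ∀ z ∈ E, cr z.a y.c - cr y.a z.c = cr v.a g.c - cr g.a v.c → g ∈ E :=
    fun g hg y hy z hz e => k g hg ((mul_mem_cancel_left (inv_mem (cm_mem_comm hy hz))).1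
      (Z (Z2_of_d (cm_Q2 (h hy) (h hz)) (cm_Q2 hg (h hv)) (by rw [cm_d_Q2 (h hy) (h hz), cm_d_Q2 hg (h hv), e]))))
  have k0 : ∀ a c, cr v.a c = cr a v.c → el a c ∈ E := fun a c e =>
    k1 _ rfl 1 (one_mem _) 1 (one_mem _) (by simp [el, e])
  by_cases hw : wg v.a v.c = 0
  · obtain ⟨α, β, t, h1, h2, h0, ha, hb⟩ := rank1 hw
    have e0 : ∀ s a c, cr (α * s) c - cr a (β * s) = cr s (α * c - β * a) := fun s a c => by
      rw [cr_sub, cr_smul h1, cr_smul h2, cr_smul h2, smul_cr h1, cr_comm a]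
    have e1 : ∀ s, el (α * s) (β * s) ∈ E := fun s => k0 _ _ (by
      rw [ha, hb, smul_cr h1, smul_cr h1, cr_smul h2, cr_smul h2, cr_comm])
    obtain ⟨y, hy, e⟩ : ∃ y ∈ E, ∀ r, ∃ s, cr s (α * y.c - β * y.a) = cr t r := by
      by_cases c2 : (2 : K) = 0
      · obtain ⟨a, c, e⟩ : ∃ a c, α * c - β * a = t := by
          rcases h0 with h0 | h0
          exacts [⟨0, t / α, by field_simp; ring⟩, ⟨-t / β, 0, by field_simp; ring⟩]
        exact ⟨el a c, k0 _ _ (sub_eq_zero.1 (by rw [ha, hb, e0, e, cr_self, c2, zero_mul])),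
          fun r => ⟨r, by rw [cr_comm t, ← e]; rfl⟩⟩
      · obtain ⟨y, hy, e⟩ := not_D hF hE h h1 h2 h0
        exact ⟨y, hy, fun r => by simpa only [cr_comm] using cr_surj c2 e (cr t r)⟩
    refine hn fun g hg => ?_
    obtain ⟨s, hs⟩ := e (α * g.c - β * g.a)
    exact k1 g hg y hy _ (e1 s) (by rw [ha, hb, e0, ← hs]; exact e0 ..)
  have t2 : ∀ z ∈ sZ2 K, τ z ∈ sZ2 K := by
    simpa using Uf.Ea.inv_maps (σ := τ⁻¹) (A := sZ2 K) fun z hz => by
      obtain ⟨d, d1, d2⟩ := exists_tr2 hw z.he z.hf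
      have w' := cm_W_Q2 (XD_mem d) (h hv)
      rw [← eq_of_Z2 (cm_Z2 (XD_mem d) v) hz (w'.1.trans d1) (w'.2.trans d2), hτv, cm_left hτ (W (XD_mem d)) (W w)]
      simpa using cm_Z2' _ w
  have k2 : ∀ y ∈ E, ∀ z ∈ E, cr z.a y.c - cr y.a z.c = 0 := fun y hy z hz => by
    obtain ⟨s, t, e⟩ := cr_add_cr hw (cr z.a y.c - cr y.a z.c)
    have g := k1 (el (-t) s) rfl y hy z hz (by rw [e, cr_comm _ v.c, el, cr_neg]; ring)
    have := (t2 _ (cm_Z2' (τ⁻¹ (el (-t) s)) w)).2.2.2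
    rw [← cm_left hτ g (W w), ← hτv, cm_d_Q2 (h g) (h hv), cr_comm _ v.c, el, cr_neg] at this
    linear_combination e + this
  by_cases c2 : (2 : K) = 0
  · exact hw (by simpa [el, ← cr_eq_wg c2, cr_comm v.c] using (k2 _ (k0 0 v.a (by simp [cr_self, c2])) _
      (k0 v.c 0 (by simp [cr_self, c2]))))
  obtain ⟨r, hr⟩ : ∃ r, v.c = v.a * r := ⟨v.c / v.a, by field_simp [ne_of_wg hw]⟩
  have n : wg 1 r ≠ 0 := fun e => hw (by rw [hr]; kunf at e ⊢; linear_combination φ v.a * φ (φ v.a) * e)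
  obtain ⟨s, hs⟩ := exists_tr n (r := 1) (map_one _)
  have m : ∀ s, el (2 * v.a * s) (v.a * (s * (φ r + φ (φ r)) + φ s * (r - φ (φ r)) + φ (φ s) * (r - φ r))) ∈ E :=
    fun s => k0 _ _ (by rw [hr]; kunf; ring)
  have := k2 _ (m r) _ (m s)
  refine mul_ne_zero c2 (mul_ne_zero (ad_ne_zero (ne_of_wg hw)) n) ?_
  simp only [el] at this
  kunf at this hs ⊢
  linear_combination this - 2 * φ v.a * φ (φ v.a) * (φ (φ r) - φ r) * hs

instance instB14 : B14 := ⟨fun hF _ => b1 hF, fun hF _ => b4 hF⟩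

end Cfsg.Agent.D3.B1
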