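import Cfsg.Agent.D3.B5a

/-! Essential subgroups not inside `Q₁` contain `Z₂`; `instance : B2`. -/

set_option autoImplicit false
set_option linter.unusedSectionVars false

open Equiv

namespace Cfsg.Agent.D3.B2

open Cfsg.Fus Cfsg.FusionSystem U B1 B5

variable {K : Type} [Field K] [TF K] [Finite K] {E : Subgroup (U K)} {v : U K}
variable {p : ℕ} [Fact p.Prime] [CharP K p] {F : FusionSystem (⊤ : Subgroup (U K))}

theorem lin (hb : v.b ≠ 0) {x : U K} (h : x * v = v * x) : ∃ l, φ l = l ∧ x.a = l * v.a ∧ x.b = l * v.b ∧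
    cr v.a (2 * x.c - (2 * l * v.c + (l ^ 2 - l) * v.b * v.a)) = 0 := by
  have e1 := congrArg U.c (cm_eq_one.2 h)
  have e2 := congrArg U.d (cm_eq_one.2 h)
  rw [cm_c, one_c] at e1
  rw [cm_d, e1, one_d] at e2
  obtain ⟨l, hl, e⟩ : ∃ l, φ l = l ∧ x.b = l * v.b := ⟨_, fix_div x.hb v.hb, (div_mul_cancel₀ _ hb).symm⟩
  have a : x.a = l * v.a := mul_right_cancel₀ hb (by rw [e] at e1; linear_combination -e1)
  refine ⟨l, hl, a, e, ?_⟩
  rw [a, e] at e2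
  kunf at e2 ⊢
  simp only [hl, U.hb] at e2 ⊢
  linear_combination 2 * e2

theorem one {x : U K} (h : x = 1) : x ∈ E := h ▸ one_mem E

/-- the abelian configuration -/
structure Cf (E : Subgroup (U K)) (v : U K) : Prop where
  c2 : (2 : K) ≠ 0
  hv : v ∈ E
  a0 : v.a ≠ 0
  b0 : v.b ≠ 0
  ab : ∀ x ∈ E, ∀ y ∈ E, x * y = y * x
  all : ∀ l, φ l = l → ∃ x ∈ E, x.b = l
  E0 : ∀ w ∈ sW K, w * v = v * w → w ∈ E

theorem inW (c2 : (2 : K) ≠ 0) (a0 : v.a ≠ 0) (b0 : v.b ≠ 0) {x : U K} (h : x * v = v * x) (hb : x.b = 0) :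
    x ∈ sW K := by
  obtain ⟨l, -, e1, e2, e3⟩ := lin b0 h
  obtain rfl := (mul_eq_zero.1 (e2.symm.trans hb)).resolve_right b0
  exact ⟨by simpa using e1, hb, by simpa [c2] using cr_eq_zero c2 a0 e3⟩

variable (h : Cf E v)
include h

theorem Cf.W {x : U K} (hx : x ∈ E) (hb : x.b = 0) : x ∈ sW K := inW h.c2 h.a0 h.b0 (h.ab x hx v h.hv) hb

theorem Cf.cent {g : U K} (e : g * v = v * g) : g ∈ E := by
  obtain ⟨x, hx, k⟩ := h.all g.b g.hb
  have c : x⁻¹ * g * v = v * (x⁻¹ * g) := by rw [mul_assoc, e, ← mul_assoc, h.ab _ (inv_mem hx) v h.hv, mul_assoc]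
  exact (mul_mem_cancel_left (inv_mem hx)).1 (h.E0 _ (inW h.c2 h.a0 h.b0 c (by simp [k])) c)

theorem Cf.norm {g : U K} (e : cm g v ∈ E) : g ∈ Subgroup.normalizer (E : Set (U K)) :=
  inv_mem_iff.1 (Subgroup.mem_normalizer_fintype fun x hx => h.cent (by
    have := h.ab x hx _ (mul_mem h.hv e)
    rw [← cj_eq] at this
    calc _ = g⁻¹ * (x * (g * v * g⁻¹)) * g := by group
      _ = _ := by rw [this]; group))

theorem Cf.Z {z : U K} (hz : z ∈ sZ2 K) (h' : z ∈ E) : z.e = 0 := by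
  have := cm_f_Z2 v hz
  rw [cm_eq_one.2 (h.ab v h.hv z h'), one_f] at this
  exact (mul_eq_zero.1 this.symm).resolve_left h.b0

theorem Cf.ex {y : U K} (hy : y ∈ sW K) : ∃ g, cm g v = y := by
  obtain ⟨c, hc⟩ := cr_surj h.c2 h.a0 y.d
  obtain ⟨d, hd⟩ := exists_tr h.a0 (r := y.e - tr (ad v.a * c)) (by simp [φ_tr])
  let g : U K := ⟨0, 0, c, d, 0, 0, map_zero _, map_zero _, map_zero _⟩
  have m : cm g v ∈ sW K := cm_W ⟨rfl, rfl⟩ v
  refine ⟨⟨0, 0, c, d, ((cm g v).f - y.f) / v.b, 0, map_zero _, fix_div (by simp) v.hb, map_zero _⟩,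
    U.ext (by simp [hy.1]) (by simp [hy.2.1]) (by simp [cm_c, hy.2.2]) ((cm_d_D rfl rfl v).trans hc)
      (by rw [cm_e_D rfl rfl, hd]; ring) ?_⟩
  have := h.b0
  simp only [cm_f_D (g := g) rfl rfl, g]
  rw [cm_f_D rfl rfl]
  field_simp
  ring

theorem Cf.quad (hF : F.IsSaturated p) (hE : F.IsEssential p E) {c : K} (h1 : tr (ad v.a * c) = 0)
    (h2 : tr (v.a * ad c) = 0) : c = 0 := by
  by_contra c0
  obtain ⟨d, hd⟩ := exists_tr h.a0 (fix_div (φ_tr (v.c * cr v.a c)) v.hb)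
  let g : U K := ⟨0, 0, c, d, 0, 0, map_zero _, map_zero _, map_zero _⟩
  have m : ∀ x, cm g x ∈ sW K := cm_W ⟨rfl, rfl⟩
  have n := h.norm (g := g) (h.E0 _ (m v) (cm_eq_one.1 (eq_of_Z2 (cm_Z2' v (m v)) (one_mem _)
    (by rw [cm_e_W v (m v).1 (m v).2.1 (m v).2.2, cm_d_D rfl rfl, tr_cr_self, h1]; simp)
    (by rw [cm_f_W v (m v).1 (m v).2.1 (m v).2.2, cm_d_D rfl rfl, cm_e_D rfl rfl, h1, hd, add_zero,
      mul_div_cancel₀ _ h.b0, sub_self, one_f]))).symm)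
  let o : Option (Fx K) → U K := fun o => o.elim g fun t => XE t.1 (mem_Fx.1 t.2)
  have := qoU hF hE (B := Set.range o) ?_ ?_ ⟨some 1, rfl⟩ (fun e => one_ne_zero (h.Z (XE_mem _ _) e))
    (fun y => (⟨y.b, y.hb⟩ : Fx K)) (fun x hx y hy e => ?_) o (fun o => ⟨o, rfl⟩) fun o o' e => ?_
  · rw [Finite.card_option] at this
    omega
  · rintro _ ⟨_ | t, rfl⟩ x hx
    exacts [mul_mem (inv_mem hx) ((Subgroup.mem_normalizer_iff.1 n x).1 hx), Z_le hE (cm_Z (XE_mem _ _) x)]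
  · rintro _ ⟨_ | t, rfl⟩ _ ⟨o', rfl⟩ x hx
    · rcases o' with _ | t
      · obtain ⟨l, hl, e, -⟩ := lin h.b0 (h.ab x hx v h.hv)
        refine one (eq_of_Z (cm_Q1 rfl (m x).1) (one_mem _) ((cm_f_W g (m x).1 (m x).2.1 (m x).2.2).trans ?_))
        rw [cm_d_D rfl rfl, e, smul_cr hl, mul_left_comm, tr_smul hl, tr_cr, cr_self, mul_left_comm v.a,
          tr_smul (map_ofNat _ 2), h2]
        simp [g]
      · exact one (cm_eq_one.2 (comm_W (Z2_W (XE_mem _ _)) (m x)))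
    · exact one (cm_eq_one.2 (comm_Z _ (cm_Z (XE_mem _ _) x)))
  · exact one (cm_eq_one.2 (comm_Z2 (g := y⁻¹ * x) (by
      rw [mem_Q2, mul_b, inv_b, show x.b = y.b from congrArg Subtype.val e, neg_add_cancel]) (XE_mem _ _)).symm)
  · rcases o with _ | t <;> rcases o' with _ | t'
    · rfl
    · exact absurd (by simpa [o, g, XE] using (h.W e (by simp [o, g, XE])).2.2) c0
    · exact absurd (by simpa [o, g, XE] using (h.W e (by simp [o, g, XE])).2.2) c0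
    · have := h.Z (mul_mem (inv_mem (XE_mem _ _)) (XE_mem _ _)) e
      exact congrArg _ (Subtype.ext (Eq.symm (by simpa [mul_e', inv_e, XE, neg_add_eq_zero] using this)))

/-- a quadratic element of `Aut_S(E)` is a transvection to `Z` -/
theorem Cf.tv (hF : F.IsSaturated p) (hE : F.IsEssential p E) {g : U K} (n : ∀ x ∈ E, cm g x ∈ E)
    (q : cm g (cm g v) = 1) (ne : ∃ x ∈ E, cm g x ≠ 1) {y : U K} (hy : y ∈ sZ K) : ∃ x ∈ E, cm g x = y := by
  obtain ⟨s, hs, e⟩ := h.all g.b g.hb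
  have k : ∀ x ∈ E, cm g x = cm (s⁻¹ * g) x := fun x hx => by
    have := h.ab _ (inv_mem hs) _ (mul_mem hx (n x hx))
    rw [← cj_eq] at this
    calc _ = x⁻¹ * (s⁻¹ * (g * x * g⁻¹) * s) := by rw [this, cm]; group
      _ = _ := by rw [cm]; group
  have b : (s⁻¹ * g).b = 0 := by simp [e]
  rw [k _ (n v h.hv), k v h.hv] at q
  replace n := k v h.hv ▸ n v h.hv
  simp only [exists_congr fun x => and_congr_right fun hx => (k x hx).congr_left,
    exists_congr fun x => and_congr_right fun hx => (k x hx).congr_left.not] at ne ⊢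
  generalize s⁻¹ * g = r at b q n ne
  have w := h.W n (cm_b _ _)
  have a : r.a = 0 := by simpa [cm_c, b, h.b0] using w.2.2
  have c : r.c = 0 := h.quad hF hE (by
    have := congrArg U.e (cm_eq_one.2 (h.ab v h.hv _ n))
    rw [cm_e_W v w.1 w.2.1 w.2.2, cm_d_D a b, tr_cr_self] at this
    simpa [h.c2] using this) (by
    have := congrArg U.f q
    rw [cm_f_W r w.1 w.2.1 w.2.2, cm_d_D a b, tr_cr, cr_self, mul_left_comm, tr_smul (map_ofNat _ 2), b] at this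
    simpa [h.c2] using this)
  have t : tr (v.a * r.d) = 0 := (e_W ⟨a, b, c⟩ v).symm.trans (h.Z (cm_Z2 ⟨a, b, c⟩ v) n)
  have f : ∀ x ∈ E, cm r x ∈ sZ K ∧ v.b * (cm r x).f = x.b * (cm r v).f := fun x hx => by
    obtain ⟨l, hl, e1, e2, e3⟩ := lin h.b0 (h.ab x hx v h.hv)
    have e4 := congrArg (fun s => tr (s * r.d)) (sub_eq_zero.1 (cr_eq_zero h.c2 h.a0 e3))
    obtain ⟨a', b', c', d'⟩ := cm_Z2 ⟨a, b, c⟩ x
    simp only [add_mul, mul_assoc, tr_add, tr_smul (map_ofNat φ 2), tr_smul hl, tr_smul v.hb, t,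
      tr_smul (l := l ^ 2 - l) (by simp [hl])] at e4
    refine ⟨⟨a', b', c', d', by rw [e_W ⟨a, b, c⟩, e1, mul_assoc, tr_smul hl, t, mul_zero]⟩, mul_left_cancel₀ h.c2 ?_⟩
    simp only [cm_f_D a b, c, e1, e2, mul_assoc, tr_smul hl, t, cr_zero, ad_zero, mul_zero, zero_mul, tr_zero]
    linear_combination v.b * e4
  obtain ⟨x, hx, x1⟩ := ne
  have f0 : (cm r v).f ≠ 0 := fun f0 => x1 (eq_of_Z (f x hx).1 (one_mem _)
    (mul_left_cancel₀ h.b0 (by simp [(f x hx).2, f0])))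
  obtain ⟨x, hx, e'⟩ := h.all (v.b * y.f / (cm r v).f) (fix_div (by simp) (U.hf _))
  exact ⟨x, hx, eq_of_Z (f x hx).1 hy (mul_left_cancel₀ h.b0 (by rw [(f x hx).2, e', div_mul_cancel₀ _ f0]))⟩

end Cfsg.Agent.D3.B2
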