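import Cfsg.Agent.D3.Q

/-! Interface for `S5261` (see notes/d3.md). -/

set_option autoImplicit false
set_option linter.unusedSectionVars false

open Equiv

namespace Cfsg.Agent.D3

open Cfsg.Fus Cfsg.FusionSystem U

/-- Standard fusion systems. -/
structure Std {K : Type} [Field K] [TF K] [Finite K] (p : ℕ)
    (F : FusionSystem (⊤ : Subgroup (U K))) : Prop where
  sat : F.IsSaturated p
  e1 : F.IsEssential p Q1
  e2 : F.IsEssential p Q2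
  aut : ∀ α, F.Iso ⊤ ⊤ α → ∃ g s u hu γ, s ≠ 0 ∧ u ≠ 0 ∧ ∀ x, α x = g * au s u hu γ x * g⁻¹

/-- slice `WD` (SEMI, `W` is invariant, `D∞` is not essential) -/
class WD : Prop where
  wd : ∀ {K : Type} [Field K] [TF K] [Finite K] {p : ℕ} [Fact p.Prime] [CharP K p]
    {F : FusionSystem (⊤ : Subgroup (U K))}, F.IsSaturated p →
    ∀ τ, F.Iso (sD K) (sD K) τ → ∀ x ∈ sW K, τ x ∈ sW K
  noI : ∀ {K : Type} [Field K] [TF K] [Finite K] {p : ℕ} [Fact p.Prime] [CharP K p]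
    {F : FusionSystem (⊤ : Subgroup (U K))}, F.IsSaturated p → ¬ F.IsEssential p (sI K)

/-- slices `B1`, `B3`, `B4` -/
class B14 : Prop where
  b1 : ∀ {K : Type} [Field K] [TF K] [Finite K] {p : ℕ} [Fact p.Prime] [CharP K p]
    {F : FusionSystem (⊤ : Subgroup (U K))}, F.IsSaturated p →
    ∀ E, F.IsEssential p E → E ≤ Q1 → E = Q1
  b4 : ∀ {K : Type} [Field K] [TF K] [Finite K] {p : ℕ} [Fact p.Prime] [CharP K p]
    {F : FusionSystem (⊤ : Subgroup (U K))}, F.IsSaturated p →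
    ∀ E, F.IsEssential p E → E ≤ Q2 → E = Q2

/-- slice `B2` -/
class B2 : Prop where
  out : ∀ {K : Type} [Field K] [TF K] [Finite K] {p : ℕ} [Fact p.Prime] [CharP K p]
    {F : FusionSystem (⊤ : Subgroup (U K))}, F.IsSaturated p →
    ∀ E, F.IsEssential p E → ¬ E ≤ Q1 → sZ2 K ≤ E

/-- slices `B5`, `B6`, `B7` -/
class B57 : Prop where
  out : ∀ {K : Type} [Field K] [TF K] [Finite K] {p : ℕ} [Fact p.Prime] [CharP K p]
    {F : FusionSystem (⊤ : Subgroup (U K))}, F.IsSaturated p →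
    ∀ E, F.IsEssential p E → sZ2 K ≤ E → ¬ E ≤ Q1 → ¬ E ≤ Q2 → False

/-- slice `N` -/
class NN : Prop where
  out : ∀ {K : Type} [Field K] [TF K] [Finite K] {p : ℕ} [Fact p.Prime] [CharP K p]
    {F : FusionSystem (⊤ : Subgroup (U K))}, F.IsSaturated p → F.IsEssential p Q1 →
    F.IsEssential p Q2 → (∀ α, F.Iso ⊤ ⊤ α → ∀ x ∈ Q1, α x ∈ Q1) →
    ∃ F' : FusionSystem (⊤ : Subgroup (U K)), Std p F' ∧ (F'.IsRealizable p → F.IsRealizable p)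

/-- slice `L2` -/
class L2 : Prop where
  a : ∀ {K : Type} [Field K] [TF K] [Finite K] {p : ℕ} [Fact p.Prime] [CharP K p]
    {F : FusionSystem (⊤ : Subgroup (U K))}, Std p F →
    ∃ ω, F.Iso Q2 Q2 ω ∧ ∀ x ∈ Q2, (ω x).a = -x.c ∧ (ω x).c = x.a
  b : ∀ {K : Type} [Field K] [TF K] [Finite K] {p : ℕ} [Fact p.Prime] [CharP K p]
    {F : FusionSystem (⊤ : Subgroup (U K))}, Std p F → ∀ (c : K) (hc : φ c = c), c ≠ 0 →
    F.IsMap ⊤ (au c⁻¹ (c * c) (by rw [map_mul, hc]) 1)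
  c : ∀ {K : Type} [Field K] [TF K] [Finite K] {F : FusionSystem (⊤ : Subgroup (U K))} τ,
    F.Iso Q2 Q2 τ → (∀ x ∈ sD K, τ x ∈ sD K) ∨ ∃ g, ∀ x ∈ sD K, (g * τ x * g⁻¹).c = 0
  d : ∀ {K : Type} [Field K] [TF K] [Finite K] {p : ℕ} [Fact p.Prime] [CharP K p]
    {F : FusionSystem (⊤ : Subgroup (U K))}, F.IsSaturated p → ∀ τ, F.Iso Q2 Q2 τ →
    (∀ x ∈ sD K, τ x ∈ sD K) → ∃ α, F.Iso ⊤ ⊤ α ∧ ∀ x ∈ Q2, α x = τ x

/-- slice `L1` -/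
class L1 : Prop where
  a : ∀ {K : Type} [Field K] [TF K] [Finite K] {p : ℕ} [Fact p.Prime] [CharP K p]
    {F : FusionSystem (⊤ : Subgroup (U K))}, Std p F → ∃ ω, F.Iso Q1 Q1 ω ∧
    ∀ x ∈ Q1, (ω x).b = x.e ∧ (ω x).c = -x.d ∧ (ω x).d = x.c ∧ (ω x).e = -x.b
  b : ∀ {K : Type} [Field K] [TF K] [Finite K] {p : ℕ} [Fact p.Prime] [CharP K p]
    {F : FusionSystem (⊤ : Subgroup (U K))}, Std p F → ∀ k : K, k ≠ 0 →
    F.IsMap ⊤ (au (k * k) (nm k)⁻¹ (by rw [map_inv₀, φ_nm]) 1)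
  c : ∀ {K : Type} [Field K] [TF K] [Finite K] {p : ℕ} [Fact p.Prime] [CharP K p]
    {F : FusionSystem (⊤ : Subgroup (U K))}, Std p F → ∀ τ, F.Iso Q1 Q1 τ →
    (∀ x ∈ sZ2 K, τ x ∈ sZ2 K) ∨ ∃ g, ∀ x ∈ sZ2 K,
      (g * τ x * g⁻¹).c = 0 ∧ (g * τ x * g⁻¹).d = 0 ∧ (g * τ x * g⁻¹).e = 0
  d : ∀ {K : Type} [Field K] [TF K] [Finite K] {p : ℕ} [Fact p.Prime] [CharP K p]
    {F : FusionSystem (⊤ : Subgroup (U K))}, F.IsSaturated p → ∀ τ, F.Iso Q1 Q1 τ →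
    (∀ x ∈ sZ2 K, τ x ∈ sZ2 K) → ∃ α, F.Iso ⊤ ⊤ α ∧ ∀ x ∈ Q1, α x = τ x

/-- slice `LF`: the Weyl elements lie in `F` once the full torus does -/
class LF : Prop where
  f1 : ∀ {K : Type} [Field K] [TF K] [Finite K] {p : ℕ} [Fact p.Prime] [CharP K p]
    {F : FusionSystem (⊤ : Subgroup (U K))}, Std p F →
    (∀ s u hu, s ≠ 0 → u ≠ 0 → F.IsMap ⊤ (au s u hu 1)) → ∀ ω, F.Iso Q1 Q1 ω →
    (∀ x ∈ Q1, (ω x).b = x.e ∧ (ω x).c = -x.d ∧ (ω x).d = x.c ∧ (ω x).e = -x.b) → F.IsMap Q1 w1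
  f2 : ∀ {K : Type} [Field K] [TF K] [Finite K] {p : ℕ} [Fact p.Prime] [CharP K p]
    {F : FusionSystem (⊤ : Subgroup (U K))}, Std p F →
    (∀ s u hu, s ≠ 0 → u ≠ 0 → F.IsMap ⊤ (au s u hu 1)) → ∀ ω, F.Iso Q2 Q2 ω →
    (∀ x ∈ Q2, (ω x).a = -x.c ∧ (ω x).c = x.a) → F.IsMap Q2 w2

end Cfsg.Agent.D3
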