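import Cfsg.Agent.D3.B2a
import Cfsg.Agent.D3.I

/-! Essential subgroups not inside `Q₁` contain `Z₂`; `instance : B2`. -/

set_option autoImplicit false
set_option linter.unusedSectionVars false

open Equiv

namespace Cfsg.Agent.D3.B2

open Cfsg.Fus Cfsg.FusionSystem U B1 B5 Uf.E0

variable {K : Type} [Field K] [TF K] [Finite K] {E : Subgroup (U K)} {v : U K}
variable {p : ℕ} [Fact p.Prime] [CharP K p] {F : FusionSystem (⊤ : Subgroup (U K))}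

theorem ia {α : Type*} (f : Perm α) (x : α) : f⁻¹ (f x) = x := f.symm_apply_apply x
theorem ai {α : Type*} (f : Perm α) (x : α) : f (f⁻¹ x) = x := f.apply_symm_apply x
theorem cpow {G : Type*} [Group G] {t : G} {n : ℕ} (h : t ^ n = 1) (k : G) : (k⁻¹ * t * k) ^ n = 1 := by
  simpa [h] using conj_pow (i := n) (a := k⁻¹) (b := t)

theorem Cf.false (h : Cf E v) (hF : F.IsSaturated p) (hE : F.IsEssential p E) {τ : Perm (U K)} (hτ : F.Iso E E τ)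
    {z : U K} (hz : z ∈ sZ K) (e : v = τ z) : False := by
  have Z := Z_le hE
  have EE : ∀ x ∈ ⁅E, E⁆, x = 1 := fun x hx => Subgroup.mem_bot.1 ((Subgroup.commutator_le.2 fun a ha b hb =>
    Subgroup.mem_bot.2 (commutatorElement_eq_one_iff_mul_comm.2 (h.ab a ha b hb)) : ⁅E, E⁆ ≤ ⊥) hx)
  obtain ⟨Γ, _, _, _, P, ρ, h1, h2, h3, h4, h5⟩ :=
    H4.Sp.exists_setup (hE.isFullyNormalized.isFullyAutomized hF (topP p)) (Uf.E0.ab E) (fun x hx y hy => ab_mul hx hy)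
      (fun v => by
        obtain ⟨x, hx⟩ := QuotientGroup.mk_surjective (s := commutator E) (Additive.toMul v)
        exact ⟨x, x.2, by rw [Uf.E0.ab, dif_pos x.2]; exact congrArg Additive.ofMul hx⟩)
      fun τ hτ x hx h => (ab_eq_zero (hτ.mem hx)).2 (comm_inv hτ ((ab_eq_zero hx).1 h))
  have fx : ∀ s ∈ (P : Subgroup Γ), ∀ y ∈ sZ K, ρ s y = y := fun s hs y hy => by
    obtain ⟨g, -, -, k⟩ := mem_innS.1 ((h4 s).1 hs)
    rw [k y (Z hy), comm_Z g hy, mul_inv_cancel_right]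
  have tr : ∀ r hr, ∃ t ∈ (P : Subgroup Γ), ∀ x ∈ E, ρ t x = XE r hr * x * (XE r hr)⁻¹ := fun r hr => by
    have n := norm_of_cm fun x (_ : x ∈ E) => Z (cm_Z (XE_mem r hr) x)
    obtain ⟨t, ht⟩ := h2 _ (F.iso_cj hE.le trivial n)
    exact ⟨t, (h4 t).2 (mem_innS.2 ⟨_, trivial, n, ht⟩), ht⟩
  have star : ∀ κ, F.Iso E E κ → ∀ y ∈ sZ K, (κ y).b = 0 → κ y ∈ sZ K := fun κ hκ y hy hb => by
    obtain ⟨k, hk⟩ := h2 κ hκ
    rw [← hk y (Z hy)] at hb ⊢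
    obtain ⟨t, tP, ht⟩ := tr 1 (map_one _)
    obtain ⟨n, hn⟩ := P.isPGroup' ⟨t, tP⟩
    let H := (MulAction.stabilizer (Perm (U K)) y).comap ρ
    have PH : (P : Subgroup Γ) ≤ H := fun s hs => fx s hs y hy
    obtain ⟨a, ha⟩ := H6.exists_conj_elt_mem_sylow (x := (⟨k⁻¹ * t * k, show ρ _ y = y by
      rw [map_mul, map_mul, map_inv, Perm.mul_apply, Perm.mul_apply, ht _ ((h1 k).mem (Z hy)),
        ← comm_Z2 hb (XE_mem _ _), mul_inv_cancel_right, ia]⟩ : H)) (k := n) 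
          (Subtype.ext (cpow (congrArg Subtype.val hn) k)) (P.subtype PH)
    obtain ⟨g, -, g1, g2⟩ := mem_innS.1 ((h4 _).1 (show (a : Γ) * (k⁻¹ * t * k) * (a : Γ)⁻¹ ∈ (P : Subgroup Γ) from ha))
    have m := h1 (a * k⁻¹)
    have c : ∀ x ∈ E, cm g x = ρ (a * k⁻¹) (cm (XE 1 (map_one _)) ((ρ (a * k⁻¹))⁻¹ x)) := fun x hx => by
      have m' := m.inv_mem hx
      rw [cm, ← g2 x hx, cm, ← ht _ m', m.homOn (inv_mem m') ((h1 t).mem m'), m.homOn.map_inv m', ai,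
        ← map_inv, ← Perm.mul_apply, ← Perm.mul_apply, ← map_mul, ← map_mul]
      congr 3
      group
    have c' := fun x => cm_Z (XE_mem (1 : K) (map_one _)) x
    obtain ⟨x, hx, e⟩ := h.tv hF hE (g := g) (fun x hx => c x hx ▸ m.mem (Z (c' _))) (by
      rw [c v h.hv, c _ (m.mem (Z (c' _))), ia, cm_eq_one.2 (comm_Z _ (c' _)), m.homOn.map_one])
      ⟨_, m.mem h.hv, fun e => h.b0 (by
        rw [c _ (m.mem h.hv), ia, ← m.homOn.map_one] at e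
        exact mem_Q2_of_comm (cm_eq_one.1 ((ρ _).injective e)).symm)⟩ hy
    rw [c x hx, map_mul, Perm.mul_apply] at e
    replace e := (ρ a).injective (e.trans (show ρ a y = y from a.2).symm)
    rw [map_inv ρ k, Perm.inv_eq_iff_eq] at e
    exact e ▸ c' _
  have ka : ∀ y ∈ sZ K, (τ⁻¹ y).b = 0 → y = 1 := fun y hy hb => by
    have y' := star _ hτ.symm y hy hb
    obtain ⟨t, tP, ht⟩ := tr (-y.f / v.b) (fix_div (by simp) v.hb)
    obtain ⟨n, hn⟩ := P.isPGroup' ⟨t, tP⟩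
    obtain ⟨k, hk⟩ := h2 τ hτ
    have e1 : ρ k z = v := (hk z (Z hz)).trans e.symm
    have e2 : ρ k (τ⁻¹ y) = y := (hk _ (Z y')).trans (τ.apply_symm_apply y)
    have := H4.Sp.trick P (x := Uf.E0.ab E z) (d := Uf.E0.ab E (τ⁻¹ y)) (fun s hs => by rw [h5 s z (Z hz), fx s hs z hz])
      (fun s hs => by rw [h5 s _ (Z y'), fx s hs _ y']) (σ := k⁻¹ * t * k) (k := n)
      (cpow (congrArg Subtype.val hn) k)
      (by rw [mul_smul, mul_smul, inv_smul_eq_iff, h5 k _ (Z y'), e2, h5 t y (Z hy), fx t tP y hy])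
      (by rw [mul_smul, mul_smul, inv_smul_eq_iff, smul_add, h5 k _ (Z y'), e2, h5 k z (Z hz), e1, h5 t v h.hv,
        ht v h.hv, cj_eq, ← ab_mul h.hv (Z hy), eq_of_Z (cm_Z (XE_mem _ _) v) hy (by
          rw [cm_f_D rfl rfl]; simp [XE, mul_div_cancel₀ _ h.b0, neg_div])])
    rw [← e2, EE _ ((ab_eq_zero (Z y')).1 this), (h1 k).homOn.map_one]
  obtain ⟨d, d0, hd, -⟩ := perp2 v.a 0
  let w : U K := ⟨0, 0, 0, d, D3.tr (v.c * d) / v.b, 0, map_zero _, fix_div (φ_tr _) v.hb, map_zero _⟩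
  have w1 : w ∈ sW K := ⟨rfl, rfl, rfl⟩
  have w2 : w ∈ E := h.E0 w w1 (cm_eq_one.1 (eq_of_Z2 (cm_Z2' v w1) (one_mem _)
    (by rw [cm_e_W v rfl rfl rfl, hd]; simp) (by rw [cm_f_W v rfl rfl rfl, mul_div_cancel₀ _ h.b0]; simp [w]))).symm
  have X := fun t : Fx K => XF_mem t.1 (mem_Fx.1 t.2)
  obtain ⟨t, ht⟩ := (Finite.injective_iff_surjective
    (f := fun t : Fx K => (⟨(τ⁻¹ (XF t.1 (mem_Fx.1 t.2))).b, U.hb _⟩ : Fx K))).1 (fun t t' e => Subtype.ext (by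
      have := congrArg U.f (ka _ (mul_mem (inv_mem (X t)) (X t')) (by
        rw [hτ.symm.homOn (Z (inv_mem (X t))) (Z (X t')), hτ.symm.homOn.map_inv (Z (X t)), mul_b, inv_b,
          show (τ⁻¹ _).b = _ from congrArg Subtype.val e, neg_add_cancel]))
      simpa [mul_f', inv_f, XF, neg_add_eq_zero] using this)) ⟨(τ⁻¹ (v * w)⁻¹).b, U.hb _⟩
  have y1 := mul_mem w1 (Z2_W (Z_Z2 (X t)))
  have y2 := mul_mem w2 (Z (X t))
  obtain ⟨g, hg⟩ := h.ex y1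
  have i := F.iso_cj hE.le trivial (h.norm (hg ▸ y2))
  have e1 : (τ⁻¹ * cj g * τ) z = τ⁻¹ (v * (w * XF t.1 (mem_Fx.1 t.2))) := by
    rw [Perm.mul_apply, Perm.mul_apply, ← e, cj_apply, cj_eq, hg]
  have e2 := star _ (hτ.trans (i.trans hτ.symm)) z hz (by
    rw [e1, ← mul_assoc, hτ.symm.homOn (mul_mem h.hv w2) (Z (X t)), mul_b,
      show (τ⁻¹ (XF _ _)).b = (τ⁻¹ (v * w)⁻¹).b from congrArg Subtype.val ht, hτ.symm.homOn.map_inv (mul_mem h.hv w2), inv_b,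
      add_neg_cancel])
  rw [e1, hτ.symm.homOn h.hv y2, e, ia, mul_mem_cancel_left hz] at e2
  have e3 := star τ hτ _ e2 (by rw [ai]; exact y1.2.1)
  rw [ai] at e3
  exact d0 (by simpa [mul_d', w, XF] using e3.2.2.2.1)

theorem step (hE : F.IsEssential p E) (h1 : ¬ E ≤ Q1) (h2 : ¬ sZ2 K ≤ E) {τ : Perm (U K)} (hτ : F.Iso E E τ)
    {z : U K} (hz : z ∈ sZ K) (k : ∀ g ∈ sZ2 K, cm g (τ z) ∈ ⁅E, E⁆ → g ∈ E) :
    (∀ x ∈ E, x * τ z = τ z * x) ∧ (τ z).a ≠ 0 ∧ (τ z).b ≠ 0 := by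
  have c := Subgroup.mem_centralizer_iff.1
    (inv_center τ hτ z ⟨Z_le hE hz, Subgroup.mem_centralizer_iff.2 fun y _ => comm_Z y hz⟩).2
  have b : (τ z).b ≠ 0 := fun b => h2 fun g hg => k g hg (one (cm_eq_one.2 (comm_Z2 b hg).symm))
  refine ⟨c, fun a => h1 fun x hx => ?_, b⟩
  obtain ⟨l, -, e, -⟩ := lin b (c x hx)
  rw [mem_Q1, e, a, mul_zero]

theorem b2 (hF : F.IsSaturated p) (hE : F.IsEssential p E) (h1 : ¬ E ≤ Q1) : sZ2 K ≤ E := by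
  by_contra h2
  have Z := Z_le hE
  have hB : ∀ g ∈ sZ2 K, ∀ x ∈ E, cm g x ∈ E := fun g hg x _ => Z (cm_Z hg x)
  have hq : ∀ g ∈ sZ2 K, ∀ y ∈ sZ2 K, ∀ x ∈ E, cm y (cm g x) ∈ ⁅E, E⁆ := fun g hg y _ x _ =>
    one (cm_eq_one.2 (comm_Z y (cm_Z hg x)))
  obtain ⟨a, a0, ha⟩ : ∃ a : K, a ≠ 0 ∧ ∀ x ∈ E, ∃ l, φ l = l ∧ x.a = l * a := by
    obtain ⟨τ, hτ, β, hβ, x, -, v, rfl, k⟩ := qoU2' hF hE hB hq h2
    obtain ⟨c, a, b⟩ := step hE h1 h2 hτ (cm_Z hβ x) k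
    exact ⟨_, a, fun y hy => (lin b (c y hy)).imp fun l h => ⟨h.1, h.2.1⟩⟩
  let B : Subgroup (U K) :=
    { carrier := {w | w ∈ sW K ∧ tr (a * w.d) = 0}
      one_mem' := ⟨one_mem _, by simp⟩
      mul_mem' := fun {x y} hx hy => ⟨mul_mem hx.1 hy.1, by simp [mul_d', hy.1.1, mul_add, tr_add, hx.2, hy.2]⟩
      inv_mem' := fun {x} hx => ⟨inv_mem hx.1, by simp [inv_d, hx.1.1, tr_neg, hx.2]⟩ }
  have b1 : ∀ g ∈ B, ∀ x ∈ E, cm g x ∈ sZ K := fun g hg x hx => by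
    obtain ⟨l, hl, e⟩ := ha x hx
    obtain ⟨a', b', c', d'⟩ := cm_Z2 hg.1 x
    exact ⟨a', b', c', d', by rw [e_W hg.1, e, mul_assoc, tr_smul hl, hg.2, mul_zero]⟩
  have b2 : sZ2 K ≤ B := fun g hg => ⟨Z2_W hg, by simp [hg.2.2.2]⟩
  obtain ⟨τ, hτ, β, hβ, x, hx, v, e, k⟩ := qoU2' hF hE (B := B) (fun g hg x hx => Z (b1 g hg x hx))
    (fun g hg y _ x hx => one (cm_eq_one.2 (comm_Z y (b1 g hg x hx)))) fun h => h2 (b2.trans h)
  have z := b1 β hβ x hx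
  obtain ⟨c, a', b'⟩ := step hE h1 h2 hτ z fun g hg => e ▸ k g (b2 hg)
  rw [← e] at c a' b'
  have hv : v ∈ E := e ▸ hτ.mem (Z z)
  have c2 : (2 : K) ≠ 0 := fun c2 => by
    have : v * v = 1 := by rw [e, ← hτ.homOn (Z z) (Z z), sq_W c2 (Z2_W (Z_Z2 z)), hτ.homOn.map_one]
    have := congrArg U.c this
    rw [mul_c, ← two_mul, c2, zero_mul, zero_add, one_c] at this
    exact mul_ne_zero a' b' this
  have z2 : ∀ y ∈ sZ2 K, y ∈ E → y.e = 0 := fun y hy hy' => by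
    have := cm_f_Z2 v hy
    rw [cm_eq_one.2 (c y hy').symm, one_f] at this
    exact (mul_eq_zero.1 this.symm).resolve_left b'
  refine Cf.false ⟨c2, hv, a', b', fun x hx y hy => cm_eq_one.1 ?_, fun l hl => ?_, fun w hw h => k w ⟨hw, ?_⟩
    (one (cm_eq_one.2 h))⟩ hF hE hτ z e
  · obtain ⟨l, hl, l1, l2, l3⟩ := lin b' (c x hx)
    obtain ⟨m, hm, m1, m2, m3⟩ := lin b' (c y hy)
    have w := inW c2 a' b' (c _ (comm_le (cm_mem_comm hx hy))) (cm_b x y)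
    have w' : cm x y ∈ sZ2 K := ⟨w.1, w.2.1, w.2.2, mul_left_cancel₀ c2 (by
      rw [cm_d, ← cm_c, w.2.2, l1, l2, m1, m2]
      kunf at l3 m3 ⊢
      simp only [hl, hm, U.hb] at l3 m3 ⊢
      linear_combination m * l3 - l * m3)⟩
    have w'' : cm x y ∈ sZ K := ⟨w.1, w.2.1, w.2.2, w'.2.2.2, z2 _ w' (comm_le (cm_mem_comm hx hy))⟩
    let t := XE (-(cm x y).f / v.b) (fix_div (by simp) v.hb)
    have e' : cm t v = cm x y := eq_of_Z (cm_Z (XE_mem _ _) v) w'' (by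
      rw [cm_f_D rfl rfl]; simp [t, XE, mul_div_cancel₀ _ b', neg_div])
    exact e' ▸ cm_eq_one.2 (c t (k t (b2 (XE_mem _ _)) (e' ▸ cm_mem_comm hx hy)))
  · classical
    obtain ⟨s, hs⟩ := (Subtype.val_injective.bijective_of_nat_card_le (qoU hF hE (B := sZ2 K) hB hq
      (XE_mem 1 (map_one _)) (fun h => one_ne_zero (z2 _ (XE_mem _ _) h))
      (X := {l : Fx K // ∃ x ∈ E, x.b = l}) (fun y => if h : y ∈ E then ⟨⟨y.b, y.hb⟩, y, h, rfl⟩ else ⟨0, 1, one_mem _, rfl⟩)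
      (fun x hx y hy e => one (cm_eq_one.2 (comm_Z2 (g := y⁻¹ * x) (by
        rw [dif_pos hx, dif_pos hy] at e
        rw [mem_Q2, mul_b, inv_b, show x.b = y.b from congrArg (·.1.1) e, neg_add_cancel]) (XE_mem _ _)).symm))
      (fun t : Fx K => XE t.1 (mem_Fx.1 t.2)) (fun _ => XE_mem _ _) fun t t' e => Subtype.ext (Eq.symm (by
        simpa [mul_e', inv_e, XE, neg_add_eq_zero] using
          z2 _ (mul_mem (inv_mem (XE_mem _ _)) (XE_mem _ _)) e)))).2 ⟨l, hl⟩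
    simpa [hs] using s.2
  · obtain ⟨l, hl, e'⟩ := ha v hv
    have := e_W hw v
    rw [cm_eq_one.2 h, one_e, e', mul_assoc, tr_smul hl] at this
    exact (mul_eq_zero.1 this.symm).resolve_left fun l0 => a' (by rw [e', l0, zero_mul])

instance instB2 : B2 := ⟨fun hF _ => b2 hF⟩

end Cfsg.Agent.D3.B2
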