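import Cfsg.Agent.D3.B1b

/-! Essential subgroups containing `Z₂`, not inside `Q₂`, contain `W`; then `D`. -/

set_option autoImplicit false
set_option linter.unusedSectionVars false

open Equiv

namespace Cfsg.Agent.D3.B5

open Cfsg.Fus Cfsg.FusionSystem U B1

variable {K : Type} [Field K] [TF K] {E : Subgroup (U K)}

theorem cm_f_Z2 (g : U K) {x : U K} (hx : x ∈ sZ2 K) : (cm g x).f = g.b * x.e := by
  simp [cm_f_W g hx.1 hx.2.1 hx.2.2.1, hx.2.2.2]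

theorem Z_of_e {x y : U K} (hx : x ∈ sZ2 K) (hy : y ∈ sZ2 K) (e : x.e = y.e) : x⁻¹ * y ∈ sZ K := by
  obtain ⟨a, b, c, d⟩ := hx
  obtain ⟨a', b', c', d'⟩ := hy
  simp [mem_sZ, mul_d', inv_d, mul_e', inv_e, *]

theorem exists_Z {g z : U K} (hg : g.b ≠ 0) (hz : z ∈ sZ K) : ∃ t ht, cm g (XE t ht) = z :=
  ⟨z.f / g.b, fix_div z.hf g.hb, eq_of_Z (cm_Z' g (XE_mem _ _)) hz (by
    rw [cm_f_Z2 g (XE_mem _ _)]; exact mul_div_cancel₀ _ hg)⟩

theorem Z_comm (h2 : sZ2 K ≤ E) {g : U K} (hg : g ∈ E) (hb : g.b ≠ 0) : sZ K ≤ ⁅E, E⁆ := fun z hz => by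
  obtain ⟨t, ht, rfl⟩ := exists_Z hb hz
  exact cm_mem_comm hg (h2 (XE_mem _ _))

theorem sq_W (h2 : (2 : K) = 0) {w : U K} (hw : w ∈ sW K) : w * w = 1 := by
  obtain ⟨a, b, c⟩ := hw
  ext <;> simp [mul_d', mul_e', mul_f', ← two_mul, *]

theorem cm_mul (g x w : U K) : cm g (x * w) = w⁻¹ * cm g x * w * cm g w := by simp only [cm]; group

theorem e_W {g : U K} (hg : g ∈ sW K) (x : U K) : (cm g x).e = tr (x.a * g.d) := by
  simp [cm_e_D hg.1 hg.2.1, hg.2.2]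

variable [Finite K] {p : ℕ} [Fact p.Prime] [CharP K p] {F : FusionSystem (⊤ : Subgroup (U K))}

theorem W_le (hF : F.IsSaturated p) (hE : F.IsEssential p E) (h2 : sZ2 K ≤ E) {e : U K} (he : e ∈ E) (hb : e.b ≠ 0) :
    sW K ≤ E := by
  by_contra hn
  have Z := Z_comm h2 he hb
  obtain ⟨τ, hτ, β, hβ, x, hx, v, hτv, k⟩ := qoU2' hF hE (B := sW K) (fun g hg x _ => h2 (cm_Z2 hg x))
    (fun g hg y hy x _ => by rw [cm_eq_one.2 (comm_W hy (Z2_W (cm_Z2 hg x)))]; exact one_mem _) hn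
  have w := cm_Z2 hβ x
  generalize cm β x = w0 at w hτv
  have hv : v ∈ E := hτv ▸ hτ.mem (h2 w)
  have ha : v.a ≠ 0 := fun ha => hn fun g hg => k g hg (Z (cm_Q1 hg.1 ha))
  have k0 : ∀ g ∈ sW K, tr (v.a * g.d) = 0 → g ∈ E := fun g hg h => by
    obtain ⟨a, b, c, d⟩ := cm_Z2 hg v
    exact k g hg (Z ⟨a, b, c, d, (e_W hg v).trans h⟩)
  have k1 : ∀ y ∈ E, ∃ z ∈ sZ K, cm y v = τ z := fun y hy => ⟨_, cm_Z' _ w, hτv ▸ cm_left hτ hy (h2 w)⟩
  have k2 : ∀ y ∈ E, ∀ y' ∈ E, cm (cm y v) y' = 1 := fun y hy y' hy' => by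
    obtain ⟨z, hz, e⟩ := k1 y hy
    rw [e, cm_right hτ (h2 (Z_Z2 hz)) hy', cm_eq_one.2 (comm_Z _ hz).symm, hτ.homOn.map_one]
  have k3 : ∀ y ∈ E, ∃ l, φ l = l ∧ y.a = l * v.a := fun y hy => dep_of_perp ha fun d hd => by
    by_contra h
    refine hn fun g hg => k g hg ?_
    have f := fix_div (φ_tr (v.a * g.d)) (φ_tr (y.a * d))
    refine (mul_mem_cancel_left (inv_mem (cm_mem_comm (k0 _ (XD_mem (tr (v.a * g.d) / tr (y.a * d) * d)) ?_) hy))).1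
      (Z (Z_of_e (cm_Z2 (XD_mem _) y) (cm_Z2 hg v) ?_))
    · rw [XD_d, mul_left_comm, tr_smul f, hd, mul_zero]
    · rw [e_W (XD_mem _), e_W hg, XD_d, mul_left_comm, tr_smul f, div_mul_cancel₀ _ h]
  by_cases c2 : (2 : K) = 0
  · have s : ∀ z ∈ sZ2 K, τ z * τ z = 1 := fun z hz => by
      rw [← hτ.homOn (h2 hz) (h2 hz), sq_W c2 (Z2_W hz), hτ.homOn.map_one]
    have b0 : v.b = 0 := by
      have := congrArg U.c (hτv ▸ s _ w : v * v = 1)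
      rw [mul_c, ← two_mul, c2, zero_mul, zero_add, one_c] at this
      exact (mul_eq_zero.1 this).resolve_left ha
    obtain ⟨z, hz, e1⟩ := k1 e he
    have e2 := congrArg U.f (e1 ▸ s z (Z_Z2 hz) : cm e v * cm e v = 1)
    have e3 := congrArg U.e (k2 e he v hv)
    rw [sq_f_Q1 (cm_a e v), cm_c, b0, cm_b, mul_zero, sub_zero, mul_comm v.a, mul_assoc, tr_smul e.hb, one_f] at e2
    rw [cm_e_D (cm_a e v) (cm_b e v), cm_c, b0, mul_zero, sub_zero, ← mul_assoc, mul_comm (ad _), mul_ad,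
      tr_fix (l := nm v.a * e.b) (by rw [map_mul, φ_nm, e.hb]), one_e] at e3
    exact mul_ne_zero hb (mul_ne_zero (nm_ne_zero ha) hb) (by
      linear_combination e.b * e3 - e2 + ((cm e v).f - e.b * nm v.a * e.b) * c2)
  have k4 : ∀ y ∈ E, ∃ l, φ l = l ∧ y.a = l * v.a ∧ y.b = l * v.b := fun y hy => by
    obtain ⟨l, hl, e⟩ := k3 y hy
    have := congrArg U.d (k2 y hy v hv)
    rw [cm_d_D (cm_a y v) (cm_b y v), cm_c, e] at this
    exact ⟨l, hl, e, mul_left_cancel₀ ha (by linear_combination cr_eq_zero c2 ha this)⟩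
  have b0 : v.b ≠ 0 := fun b0 => by
    obtain ⟨l, -, -, e⟩ := k4 e he
    exact hb (by rw [e, b0, mul_zero])
  have tZ : ∀ z ∈ sZ K, τ z ∈ sZ K := by
    simpa using Uf.Ea.inv_maps (σ := τ⁻¹) (A := sZ K) fun z hz => by
      obtain ⟨t, ht, rfl⟩ := exists_Z b0 hz
      rw [hτv, cm_right hτ (h2 w) (h2 (XE_mem _ _))]
      simpa using cm_Z w _
  have k5 : ∀ y ∈ E, cm y v ∈ sZ K := fun y hy => by
    obtain ⟨z, hz, e⟩ := k1 y hy
    exact e ▸ tZ z hz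
  have k6 : ∀ y ∈ E, y.b = 0 → y ∈ sW K := fun y hy h => by
    obtain ⟨l, -, e1, e2⟩ := k4 y hy
    have a : y.a = 0 := by rw [e1, (mul_eq_zero.1 (e2.symm.trans h)).resolve_right b0, zero_mul]
    exact ⟨a, h, cr_eq_zero c2 ha ((cm_d_D a h v).symm.trans (k5 y hy).2.2.2.1)⟩
  have k7 : ∀ z ∈ sZ2 K, (τ z).b = 0 → z.e = 0 := fun z hz h => by
    by_contra h'
    have := Uf.Ea.inv_maps (σ := τ⁻¹) (A := E ⊓ sW K) (fun y hy => ⟨hτ.inv_mem hy.1, k6 _ (hτ.inv_mem hy.1) (by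
      have := cm_left hτ hy.1 (h2 hz)
      rw [cm_eq_one.2 (comm_W hy.2 (k6 _ (hτ.mem (h2 hz)) h)), ← hτ.homOn.map_one] at this
      have := congrArg U.f (τ.injective this)
      rw [cm_f_Z2 _ hz] at this
      exact (mul_eq_zero.1 this.symm).resolve_right h')⟩) w0 ⟨h2 w, Z2_W w⟩
    rw [inv_inv, ← hτv] at this
    exact ha this.2.1
  have k8 : ∀ y ∈ E, ∀ x ∈ E, cm y x ∈ sZ K := fun y hy x hx => by
    obtain ⟨t, ht⟩ := (Finite.injective_iff_surjective (f := fun t : Fx K => (⟨(τ (XE t.1 (mem_Fx.1 t.2))).b, U.hb _⟩ : Fx K))).1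
      (fun t t' e => Subtype.ext (by
        have := k7 _ (mul_mem (inv_mem (XE_mem _ (mem_Fx.1 t.2))) (XE_mem _ (mem_Fx.1 t'.2))) (by
          rw [hτ.homOn (h2 (inv_mem (XE_mem _ _))) (h2 (XE_mem _ _)), hτ.homOn.map_inv (h2 (XE_mem _ _)), mul_b, inv_b,
            show (τ _).b = _ from congrArg Subtype.val e, neg_add_cancel])
        simpa [mul_e', inv_e, XE, neg_add_eq_zero] using this)) ⟨x.b, x.hb⟩
    have m := hτ.mem (h2 (XE_mem _ (mem_Fx.1 t.2)))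
    have m' := mul_mem (inv_mem m) hx
    have w' := k6 _ m' (by rw [mul_b, inv_b, show (τ _).b = _ from congrArg Subtype.val ht, neg_add_cancel])
    have z : cm y (τ (XE t.1 (mem_Fx.1 t.2))) ∈ sZ K := cm_left hτ hy (h2 (XE_mem _ _)) ▸ tZ _ (cm_Z' _ (XE_mem _ _))
    obtain ⟨l, hl, e⟩ := k3 y hy
    obtain ⟨a, b, c, d⟩ := cm_Z2' y w'
    rw [← mul_inv_cancel_left (τ (XE t.1 (mem_Fx.1 t.2))) x, cm_mul, comm_Z _ z, mul_assoc (cm _ _), inv_mul_cancel, mul_one]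
    refine mul_mem z ⟨a, b, c, d, ?_⟩
    rw [cm_e_W y w'.1 w'.2.1 w'.2.2, e, mul_assoc, tr_smul hl, ← e_W w', (k5 _ m').2.2.2.2, mul_zero, neg_zero]
  obtain ⟨c, c0, hc, -⟩ := perp2 (ad v.a) 0
  obtain ⟨d, hd⟩ := exists_tr ha (fix_div (φ_tr (c * cr v.a v.c)) v.hb)
  let g : U K := ⟨0, 0, c, d, 0, 0, map_zero _, map_zero _, map_zero _⟩
  have h4 : ∀ x ∈ E, cm g x ∈ E ⊓ Subgroup.centralizer (E : Set (U K)) := fun x hx => by
    obtain ⟨l, hl, e1, -⟩ := k4 x hx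
    have w' : cm g x ∈ sW K := cm_W ⟨rfl, rfl⟩ x
    have d1 : (cm g x).d = l * cr v.a c := by rw [cm_d_D rfl rfl, e1, smul_cr hl]
    have d2 : tr (v.a * (cm g x).d) = 0 := by rw [d1, mul_left_comm, tr_smul hl, tr_cr_self, hc]; ring
    refine ⟨k0 _ w' d2, Subgroup.mem_centralizer_iff.2 fun y hy => cm_eq_one.1 ?_⟩
    obtain ⟨m, hm, f1, f2⟩ := k4 y hy
    have d3 := (k5 y hy).2.2.2.1
    rw [cm_d, f1, f2, smul_cr hm, ad_smul hm, show v.a * (m * v.b) - m * v.a * v.b = 0 by ring, cr_zero] at d3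
    refine eq_of_Z2 (cm_Z2' y w') (one_mem _) ?_ ?_
    · rw [cm_e_W y w'.1 w'.2.1 w'.2.2, f1, mul_assoc, tr_smul hm, d2, one_e]; ring
    · have d4 : tr (y.c * cr v.a c) = m * tr (c * cr v.a v.c) := by
        rw [cr_comm, tr_cr, cr_comm, show cr v.a y.c = m * cr v.a v.c + (m ^ 2 - m) * v.b * ad v.a by
          linear_combination d3, mul_add, tr_add, mul_left_comm c, tr_smul hm, mul_left_comm c,
          tr_smul (l := (m ^ 2 - m) * v.b) (by simp [hm]), mul_comm c (ad _), hc, mul_zero, add_zero]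
      rw [cm_f_W y w'.1 w'.2.1 w'.2.2, d1, cm_e_D rfl rfl, e1, ad_smul hl, f2, mul_assoc l, tr_smul hl,
        mul_assoc (l ^ 2), tr_smul (l := l ^ 2) (by rw [map_pow, hl]), hc, hd, mul_left_comm y.c, tr_smul hl, d4, one_f]
      field_simp
      ring
  have EZ : ⁅E, E⁆ ≤ sZ K := Subgroup.commutator_le.2 fun x hx y hy => by
    simpa [cm_eq] using k8 y hy x⁻¹ (inv_mem hx)
  exact c0 (k6 g (mem_of_chain hE (EZ.trans (Z_le hE)) inf_le_left inf_le_left inf_le_left inv_comm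
    inv_center inv_center inv_center (fun x hx => comm_Z g (EZ hx)) (fun x hx => Z (cm_Q1 rfl (k6 x hx.1
      (mem_Q2_of_comm (Subgroup.mem_centralizer_iff.1 hx.2 _ (h2 (XE_mem _ _))).symm)).1)) (fun x hx => h4 x hx.1)
    (fun x hx => h4 x hx.1) h4) rfl).2.2

theorem Z2_comm (Z : sZ K ≤ ⁅E, E⁆) (W : sW K ≤ E) {g : U K} (hg : g ∈ E) (ha : g.a ≠ 0) : sZ2 K ≤ ⁅E, E⁆ :=
  fun z hz => by
    obtain ⟨d, hd⟩ := exists_tr ha z.he
    exact (mul_mem_cancel_left (inv_mem (cm_mem_comm (W (XD_mem d)) hg))).1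
      (Z (Z_of_e (cm_Z2 (XD_mem d) g) hz ((e_W (XD_mem d) g).trans hd)))

theorem D_le (hF : F.IsSaturated p) (hE : F.IsEssential p E) (W : sW K ≤ E) {e : U K} (he : e ∈ E) (hb : e.b ≠ 0) :
    sD K ≤ E := by
  by_contra hn
  have h2 := Z2_W.trans W
  have Z := Z_comm h2 he hb
  have hB : ∀ g ∈ sD K, ∀ x ∈ E, cm g x ∈ E := fun g hg x _ => W (cm_W hg x)
  have hq : ∀ g ∈ sD K, ∀ y ∈ sD K, ∀ x ∈ E, cm y (cm g x) ∈ ⁅E, E⁆ := fun g _ y hy x _ => Z (cm_Q1 hy.1 (cm_a g x))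
  obtain ⟨τ, hτ, β, hβ, x, hx, v, hτv, k⟩ := qoU2' hF hE hB hq hn
  have w := cm_W hβ x
  generalize cm β x = w0 at w hτv
  have ha : v.a ≠ 0 := fun ha => hn fun g hg => k g hg (Z (cm_Q1 hg.1 ha))
  have k1 : ∀ d, τ⁻¹ (cm (XD d) v) ∈ sZ2 K := fun d => by
    rw [hτv, cm_left hτ (W (XD_mem d)) (W w)]
    simpa using cm_Z2' _ w
  have k2 : ∀ z ∈ sZ K, τ⁻¹ z ∈ sZ2 K := fun z hz => by
    obtain ⟨d, hd⟩ := exists_tr ha (fix_div z.hf e.hb)
    have m := cm_Z2 (XD_mem d) v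
    rw [eq_of_Z hz (cm_Z' e m) (by rw [cm_f_Z2 e m, e_W (XD_mem d), XD_d, hd, mul_div_cancel₀ _ hb]),
      map_cm hτ.symm he (h2 m)]
    exact Z_Z2 (cm_Z' _ (k1 d))
  have t2 : ∀ z ∈ sZ2 K, τ z ∈ sZ2 K := by
    simpa using Uf.Ea.inv_maps (σ := τ⁻¹) (A := sZ2 K) fun z hz => by
      obtain ⟨d, hd⟩ := exists_tr ha z.he
      have m := cm_Z2 (XD_mem d) v
      have m' := Z_of_e m hz ((e_W (XD_mem d) v).trans hd)
      rw [← mul_inv_cancel_left (cm (XD d) v) z, hτ.symm.homOn (h2 m) (h2 (Z_Z2 m'))]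
      exact mul_mem (k1 d) (k2 _ m')
  have k3 : ∀ y ∈ E, cm y v ∈ sZ2 K := fun y hy => hτv ▸ cm_left hτ hy (W w) ▸ t2 _ (cm_Z2' _ w)
  have k4 : ∀ y ∈ E, v.a * y.b - y.a * v.b = 0 := fun y hy => (cm_c y v).symm.trans (k3 y hy).2.2.1
  have b0 : v.b ≠ 0 := fun b0 => mul_ne_zero ha hb (by simpa [b0] using k4 e he)
  have c2 : (2 : K) ≠ 0 := fun c2 => by
    have : v * v = 1 := by rw [hτv, ← hτ.homOn (W w) (W w), sq_W c2 w, hτ.homOn.map_one]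
    have := congrArg U.c this
    rw [mul_c, ← two_mul, c2, zero_mul, zero_add, one_c] at this
    exact mul_ne_zero ha b0 this
  obtain ⟨b, h1, h1'⟩ := SetLike.not_le_iff_exists.1 hn
  obtain ⟨t, ht⟩ := TF.ne (K := K)
  refine (((Fx K).subtype.injective.bijective_of_nat_card_le (qoU hF hE (B := sD K) hB hq h1 h1'
    (fun y => (⟨y.b, y.hb⟩ : Fx K)) (fun x hx y hy e => Z (cm_Q1 h1.1 ?_)) XC XC_mem fun y y' e => ?_)).2 t).elim
    fun s hs => ht (hs ▸ s.2)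
  · have := k4 _ (mul_mem (inv_mem hy) hx)
    rw [mul_b, inv_b, show x.b = y.b from congrArg Subtype.val e, neg_add_cancel, mul_zero, zero_sub, neg_eq_zero] at this
    exact (mul_eq_zero.1 this).resolve_right b0
  · have m := mul_mem (inv_mem (XC_mem y')) (XC_mem y)
    have := cr_eq_zero c2 ha ((cm_d_D m.1 m.2 v).symm.trans (k3 _ e).2.2.2)
    simpa [XC, neg_add_eq_zero, eq_comm] using this

end Cfsg.Agent.D3.B5
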