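import Cfsg.Agent.D3.I

/-! The twisted field plane is not Desarguesian: `W` is invariant. -/

set_option autoImplicit false
set_option linter.unusedSectionVars false
set_option linter.style.haveILetI false

open Equiv

namespace Cfsg.Agent.D3

open Cfsg.Fus Cfsg.FusionSystem U H4.Sp

namespace Semi

variable {K : Type*} [Field K] [TF K] [Finite K] {Γ : Type*} [Group Γ] [Finite Γ]
  [DistribMulAction Γ (K × K)] {p : ℕ} [Fact p.Prime] {P : Sylow p Γ}

/-- `P` acts by the cross product. -/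
structure Cq (K : Type*) [Field K] [TF K] [DistribMulAction Γ (K × K)] (P : Subgroup Γ) : Prop where
  form : ∀ s ∈ P, ∃ t : K, ∀ x y : K, s • (x, y) = (x, y + cr t x)
  surj : ∀ t : K, ∃ s ∈ P, ∀ x y : K, s • (x, y) = (x, y + cr t x)
  iso : (2 : K) = 0 → ∀ (g : Γ) (y y' : K), tr ((g • ((0 : K), y)).1 * (g • ((0 : K), y')).2) =
    tr ((g • ((0 : K), y')).1 * (g • ((0 : K), y)).2)

theorem Cq.disj (h : Cq K (P : Subgroup Γ)) (a : Γ) {y : K} (hy : y ≠ 0)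
    (h0 : (a • ((0 : K), y)).1 = 0) (y' : K) : (a • ((0 : K), y')).1 = 0 := by
  by_contra hv
  obtain ⟨t, ht⟩ : ∃ t, cr (a • ((0 : K), y')).1 t = (a • ((0 : K), y)).2 := by
    by_cases h2 : (2 : K) = 0
    · exact cr_surj_two h2 hv (by rw [h.iso h2 a y' y, h0, zero_mul, tr_zero])
    · exact cr_surj h2 hv _
  obtain ⟨s, hs, e⟩ := h.surj t
  obtain ⟨k, hk⟩ := sylow_pow P hs a
  have fx : ∀ z : K, ∀ s ∈ (P : Subgroup Γ), s • ((0 : K), z) = (0, z) := fun z s hs => by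
    obtain ⟨t, ht⟩ := h.form s hs
    simp [ht]
  have := trick P (fx y') (fx y) hk (by
    rw [mul_smul, mul_smul, inv_smul_eq_iff, ← Prod.eta (a • ((0 : K), y)), e, h0]; simp) (by
    rw [mul_smul, mul_smul, inv_smul_eq_iff, smul_add, ← Prod.eta (a • ((0 : K), y')), e]
    exact Prod.ext (by simp [h0]) (by simp [cr_comm t, ht]))
  exact hy (congrArg Prod.snd this)

theorem iv (h2 : (2 : K) ≠ 0) {t x y : K} (ht : t ≠ 0) (h : cr t x = y) :
    2 * nm t * x = -t ^ 2 * y + t * φ t * φ y + t * φ (φ t) * φ (φ y) :=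
  sub_eq_zero.1 (cr_eq_zero h2 ht (by
    rw [cr_sub, cr_inv, cr_smul (by rw [map_mul, φ_nm, map_ofNat]), h, sub_self]))

theorem Cq.inv (h : Cq K (P : Subgroup Γ)) (g : Γ) (y₀ : K) : (g • ((0 : K), y₀)).1 = 0 := by
  by_contra hg
  have inj : ∀ y : K, (g • ((0 : K), y)).1 = 0 → y = 0 := fun y hy => by
    by_contra h0
    exact hg (h.disj g h0 hy y₀)
  have sub : ∀ y y' : K, g • ((0 : K), y) - g • ((0 : K), y') = g • ((0 : K), y - y') :=
    fun y y' => by rw [← smul_sub]; simp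
  have sur : Function.Surjective fun y : K => (g • ((0 : K), y)).1 :=
    Finite.injective_iff_surjective.1 fun y y' e =>
      sub_eq_zero.1 (inj _ (by rw [← sub, Prod.fst_sub]; exact sub_eq_zero.2 e))
  have hy₀ : y₀ ≠ 0 := by rintro rfl; exact hg (congrArg Prod.fst (smul_zero g))
  by_cases h2 : (2 : K) = 0
  · obtain ⟨s, -, e⟩ := h.surj (g • ((0 : K), y₀)).1
    refine hg (eq_zero_of_cr fun x => ?_)
    obtain ⟨y, rfl⟩ := sur x
    have e1 := h.disj (g⁻¹ * s * g) hy₀ (by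
      rw [mul_smul, mul_smul, ← Prod.eta (g • ((0 : K), y₀)), e, cr_self, h2, zero_mul, add_zero,
        Prod.eta, inv_smul_smul]) y
    have e2 : g • ((0 : K), ((g⁻¹ * s * g) • ((0 : K), y)).2) = s • g • ((0 : K), y) := by
      rw [eta0 e1, mul_smul, mul_smul, smul_inv_smul]
    have e3 := sub ((g⁻¹ * s * g) • ((0 : K), y)).2 y
    rw [e2, ← Prod.eta (g • ((0 : K), y)), e] at e3
    have e4 := inj _ (by rw [← e3]; simp)
    rw [e4] at e3
    simpa using congrArg Prod.snd (e3.trans (smul_zero g))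
  have f1 : ∀ s ∈ (P : Subgroup Γ), ∀ v : K × K, ∃ y : K, (g * s * g⁻¹) • v = v + g • ((0 : K), y) :=
    fun s hs v => by
      obtain ⟨t, e⟩ := h.form s hs
      refine ⟨cr t (g⁻¹ • v).1, ?_⟩
      rw [mul_smul, mul_smul, ← Prod.eta (g⁻¹ • v), e, show ((g⁻¹ • v).1,
        (g⁻¹ • v).2 + cr t (g⁻¹ • v).1) = g⁻¹ • v + (0, cr t (g⁻¹ • v).1) from
        Prod.ext (by simp) (by simp), smul_add, smul_inv_smul]
  have f2 : ∀ s ∈ (P : Subgroup Γ), ∀ y : K, (g * s * g⁻¹) • g • ((0 : K), y) = g • ((0 : K), y) :=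
    fun s hs y => by
      obtain ⟨t, e⟩ := h.form s hs
      rw [mul_smul, inv_smul_smul, mul_smul, e]; simp
  have f3 : ∀ s ∈ (P : Subgroup Γ), ∀ t, cr t ((g * s * g⁻¹) • ((0 : K), (1 : K))).1 = 1 →
      ∀ y : K, cr t ((g * s * g⁻¹) • ((0 : K), y)).1 = y := fun s hs t ht y => by
    obtain ⟨s₁, -, e⟩ := h.surj t
    obtain ⟨y₁, e1⟩ := f1 s hs (0, 1)
    have n1 : y₁ ≠ 0 := by
      rintro rfl
      rw [e1, show ((0 : K), (0 : K)) = 0 from rfl, smul_zero] at ht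
      simp at ht
    have e2 := h.disj ((g * s * g⁻¹)⁻¹ * s₁ * g) n1 (by
      rw [mul_smul, mul_smul, ← Prod.eta (g • ((0 : K), y₁)), e]
      have : ((g • ((0 : K), y₁)).1, (g • ((0 : K), y₁)).2 + cr t (g • ((0 : K), y₁)).1) =
          (g * s * g⁻¹) • ((0 : K), (1 : K)) := by
        rw [e1] at ht ⊢
        simp only [Prod.fst_add, zero_add] at ht
        exact Prod.ext (by simp) (by simp [ht, add_comm])
      rw [this, inv_smul_smul])
    obtain ⟨y₂, e3⟩ := f1 s hs (0, y)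
    have e4 := eta0 (e2 y₂)
    generalize (((g * s * g⁻¹)⁻¹ * s₁ * g) • ((0 : K), y₂)).2 = y₃ at e4
    rw [mul_smul, mul_smul, eq_inv_smul_iff, ← Prod.eta (g • ((0 : K), y₂)), e] at e4
    obtain ⟨y₄, e5⟩ := f1 s hs (0, y₃)
    rw [e5] at e4
    have e6 : y₄ = y₂ := sub_eq_zero.1 (inj _ (by
      rw [← sub, Prod.fst_sub, sub_eq_zero]; simpa using congrArg Prod.fst e4))
    have e7 : y₃ = cr t (g • ((0 : K), y₂)).1 := by
      have := congrArg Prod.snd e4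
      simp only [e6, Prod.snd_add] at this
      linear_combination this
    have e8 : (g * s * g⁻¹) • ((0 : K), y₃ - y) = (0, y₃ - y) := by
      rw [show ((0 : K), y₃ - y) = (0, y₃) - (0, y) by simp, smul_sub, e5, e3, e6]; simp
    rw [e3, Prod.fst_add, zero_add, ← e7]
    by_contra hne
    have e9 := h.disj _ (sub_ne_zero.2 hne) (by rw [e8]) 1
    rw [e9] at ht
    simp at ht
  have f4 : ∀ t, t ≠ 0 → ∃ s ∈ (P : Subgroup Γ), ∀ y : K,
      2 * nm t * ((g * s * g⁻¹) • ((0 : K), y)).1 =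
        -t ^ 2 * y + t * φ t * φ y + t * φ (φ t) * φ (φ y) := fun t ht => by
    obtain ⟨x, hx⟩ := cr_surj h2 ht 1
    obtain ⟨y, rfl⟩ := sur x
    have hz : (g⁻¹ • ((0 : K), (1 : K))).1 ≠ 0 := fun hz => by
      have e1 : g • ((0 : K), (g⁻¹ • ((0 : K), (1 : K))).2) = (0, 1) := by
        rw [eta0 hz, smul_inv_smul]
      have e2 := inj _ (by rw [e1])
      rw [e2] at e1
      simpa using congrArg Prod.snd ((smul_zero g).symm.trans e1)
    obtain ⟨r, hr⟩ := cr_surj h2 hz y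
    obtain ⟨s, hs, e⟩ := h.surj r
    refine ⟨s, hs, fun y' => iv h2 ht (f3 s hs t ?_ y')⟩
    rw [mul_smul, mul_smul, ← Prod.eta (g⁻¹ • ((0 : K), (1 : K))), e, cr_comm r, hr,
      show ((g⁻¹ • ((0 : K), (1 : K))).1, (g⁻¹ • ((0 : K), (1 : K))).2 + y) =
        g⁻¹ • ((0 : K), (1 : K)) + (0, y) from Prod.ext (by simp) (by simp), smul_add,
      smul_inv_smul]
    simpa using hx
  obtain ⟨θ, hθ⟩ := TF.ne (K := K)
  have h0 : θ ≠ 0 := by rintro rfl; exact hθ (map_zero _)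
  have hN := nm_ne_zero h0
  obtain ⟨s₁, m1, a1⟩ := f4 1 one_ne_zero
  obtain ⟨s₂, m2, a2⟩ := f4 θ h0
  have add : ∀ y : K, ((g * (s₁ * s₂) * g⁻¹) • ((0 : K), y)).1 =
      ((g * s₁ * g⁻¹) • ((0 : K), y)).1 + ((g * s₂ * g⁻¹) • ((0 : K), y)).1 := fun y => by
    obtain ⟨y₂, e⟩ := f1 s₂ m2 (0, y)
    rw [show g * (s₁ * s₂) * g⁻¹ = g * s₁ * g⁻¹ * (g * s₂ * g⁻¹) by group, mul_smul _ _ (0, y), e,
      smul_add, f2 s₁ m1]
    simp
  have key : ∀ A r : K, φ A = A → (∀ y : K, A * ((g * (s₁ * s₂) * g⁻¹) • ((0 : K), y)).1 =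
      -r ^ 2 * y + r * φ r * φ y + r * φ (φ r) * φ (φ y)) → A = 0 := fun A r hA e => by
    obtain ⟨c1, c2, -⟩ := ded (α := 2 * nm θ * r ^ 2 - A * (nm θ + θ ^ 2))
      (β := A * (nm θ + θ * φ θ) - 2 * nm θ * r * φ r)
      (γ := A * (nm θ + θ * φ (φ θ)) - 2 * nm θ * r * φ (φ r)) fun y => by
        have e1 := a1 y
        have e2 := a2 y
        have e3 := e y
        rw [add] at e3
        simp only [nm_one, map_one] at e1
        linear_combination 2 * nm θ * e3 - A * nm θ * e1 - A * e2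
    have c3 := congrArg φ c1
    simp only [map_sub, map_mul, map_add, map_pow, map_ofNat, φ_nm, hA, map_zero] at c3
    have : A ^ 2 * nm θ * (φ θ - θ) ^ 2 = 0 := by
      linear_combination (A * (nm θ + θ * φ θ) + 2 * nm θ * r * φ r) * (-c2) -
        (A * (nm θ + φ θ ^ 2)) * c1 - 2 * nm θ * r ^ 2 * c3
    simpa [hN, sub_ne_zero.2 hθ] using this
  by_cases hY : ((g * (s₁ * s₂) * g⁻¹) • ((0 : K), (1 : K))).1 = 0
  · exact one_ne_zero (key 1 0 (map_one _) fun y => by simp [h.disj _ one_ne_zero hY y])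
  · obtain ⟨r, hr⟩ := cr_surj h2 hY 1
    have hr0 : r ≠ 0 := by rintro rfl; simp at hr
    exact mul_ne_zero h2 (nm_ne_zero hr0) (key _ r (by rw [map_mul, φ_nm, map_ofNat])
      fun y => iv h2 hr0 (f3 _ (mul_mem m1 m2) r (cr_comm _ r ▸ hr) y))

end Semi

variable {K : Type*} [Field K] [TF K] [Finite K] {F : FusionSystem (⊤ : Subgroup (U K))}
  {p : ℕ} [Fact p.Prime] [CharP K p]

theorem inv_Z2_D : Inv F (sD K) (sZ2 K) := fun τ hτ x hx =>
  mem_Z2_of_comm fun w hw => by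
    simpa using map_comm hτ (W_D (Z2_W hx)) (hτ.inv_mem hw) (comm_Z2 (hτ.inv_mem hw).2 hx).symm

theorem wd (hF : F.IsSaturated p) : Inv F (sD K) (sW K) := fun τ hτ x hx => by
  obtain ⟨Γ, _, _, _, P, ρ, r1, r2, -, r4, r5⟩ :=
    exists_setup ((fn_of_D le_rfl).isFullyAutomized hF (topP p)) (fun x : U K => (x.c, x.d))
    (fun x hx y hy => by simp [mul_d', hy.1])
    (fun v => ⟨XC v.1 * XD v.2, mul_mem (XC_mem _) (W_D (XD_mem _)), by simp [mul_d', XC, XD]⟩)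
    (fun τ hτ x hx h0 => by
      have := inv_Z2_D τ hτ x ⟨hx.1, hx.2, congrArg Prod.fst h0, congrArg Prod.snd h0⟩
      exact Prod.ext this.2.2.1 this.2.2.2)
  have el : ∀ x y : K, ∃ v ∈ sD K, v.c = x ∧ v.d = y := fun x y =>
    ⟨XC x * XD y, mul_mem (XC_mem _) (W_D (XD_mem _)), by simp [mul_d', XC, XD]⟩
  have act : ∀ (s : Γ) (g : U K), (∀ x ∈ sD K, ρ s x = cj g x) →
      ∀ x y : K, s • (x, y) = (x, y + cr (-g.a) x) := fun s g e x y => by
    obtain ⟨v, hv, rfl, rfl⟩ := el x y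
    rw [r5 s v hv, e v hv, cj_apply, cj_c, cj_d g hv.1, cr_comm (-g.a), cr_neg, cr_comm v.c]
    simp [hv.1, hv.2, sub_eq_add_neg]
  have hQ : Semi.Cq K (P : Subgroup Γ) := ⟨fun s hs => by
      obtain ⟨g, -, -, e⟩ := mem_innS.1 ((r4 s).1 hs)
      exact ⟨_, act s g e⟩, fun t => by
      obtain ⟨s, hs⟩ := r2 _ (iso_cj_of_D le_rfl (XA (-t)))
      exact ⟨s, (r4 s).2 (mem_innS.2 ⟨_, trivial, norm_of_D le_rfl _, hs⟩),
        by simpa [XA] using act s _ hs⟩, fun _ g y y' => by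
      have m := fun y : K => W_D (XD_mem y)
      have e := congrArg U.f (cm_eq_one.2 (map_comm (r1 g) (m y') (m y) (comm_W (XD_mem _) (XD_mem _))))
      rw [cm_f_Q1 ((r1 g).mem (m _)).1 ((r1 g).mem (m _)).1, ((r1 g).mem (m _)).2,
        ((r1 g).mem (m _)).2] at e
      rw [show ((0 : K), y) = ((XD y).c, (XD y).d) from rfl, r5 g _ (m y),
        show ((0 : K), y') = ((XD y').c, (XD y').d) from rfl, r5 g _ (m y')]
      simpa [sub_eq_zero] using e⟩
  obtain ⟨g, hg⟩ := r2 τ hτ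
  have := hQ.inv g x.d
  rw [← hx.2.2, r5 g x (W_D hx), hg x (W_D hx)] at this
  exact ⟨(hτ.mem (W_D hx)).1, (hτ.mem (W_D hx)).2, this.trans hx.2.2⟩

theorem inv_Z2_I : Inv F (sI K) (sZ2 K) := fun τ hτ x hx => by
  have k : ∀ w ∈ sI K, τ x * w = w * τ x := fun w hw => by
    simpa using map_comm hτ (W_I (Z2_W hx)) (hτ.inv_mem hw) (comm_Z2 (hτ.inv_mem hw).1 hx).symm
  obtain ⟨a, b, c⟩ := mem_W_of_comm fun w hw => k w (W_I hw)
  refine ⟨a, b, c, eq_zero_of_tr fun y => ?_⟩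
  simpa [cm_e_W _ a b c, XA, mul_comm] using congrArg U.e (cm_eq_one.2 (k _ (XA_mem y)).symm)

theorem not_ess_I (hF : F.IsSaturated p) : ¬ F.IsEssential p (sI K) := fun hE => by
  obtain ⟨Γ, _, _, _, P, ρ, r1, r2, -, r4, r5⟩ :=
    exists_setup (hE.isFullyNormalized.isFullyAutomized hF (topP p)) (fun x : U K => (x.a, x.d))
    (fun x hx y hy => by simp [mul_d', hx.1, hx.2])
    (fun v => ⟨XA v.1 * XD v.2, mul_mem (XA_mem _) (W_I (XD_mem _)), by simp [mul_d', XA, XD]⟩)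
    (fun τ hτ x hx h0 => by
      have := inv_Z2_I τ hτ x ⟨congrArg Prod.fst h0, hx.1, hx.2, congrArg Prod.snd h0⟩
      exact Prod.ext this.1 this.2.2.2)
  have el : ∀ x y : K, ∃ v ∈ sI K, v.a = x ∧ v.d = y := fun x y =>
    ⟨XA x * XD y, mul_mem (XA_mem _) (W_I (XD_mem _)), by simp [mul_d', XA, XD]⟩
  have act : ∀ (s : Γ) (g : U K), g.b = 0 → (∀ x ∈ sI K, ρ s x = cj g x) →
      ∀ x y : K, s • (x, y) = (x, y + cr g.c x) := fun s g hg e x y => by
    obtain ⟨v, hv, rfl, rfl⟩ := el x y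
    rw [r5 s v hv, e v hv, cj_apply, cj_a, cj_eq, mul_d', cm_d_Q2 hg hv.1, cr_comm g.c]
    simp [hv.1, hv.2]
  have nrm : ∀ t : K, XC t ∈ Subgroup.normalizer (sI K : Set (U K)) := fun t =>
    norm_of_cm fun x _ => W_I (cm_W (XC_mem t) x)
  have hQ : Semi.Cq K (P : Subgroup Γ) := ⟨fun s hs => by
      obtain ⟨g, -, hg, e⟩ := mem_innS.1 ((r4 s).1 hs)
      refine ⟨_, act s g ?_ e⟩
      have := ((Subgroup.mem_normalizer_iff.1 hg _).1 (XA_mem 1)).2
      rw [cj_c] at this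
      simpa [XA] using this, fun t => by
      obtain ⟨s, hs⟩ := r2 _ (F.iso_cj le_top trivial (nrm t))
      exact ⟨s, (r4 s).2 (mem_innS.2 ⟨_, trivial, nrm t, hs⟩), act s _ rfl hs⟩, fun _ g y y' => by
      have m := fun y : K => W_I (XD_mem y)
      have e := congrArg U.e (cm_eq_one.2 (map_comm (r1 g) (m y') (m y) (comm_W (XD_mem _) (XD_mem _))))
      rw [show ((0 : K), y) = ((XD y).a, (XD y).d) from rfl, r5 g _ (m y),
        show ((0 : K), y') = ((XD y').a, (XD y').d) from rfl, r5 g _ (m y')]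
      simpa [cm_e, cm_d, cm_c, ((r1 g).mem (m _)).1, ((r1 g).mem (m _)).2, sub_eq_zero] using e⟩
  have hW : Inv F (sI K) (sW K) := fun τ hτ x hx => by
    obtain ⟨g, hg⟩ := r2 τ hτ
    have := hQ.inv g x.d
    rw [← hx.1, r5 g x (W_I hx), hg x (W_I hx)] at this
    exact ⟨this.trans hx.1, hτ.mem (W_I hx)⟩
  have k := Z2_W.trans (W_I (K := K))
  exact one_ne_zero (mem_of_chain hE k k k W_I inv_Z2_I inv_Z2_I inv_Z2_I hW (g := XC 1)
    (fun x hx => comm_Z2 rfl hx) (fun x hx => cm_Z2' _ (Z2_W hx)) (fun x hx => cm_Z2' _ (Z2_W hx))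
    (fun x hx => cm_Z2' _ hx) fun x _ => cm_W (XC_mem 1) x).2

instance instWD : WD := ⟨fun hF => wd hF, fun hF => not_ess_I hF⟩

end Cfsg.Agent.D3
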