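import Cfsg.Agent.D3.B5a
import Cfsg.Agent.D3.W

/-! No essential subgroup properly between `D` and `S` other than `Q₁`, `Q₂`; `instance : B57`. -/

set_option autoImplicit false
set_option linter.unusedSectionVars false

open Equiv

namespace Cfsg.Agent.D3.B5

open Cfsg.Fus Cfsg.FusionSystem U B1

variable {K : Type} [Field K] [TF K] {E : Subgroup (U K)}

theorem four (h2 : (2 : K) = 0) (g : U K) : g * g * (g * g) = 1 ↔ g.a * g.b = 0 := by
  have : CharP K 2 := CharTwo.of_one_ne_zero_of_two_eq_zero one_ne_zero h2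
  have a : (g * g).a = 0 := by simp [← two_mul, h2]
  have b : (g * g).b = 0 := by simp [← two_mul, h2]
  have e : (g * g * (g * g)).f = g.b ^ 2 * nm g.a := by
    rw [sq_f_Q1 a, b, mul_d', mul_c]; kunf; simp only [U.hb]; grind
  refine ⟨fun h => ?_, fun h => eq_of_Z ?_ (one_mem _) ?_⟩
  · rw [h, one_f, eq_comm, mul_eq_zero, nm_eq_zero, pow_eq_zero_iff two_ne_zero] at e
    exact mul_eq_zero.2 e.symm
  · generalize g * g = x at a b
    simp [mem_sZ, mul_d', mul_e', ← two_mul, *]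
  · rcases mul_eq_zero.1 h with h | h <;> simp [e, h]

variable [Finite K] {p : ℕ} [Fact p.Prime] [CharP K p] {F : FusionSystem (⊤ : Subgroup (U K))}

theorem inv_Z (D : sD K ≤ E) {e : U K} (he : e ∈ E) (hb : e.b ≠ 0) : Inv F E (sZ K) := fun τ hτ x hx => by
  obtain ⟨-, h⟩ := inv_center τ hτ x ⟨D (W_D (Z2_W (Z_Z2 hx))), Subgroup.mem_centralizer_iff.2 fun y _ => comm_Z y hx⟩
  replace h := Subgroup.mem_centralizer_iff.1 h
  have m := mem_Z2_of_comm fun w hw => (h w (D hw)).symm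
  have := cm_f_Z2 e m
  rw [cm_eq_one.2 (h e he), one_f] at this
  exact ⟨m.1, m.2.1, m.2.2.1, m.2.2.2, (mul_eq_zero.1 this.symm).resolve_left hb⟩

theorem not_inv (hF : F.IsSaturated p) (hE : F.IsEssential p E) (D : sD K ≤ E) {e : U K} (he : e ∈ E) (hb : e.b ≠ 0)
    (h : Inv F E (sD K)) : False := by
  have r : ∀ τ, F.Iso E E τ → F.Iso (sD K) (sD K) τ := fun τ hτ =>
    (hτ.isMap.mono D).iso_of_setStab (mem_setStab_of_finite (h τ hτ))
  exact ess_ne_top hF hE (top_unique fun g _ => mem_of_chain hE (Z_le hE) ((Z2_W.trans W_D).trans D) (W_D.trans D) D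
    (inv_Z D he hb) (fun τ hτ => inv_Z2_D τ (r τ hτ)) (fun τ hτ => wd hF τ (r τ hτ)) h (fun x hx => comm_Z g hx)
    (fun x hx => cm_Z' g hx) (fun x hx => cm_Z2' g hx) (fun x hx => cm_W' g hx) fun x _ => cm_D g x)

theorem not_D (hF : F.IsSaturated p) (hE : F.IsEssential p E) (D : sD K ≤ E) {e e' : U K} (he : e ∈ E) (hb : e.b ≠ 0)
    (he' : e' ∈ E) (ha : e'.a ≠ 0) : False := by
  have W := W_D.trans D
  have h2 := Z2_W.trans W
  have Z2 := Z2_comm (Z_comm h2 he hb) W he' ha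
  have hB : ∀ g x : U K, cm g x ∈ E := fun g x => D (cm_D g x)
  have k1 : ∀ y ∈ E, ∀ y' ∈ E, ∀ s s', ∀ w ∈ sW K, w.d = cr y.a s + cr y'.a s' → w ∈ ⁅E, E⁆ :=
    fun y hy y' hy' s s' w hw h => by
      have m := cm_W (XC_mem s) y
      have m' := cm_W (XC_mem s') y'
      refine (mul_mem_cancel_left (inv_mem (mul_mem (cm_mem_comm (D (XC_mem s)) hy)
        (cm_mem_comm (D (XC_mem s')) hy')))).1 (Z2 (Z2_of_d (mul_mem m m') hw ?_))
      rw [mul_d', cm_a, cm_d_D rfl rfl, cm_d_D rfl rfl, h]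
      simp [XC]
  have k2 : ∀ s, ∀ w ∈ sW K, w.d = cr e'.a s → w ∈ ⁅E, E⁆ := fun s w hw h =>
    k1 e' he' e' he' s 0 w hw (by simp [h])
  have k3 : (2 : K) ≠ 0 → sW K ≤ ⁅E, E⁆ := fun c2 w hw => (cr_surj c2 ha w.d).elim fun s hs => k2 s w hw hs.symm
  have q := Finite.one_lt_card (α := Fx K)
  obtain ⟨x, hx, xb, xa⟩ : ∃ x ∈ E, x.b = 0 ∧ x.a ≠ 0 := by
    by_contra! hn
    obtain ⟨m, hm⟩ := exists_indep ha
    let g : Option (Fx K) → K := fun o => o.elim m fun l => l * e'.a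
    have := qoU hF hE (B := Set.range fun o => XA (g o)) (fun g _ x _ => hB g x) ?_ ⟨some 1, rfl⟩
      (fun h => ha (by simpa [g, XA] using hn _ h rfl)) (fun y => (⟨y.b, y.hb⟩ : Fx K)) (fun x hx y hy e => ?_)
      (fun o => XA (g o)) (fun o => ⟨o, rfl⟩) fun o o' e => ?_
    · rw [Finite.card_option] at this
      omega
    · rintro _ ⟨o, rfl⟩ _ ⟨o', rfl⟩ x -
      by_cases c2 : (2 : K) = 0
      swap
      · exact k3 c2 (cm_W' _ (cm_D _ _))
      obtain ⟨s, hs⟩ : ∃ s, cr (g o') (g o) = cr e'.a s := by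
        rcases o' with _ | l
        · rcases o with _ | l'
          exacts [⟨0, by simp [g, cr_self, c2]⟩, ⟨l' * m, by simp [g, cr_smul l'.2, cr_comm m]⟩]
        · exact ⟨l * g o, by simp [g, cr_smul l.2, smul_cr l.2]⟩
      refine k2 (x.b * s) _ (cm_W' _ (cm_D _ _)) ?_
      simp [cm_d, cm_c, XA, cr_neg, mul_comm (g o), cr_smul x.hb, hs]
    · have b : (y⁻¹ * x).b = 0 := by rw [mul_b, inv_b, show x.b = y.b from congrArg Subtype.val e, neg_add_cancel]
      have a := hn _ (mul_mem (inv_mem hy) hx) b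
      refine k2 (-(y⁻¹ * x).c) _ (cm_W' _ ⟨a, b⟩) ?_
      rw [cm_d_Q2 rfl b, a, cr_neg]
      simp [XA, g]
    · have : g o = g o' := Eq.symm (by simpa [XA, neg_add_eq_zero] using hn _ e (by simp [XA]))
      rcases o with _ | l <;> rcases o' with _ | l'
      · rfl
      · exact absurd ((show m = l' * e'.a from this) ▸ wg_smul l'.2 e'.a) hm
      · exact absurd ((show m = l * e'.a from this.symm) ▸ wg_smul l.2 e'.a) hm
      · exact congrArg _ (Subtype.ext (mul_right_cancel₀ ha this))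
  have iZ := inv_Z (F := F) D he hb
  by_cases c2 : (2 : K) = 0
  · have k4 : ∀ τ, F.Iso E E τ → ∀ y ∈ E, y.a * y.b = 0 → (τ y).a * (τ y).b = 0 := fun τ hτ y hy h => by
      rw [← four c2] at h ⊢
      rw [← hτ.homOn hy hy, ← hτ.homOn (mul_mem hy hy) (mul_mem hy hy), h, hτ.homOn.map_one]
    by_cases h : ∃ y ∈ E, y.a = 0 ∧ y.b ≠ 0
    · obtain ⟨y, hy, ya, yb⟩ := h
      refine not_inv hF hE D he hb fun τ hτ z hz => ?_
      have k : ∀ s ∈ E, s.a * s.b = 0 → ((τ z).a + s.a) * ((τ z).b + s.b) = 0 := fun s hs h => by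
        have := k4 τ hτ _ (mul_mem (D hz) (hτ.inv_mem hs)) (by
          simpa [hz.1, hz.2] using k4 τ⁻¹ hτ.symm s hs h)
        rw [hτ.homOn (D hz) (hτ.inv_mem hs)] at this
        simpa using this
      have e1 := k 1 (one_mem _) (by simp)
      have e2 := k x hx (by simp [xb])
      have e3 := k y hy (by simp [ya])
      rw [one_a, one_b, add_zero, add_zero] at e1
      rw [xb] at e2
      rw [ya] at e3
      exact ⟨mul_right_cancel₀ yb (by linear_combination e3 - e1), mul_left_cancel₀ xa (by linear_combination e2 - e1)⟩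
    · push Not at h
      have ED : ⁅E, E⁆ ≤ sD K := Subgroup.commutator_le.2 fun x _ y _ => by simpa [cm_eq] using cm_D y x⁻¹
      have iQ : Inv F E (E ⊓ Q2) := fun τ hτ y hy => ⟨hτ.mem hy.1,
        (mul_eq_zero.1 (k4 τ hτ y hy.1 (by rw [mem_Q2.1 hy.2, mul_zero]))).elim (h _ (hτ.mem hy.1)) id⟩
      refine hb (h (XB e.b e.hb) (mem_of_chain hE (Z_le hE) (ED.trans D) (C := E ⊓ Q2) (D := E ⊓ Q2) inf_le_left inf_le_left iZ
        inv_comm iQ iQ (fun x hx => comm_Z _ hx) (fun x hx => cm_Q1 rfl (ED hx).1) (fun y hy => ?_)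
        (fun x _ => ⟨hB _ _, cm_b _ _⟩) fun x _ => ⟨hB _ _, cm_b _ _⟩) rfl)
      have m : e⁻¹ * XB e.b e.hb ∈ Q2 := by simp [mem_Q2, XB]
      have m' := k1 y hy.1 e he (-e.c + e.a * e.b) y.c _ (cm_Q2 m hy.2) (by
        rw [cm_d_Q2 m hy.2, sub_eq_add_neg, cr_comm _ y.c, ← cr_neg, cr_comm y.c]; simp [XB])
      rw [show cm (XB e.b e.hb) y = cm e y * (cm (e⁻¹ * XB e.b e.hb) y * cm e (cm (e⁻¹ * XB e.b e.hb) y)) by
        simp only [cm]; group]
      exact mul_mem (cm_mem_comm he hy.1) (mul_mem m' (cm_mem_comm he (hB _ _)))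
  by_cases h : ∃ y ∈ E, wg x.a y.a ≠ 0
  · obtain ⟨y, hy, hw⟩ := h
    have iW : Inv F E (sW K) := fun τ hτ w hw' => by
      have k : ∀ s ∈ E, ∀ t ∈ E, cm t (cm s (τ w)) ∈ sZ K := fun s hs t ht => by
        rw [cm_left hτ hs (W hw'), cm_left hτ ht (hB _ _)]
        exact iZ τ hτ _ (cm_Z' _ (cm_Z2' _ hw'))
      generalize τ w = u at k
      have k' : ∀ s ∈ E, (cm s u).c = 0 := fun s hs => cr_eq_zero c2 xa (by
        simpa [cm_d_Q2 xb (cm_b s u)] using (k s hs x hx).2.2.2.1)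
      have k'' : ∀ s ∈ E, ∀ t ∈ E, tr (t.a * (cm s u).d) = 0 := fun s hs t ht => by
        simpa [cm_e_W t (cm_a s u) (cm_b s u) (k' s hs)] using (k s hs t ht).2.2.2.2
      have a : u.a = 0 := cr_eq_zero c2 xa (eq_zero_of_tr fun c => by
        have := k'' _ (D (XC_mem c)) x hx
        rwa [cm_d_D rfl rfl, cr_comm, tr_cr, mul_comm] at this)
      have b : u.b = 0 := by simpa [cm_c, a, xa] using k' x hx
      have k3 : ∀ s ∈ E, ∀ t ∈ E, tr (t.a * cr s.a u.c) = 0 := fun s hs t ht => by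
        simpa [cm_d, a, b, tr_neg] using k'' s hs t ht
      exact ⟨a, b, plane_eq_zero c2 hw (k3 x hx x hx) (k3 x hx y hy) (k3 y hy y hy)⟩
    have iZ2 : Inv F E (sZ2 K) := fun τ hτ z hz => by
      obtain ⟨d, hd⟩ := exists_tr xa z.he
      have m := cm_Z2 (XD_mem d) x
      have m' := Z_of_e m hz ((e_W (XD_mem d) x).trans hd)
      rw [← mul_inv_cancel_left (cm (XD d) x) z, hτ.homOn (h2 m) (h2 (Z_Z2 m')), map_cm hτ (W (XD_mem d)) hx]
      exact mul_mem (cm_Z2 (iW τ hτ _ (XD_mem d)) _) (Z_Z2 (iZ τ hτ _ m'))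
    refine not_inv hF hE D he hb fun τ hτ z hz => ⟨eq_zero_of_tr fun d => ?_, mem_Q2_of_comm ?_⟩
    · have := (iZ τ hτ _ (cm_Q1 (iW _ hτ.symm _ (XD_mem d)).1 hz.1)).2.2.2.2
      rwa [← cm_left hτ (W (XD_mem d)) (D hz), e_W (XD_mem d)] at this
    · have m := iZ2 _ hτ.symm _ (XE_mem 1 (map_one _))
      simpa using map_comm hτ (D hz) (h2 m) (comm_Z2 hz.2 m)
  · push Not at h
    obtain ⟨m, hm⟩ := exists_indep xa
    obtain ⟨n, hn⟩ := exists_tr hm (r := 1) (map_one _)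
    have k : ∀ r s : K, φ r = r → φ s = s → XA (r * m + s * n) ∈ E → r = 0 ∧ s = 0 := fun r s hr hs h' => by
      obtain ⟨l, hl, e⟩ := dep_of_wg xa (h _ h')
      have e1 := congrArg (fun t => tr (t * wg x.a m)) e
      simp only [XA, add_mul, mul_assoc, tr_add, tr_smul hr, tr_smul hs, tr_smul hl, tr_wg, tr_wg', mul_comm n, hn,
        mul_zero, zero_add, mul_one] at e1
      refine ⟨(mul_eq_zero.1 ?_).resolve_right hm, e1⟩
      rw [← wg_smul hl x.a, ← e, e1]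
      simp only [XA, wg, map_mul, hr, zero_mul, add_zero]
      ring
    have := qoU hF hE (B := Set.univ) (fun g _ x _ => hB g x) (fun _ _ _ _ _ _ => k3 c2 (cm_W' _ (cm_D _ _)))
      (b := XA (1 * m + 0 * n)) trivial (fun h => one_ne_zero (k _ _ (map_one _) (map_zero _) h).1)
      (fun y => (⟨y.b, y.hb⟩ : Fx K)) (fun x hx y hy e => k3 c2 (cm_Q2 rfl ?_))
      (fun o : Fx K × Fx K => XA (o.1 * m + o.2 * n)) (fun _ => trivial) fun o o' e => ?_
    · rw [Nat.card_prod] at this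
      nlinarith
    · rw [mem_Q2, mul_b, inv_b, show x.b = y.b from congrArg Subtype.val e, neg_add_cancel]
    · obtain ⟨e1, e2⟩ := k (o.1 - o'.1) (o.2 - o'.2) (o.1 - o'.1).2 (o.2 - o'.2).2 (by
        convert e using 1
        ext <;> usimp3
        ring)
      exact Prod.ext (Subtype.ext (sub_eq_zero.1 e1)) (Subtype.ext (sub_eq_zero.1 e2))

instance instB57 : B57 := ⟨fun hF _ hE h2 h1 h => by
  obtain ⟨e, he, hb⟩ := SetLike.not_le_iff_exists.1 h
  obtain ⟨e', he', ha⟩ := SetLike.not_le_iff_exists.1 h1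
  exact not_D hF hE (D_le hF hE (W_le hF hE h2 he hb) he hb) he hb he' ha⟩

end Cfsg.Agent.D3.B5
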