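import Cfsg.Agent.D3.V6
import Cfsg.Agent.H1.SchurZ

/-! Lifting an automorphism of `Q/Φ(Q)` uniquely with the help of the torus. -/

set_option autoImplicit false
set_option linter.unusedSectionVars false
set_option linter.style.haveILetI false

open Equiv

namespace Cfsg.Agent.D3

open Cfsg.Fus Cfsg.FusionSystem U H4.Sp

theorem exists_comm {Ω : Type*} [Group Ω] [Finite Ω] {p : ℕ} [Fact p.Prime] {Q : Subgroup Ω}
    (hQ : IsPGroup p Q) {T : Type*} [Group T] [Finite T] (hT : (Nat.card T).Coprime p)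
    (t : T →* Perm Ω) (ht : ∀ a, t a ∈ autStab Q) {η : Perm Ω} (hη : η ∈ autStab Q)
    (h : ∀ a, η⁻¹ * t a * η * (t a)⁻¹ ∈ innS Q Q) :
    ∃ k ∈ Q, ∀ a, ∀ x ∈ Q, η (k * t a x * k⁻¹) = t a (η (k * x * k⁻¹)) := by
  let t' : T →* MulAut Q := (resHom Q).comp (t.codRestrict (autStab Q) ht)
  have ht' : ∀ a, t' a = resAut Q (t a) := fun a => (resAut_eq _).symm
  obtain ⟨k, hk2⟩ := (isPGroup_autInducedBy hQ Q).exists_card_eq
  rw [autInducedBy_self] at hk2
  have hr := homOn_resAut Q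
  have ex : ∀ i ∈ Inn Q, extAut Q i ∈ innS Q Q := fun i hi => by
    rw [innS_self, mem_liftAut]; exact ⟨extAut_mem_autStab i, by rwa [resAut_extAut]⟩
  obtain ⟨i, hi, hc⟩ := H1.exists_centralizer_in_coset (A := t'.range) (N := Inn Q)
    (x := resAut Q η) (by
      rintro _ ⟨a, rfl⟩
      refine mem_normalizer_of_finite fun i hi => ?_
      have := (conj_mem_innS_self_iff (ht a)).2 (ex i hi)
      rw [innS_self, mem_liftAut, hr.map_conj (ht a) (extAut_mem_autStab i), resAut_extAut] at this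
      exact ht' a ▸ this.2)
    (hk2 ▸ (hT.coprime_dvd_left (Subgroup.card_range_dvd t')).pow_right _)
    (Or.inr (H1.IsPGroup.isSolvable (IsPGroup.of_card hk2))) (by
      rintro _ ⟨a, rfl⟩
      have := h a
      rw [innS_self, mem_liftAut, hr.map_mul (mul_mem (mul_mem (inv_mem hη) (ht a)) hη)
        (inv_mem (ht a)), hr.map_conj' hη (ht a), hr.map_inv (ht a)] at this
      exact ht' a ▸ this.2)
  obtain ⟨u, hu, e⟩ := mem_innS_self.1 (ex i hi)
  have hu' : cj u ∈ autStab Q := cj_mem_autStab.2 (Subgroup.le_normalizer hu)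
  have hν := mul_mem hη hu'
  have e1 : resAut Q (η * cj u) = resAut Q η * i := by
    rw [hr.map_mul hη hu', (resAut_congr hu' (extAut_mem_autStab i)).2 fun x hx => (e x hx).symm,
      resAut_extAut]
  refine ⟨u, hu, fun a => ?_⟩
  have := hc _ ⟨a, rfl⟩
  rw [← e1, ht', ← hr.map_mul (ht a) hν, ← hr.map_mul hν (ht a),
    resAut_congr (mul_mem (ht a) hν) (mul_mem hν (ht a))] at this
  exact fun x hx => (this x hx).symm

variable {K : Type} [Field K] [TF K] [Finite K] {F : FusionSystem (⊤ : Subgroup (U K))}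
  {p : ℕ} [Fact p.Prime] [CharP K p]

/-- the torus -/
def tor (K : Type) [Field K] [TF K] : Kˣ × (Fx K)ˣ →* Perm (U K) :=
  MonoidHom.toHomPerm
    { toFun := fun a => au a.1 (a.2 : Fx K) (a.2 : Fx K).2 1
      map_one' := funext fun x => show _ = x by ext <;> simp [au]
      map_mul' := fun a b => funext fun x => show _ = au _ _ (a.2 : Fx K).2 1 (au _ _ (b.2 : Fx K).2 1 x) by
        ext <;> simp only [au, one_ap, Prod.fst_mul, Prod.snd_mul, Units.val_mul, map_mul,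
          MulMemClass.coe_mul] <;> ring }

theorem tor_ap (a : Kˣ × (Fx K)ˣ) (x : U K) : 
    tor K a x = au (a.1 : K) (a.2 : Fx K) (a.2 : Fx K).2 1 x := rfl

theorem exists_tor {s u : K} (hu : φ u = u) (hs : s ≠ 0) (hu0 : u ≠ 0) :
    ∃ a, ∀ x, tor K a x = au s u hu 1 x :=
  ⟨(Units.mk0 s hs, Units.mk0 ⟨u, hu⟩ fun e => hu0 (congrArg Subtype.val e)), fun _ => rfl⟩

theorem card_tor (p : ℕ) [hp : Fact p.Prime] [CharP K p] : (Nat.card (Kˣ × (Fx K)ˣ)).Coprime p := by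
  refine (hp.out.coprime_iff_not_dvd.2 fun h => ?_).symm
  obtain ⟨a, ha⟩ := exists_prime_orderOf_dvd_card' p h
  have e := ha ▸ pow_orderOf_eq_one a
  have k : ∀ x : K, x ^ p = 1 → x = 1 := fun x hx =>
    sub_eq_zero.1 (pow_eq_zero_iff hp.out.ne_zero |>.1 (by rw [sub_pow_char, hx, one_pow, sub_self]))
  obtain rfl : a = 1 := Prod.ext (Units.ext (k _ (congrArg (fun a => (a.1 : K)) e)))
    (Units.ext (Subtype.ext (k _ (congrArg (fun a => ((a.2 : Fx K) : K)) e))))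
  exact hp.out.one_lt.ne (by simpa using ha)

theorem key (p : ℕ) [Fact p.Prime] [CharP K p] {Q A : Subgroup (U K)} (hA : A ≤ Q) (iA : Inv F Q A)
    (hc : ∀ g ∈ Q, ∀ x ∈ Q, cm g x ∈ A) (hD : sD K ≤ Q)
    (hau : ∀ s u hu, ∀ x ∈ Q, au s u hu 1 x ∈ Q)
    (hT : ∀ s u hu, s ≠ 0 → u ≠ 0 → F.IsMap ⊤ (au s u hu 1)) {ω : Perm (U K)} (hω : F.Iso Q Q ω)
    {w : U K → U K} (w1 : HomOn w Q) (w2 : ∀ x ∈ Q, w x ∈ Q) (w3 : Set.InjOn w Q)
    (w4 : ∀ x ∈ Q, (w x)⁻¹ * ω x ∈ A)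
    (w5 : ∀ s u hu, s ≠ 0 → u ≠ 0 → ∃ s' u' hu', s' ≠ 0 ∧ u' ≠ 0 ∧
      ∀ x ∈ Q, w (au s' u' hu' 1 x) = au s u hu 1 (w x))
    (inn : ∀ η, F.Iso Q Q η → (∀ x ∈ Q, x⁻¹ * η x ∈ A) → η ∈ innS Q Q)
    (cen : ∀ η : U K → U K, HomOn η Q → (∀ x ∈ Q, x⁻¹ * η x ∈ A) →
      (∀ s u hu, s ≠ 0 → u ≠ 0 → ∀ x ∈ Q, η (au s u hu 1 x) = au s u hu 1 (η x)) →
      ∃ k ∈ Q, ∀ x ∈ Q, η x = k * x * k⁻¹) : F.IsMap Q w := by
  obtain ⟨σ, hσ⟩ := exists_perm_of_injOn w3
  have s1 : σ ∈ autStab Q := ⟨fun x hx y hy => by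
    rw [hσ _ (mul_mem hx hy), hσ x hx, hσ y hy, w1 hx hy],
    mem_setStab_of_finite fun x hx => hσ x hx ▸ w2 x hx⟩
  have s2 := inv_mem s1
  have t1 : ∀ a, F.Iso Q Q (tor K a) := fun a =>
    ((hT _ _ (a.2 : Fx K).2 a.1.ne_zero fun e => a.2.ne_zero (Subtype.ext e)).mono le_top).iso_self
      (hau _ _ (a.2 : Fx K).2)
  have n1 := mul_mem hω.mem_autStab s2
  obtain ⟨k, hk, e⟩ := exists_comm ((isPGroup_U p).to_subgroup Q) (card_tor p) (tor K)
    (fun a => (t1 a).mem_autStab) n1 fun a => by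
      obtain ⟨s, u, hu, hs, hu0, e⟩ := w5 _ _ (a.2 : Fx K).2 a.1.ne_zero
        fun e => a.2.ne_zero (Subtype.ext e)
      obtain ⟨b, hb⟩ := exists_tor hu hs hu0
      have e' : ∀ x ∈ Q, σ (tor K b x) = tor K a (σ x) := fun x hx => by
        rw [hσ _ ((t1 b).mem hx), hb, e x hx, hσ x hx, tor_ap]
      have i := inn _ ((((t1 b).symm.trans hω).trans (t1 a)).trans hω.symm) fun x hx => by
        obtain ⟨y, hy, rfl⟩ := (t1 b).exists_eq hx
        have m1 := iA _ (t1 a) _ (w4 y hy)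
        have m2 := iA _ hω.symm _ (mul_mem (inv_mem (w4 _ hx)) m1)
        rw [← hσ _ hx, ← hσ y hy, (t1 a).homOn (inv_mem ((s1.2 y).2 hy)) (hω.mem hy),
          (t1 a).homOn.map_inv ((s1.2 y).2 hy), ← e' y hy, mul_inv_rev, inv_inv, mul_assoc,
          mul_inv_cancel_left, hω.symm.homOn (inv_mem (hω.mem hx)) ((t1 a).mem (hω.mem hy)),
          hω.symm.homOn.map_inv (hω.mem hx)] at m2
        simpa using m2
      refine mem_of_congr (fixP_le_innS Q Q) ((conj_mem_innS_self_iff s1).2 i) fun x hx => ?_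
      obtain ⟨y, hy, rfl⟩ := (t1 a).exists_eq hx
      obtain ⟨y, rfl⟩ := σ.surjective y
      have hy' := (s1.2 y).1 hy
      simp only [Perm.mul_apply, mul_inv_rev, inv_inv, perm_inv_apply_self]
      rw [← e' y hy', perm_inv_apply_self, perm_inv_apply_self]
  have nk := iso_cj_of_D (F := F) hD k
  obtain ⟨k', hk', e'⟩ := cen ((ω * σ⁻¹) * cj k :) (mul_mem n1 nk.mem_autStab).1 (fun x hx => by
    obtain ⟨y, hy⟩ := σ.surjective (k * x * k⁻¹)
    have hy' := (s1.2 y).1 (hy ▸ nk.mem hx)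
    rw [Perm.mul_apply, cj_apply, ← hy, Perm.mul_apply, perm_inv_apply_self]
    have := mul_mem (hc k hk x hx) (w4 y hy')
    rwa [← hσ y hy', hy, ← cm_def, mul_assoc, mul_inv_cancel_left] at this) fun s u hu hs hu0 x hx => by
      obtain ⟨b, hb⟩ := exists_tor hu hs hu0
      rw [← hb, ← hb]
      exact e b x hx
  refine ((hω.trans (iso_cj_of_D hD k'⁻¹)).trans nk).isMap.congr fun x hx => ?_
  have m := (iso_cj_of_D (F := F) hD k⁻¹).mem (w2 x hx)
  have := e' _ m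
  rw [Perm.mul_apply, Perm.mul_apply, cj_apply, cj_apply,
    show k * (k⁻¹ * w x * k⁻¹⁻¹) * k⁻¹ = σ x by rw [hσ x hx]; group, perm_inv_apply_self] at this
  rw [Perm.mul_apply, Perm.mul_apply, cj_apply, cj_apply, this]
  group

end Cfsg.Agent.D3
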