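import Cfsg.Agent.D3.F1

/-! The slice `LF`. -/

set_option autoImplicit false
set_option linter.unusedSectionVars false
set_option linter.style.haveILetI false

open Equiv

namespace Cfsg.Agent.D3

open Cfsg.Fus Cfsg.FusionSystem U H4.Sp

namespace LFa

variable {K : Type} [Field K] [TF K]

theorem zero_ad {d : K → K} (add : ∀ a b, d (a + b) = d a + d b)
    (h : ∀ s, s ≠ 0 → d s = ad s * d 1) (s : K) : d s = 0 := by
  have h' : ∀ s, d s = ad s * d 1 := fun s => by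
    by_cases e : s = 0
    · simpa [e] using add 0 0
    · exact h s e
  have : d 1 = 0 := by
    by_contra h0
    refine one_ne_zero (eq_zero_of_cr (a := (1 : K)) fun y => mul_right_cancel₀ h0 ?_)
    linear_combination add 1 y - h' (1 + y) + h' 1 + h' y - d 1 * ad_add 1 y
  rw [h', this, mul_zero]

theorem zero_nm {d : K → K} (add : ∀ a b, d (a + b) = d a + d b)
    (h : ∀ s, s ≠ 0 → d s = nm s * d 1) (s : K) : d s = 0 := by
  have h' : ∀ s, d s = nm s * d 1 := fun s => by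
    by_cases e : s = 0
    · simpa [e] using add 0 0
    · exact h s e
  have : d 1 = 0 := by
    by_contra h0
    have k : ∀ a b : K, nm (a + b) = nm a + nm b := fun a b =>
      mul_right_cancel₀ h0 (by linear_combination add a b - h' (a + b) + h' a + h' b)
    refine one_ne_zero (eq_zero_of_cr (a := (1 : K)) fun y => eq_zero_of_tr fun t => ?_)
    have e1 := k (1 + y) t
    have e2 := k 1 t
    have e3 := k y t
    kunf at *
    linear_combination e1 - e2 - e3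
  rw [h', this, mul_zero]

theorem zero_one {d : K → K} (add : ∀ a b, d (a + b) = d a + d b)
    (h : ∀ s, s ≠ 0 → d s = d 1) (s : K) : d s = 0 := by
  obtain ⟨θ, hθ⟩ := TF.ne (K := K)
  have : d 1 = 0 := by
    linear_combination h (θ + 1) (fun e => hθ (by simp [eq_neg_of_add_eq_zero_left e])) - add θ 1 -
      h θ (fun e => hθ (by simp [e]))
  by_cases e : s = 0
  · simpa [e] using add 0 0
  · rw [h s e, this]

theorem coW {x y : U K} : x⁻¹ * y ∈ sW K ↔ y.a = x.a ∧ y.b = x.b ∧ y.c = x.c := by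
  refine ⟨fun h => ?_, fun h => by simp [mem_sW, h.1, h.2.1, h.2.2]⟩
  rw [← mul_inv_cancel_left x y]
  generalize x⁻¹ * y = n at h
  simp [h.1, h.2.1, h.2.2]

theorem coZ2 {x y : U K} : x⁻¹ * y ∈ sZ2 K ↔ y.a = x.a ∧ y.b = x.b ∧ y.c = x.c ∧ y.d = x.d := by
  obtain ⟨n, rfl⟩ : ∃ n, y = x * n := ⟨x⁻¹ * y, by simp⟩
  rw [inv_mul_cancel_left, mem_sZ2, mul_d']
  constructor <;> simp +contextual

theorem coZ {x y : U K} :
    x⁻¹ * y ∈ sZ K ↔ y.a = x.a ∧ y.b = x.b ∧ y.c = x.c ∧ y.d = x.d ∧ y.e = x.e := by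
  obtain ⟨n, rfl⟩ : ∃ n, y = x * n := ⟨x⁻¹ * y, by simp⟩
  rw [inv_mul_cancel_left, mem_sZ, mul_d', mul_e']
  constructor <;> simp +contextual

theorem decW {w : U K} (hw : w ∈ sW K) : ∃ g ∈ Q2, ∃ x ∈ Q2, ∃ g' ∈ Q2, ∃ x' ∈ Q2, ∃ z ∈ sZ2 K,
    w = cm g x * cm g' x' * z := by
  obtain ⟨μ, hμ⟩ := exists_indep (one_ne_zero (α := K))
  obtain ⟨s₁, s₂, e⟩ := cr_add_cr hμ w.d
  have m3 := mul_mem (cm_Q2 (g := XC s₁) (x := XA 1) rfl rfl) (cm_Q2 (g := XC s₂) (x := XA μ) rfl rfl)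
  refine ⟨XC s₁, rfl, XA 1, rfl, XC s₂, rfl, XA μ, rfl, _, coZ2.2 ⟨hw.1.trans m3.1.symm,
    hw.2.1.trans m3.2.1.symm, hw.2.2.trans m3.2.2.symm, ?_⟩, (mul_inv_cancel_left _ w).symm⟩
  rw [mul_d', cm_d_Q2 rfl rfl, cm_d_Q2 rfl rfl, e]; simp [XA, XC]

variable {E : Subgroup (U K)} {η : U K → U K}

theorem fcm (h : HomOn η E) {g x : U K} (hg : g ∈ E) (hx : x ∈ E) :
    η (cm g x) = cm (η g) (η x) := by
  rw [cm, cm, h (E.inv_mem hx) (E.mul_mem (E.mul_mem hg hx) (E.inv_mem hg)), h.map_conj hg hx,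
    h.map_inv hx]

theorem fixZ (h : HomOn η Q1) (t : ∀ x ∈ Q1, x⁻¹ * η x ∈ sZ K) {z : U K} (hz : z ∈ sZ K) :
    η z = z := by
  obtain ⟨r, rfl⟩ := exists_cm_Z hz
  have a := coZ.1 (t (XD r) rfl)
  have b := coZ.1 (t (XC 1) rfl)
  rw [fcm h (g := XD r) rfl rfl]
  refine eq_of_Z (cm_Q1 a.1 b.1) hz ?_
  rw [cm_f_Q1 a.1 b.1, cm_f_Q1 (g := XD r) rfl rfl, a.2.1, a.2.2.1, a.2.2.2.1, a.2.2.2.2, b.2.1,
    b.2.2.1, b.2.2.2.1, b.2.2.2.2]

theorem fixW (h : HomOn η Q2) (t : ∀ x ∈ Q2, x⁻¹ * η x ∈ sW K) {w : U K} (hw : w ∈ sW K) :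
    w⁻¹ * η w ∈ sZ2 K := by
  have m : ∀ x ∈ (Q2 : Subgroup (U K)), η x ∈ Q2 := fun x hx => (coW.1 (t x hx)).2.1.trans hx
  have k : ∀ z ∈ sZ2 K, (η z).d = 0 := fun z hz => eq_zero_of_tr fun y => by
    have a := coW.1 (t z hz.2.1)
    have := congrArg U.e (fcm h (g := XA y) rfl hz.2.1)
    rw [cm_eq_one.2 (comm_Z2 rfl hz), h.map_one, cm_e_W _ (a.1.trans hz.1) (a.2.1.trans hz.2.1)
      (a.2.2.trans hz.2.2.1), (coW.1 (t (XA y) rfl)).1] at this
    simpa [XA, mul_comm] using this.symm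
  have c : ∀ g ∈ Q2, ∀ x ∈ Q2, (η (cm g x)).d = (cm g x).d := fun g hg x hx => by
    rw [fcm h hg hx, cm_d_Q2 (m g hg) (m x hx), cm_d_Q2 hg hx, (coW.1 (t g hg)).1,
      (coW.1 (t g hg)).2.2, (coW.1 (t x hx)).1, (coW.1 (t x hx)).2.2]
  have ad : ∀ x ∈ sW K, ∀ y ∈ sW K, (η (x * y)).d = (η x).d + (η y).d := fun x hx y hy => by
    rw [h hx.2.1 hy.2.1, mul_d', (coW.1 (t y hy.2.1)).1, hy.1]; simp
  obtain ⟨g, hg, x, hx, g', hg', x', hx', z, hz, rfl⟩ := decW hw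
  have m1 := cm_Q2 hg hx
  have m2 := cm_Q2 hg' hx'
  have a := coW.1 (t _ hw.2.1)
  refine coZ2.2 ⟨a.1, a.2.1, a.2.2, ?_⟩
  rw [ad _ (mul_mem m1 m2) _ (Z2_W hz), k _ hz, ad _ m1 _ m2, c _ hg _ hx, c _ hg' _ hx', mul_d',
    mul_d', hz.1, hz.2.2.2]
  simp

theorem fixZ2 (h : HomOn η Q2) (t : ∀ x ∈ Q2, x⁻¹ * η x ∈ sW K) {z : U K} (hz : z ∈ sZ2 K) :
    η z = z := by
  have c : ∀ g ∈ Q2, ∀ y, η (cm g (XD y)) = cm g (XD y) := fun g hg y => by
    have a := coZ2.1 (fixW h t (XD_mem y))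
    have b := coW.1 (t g hg)
    rw [fcm h hg rfl]
    refine eq_of_Z2 (cm_Z2' _ ⟨a.1, a.2.1, a.2.2.1⟩) (cm_Z2' _ (XD_mem y)) ?_ ?_
    · rw [cm_e_W _ a.1 a.2.1 a.2.2.1, cm_e_W _ rfl rfl rfl, a.2.2.2, b.1]
    · rw [cm_f_W _ a.1 a.2.1 a.2.2.1, cm_f_W _ rfl rfl rfl, a.2.2.2, b.2.1, b.2.2, mem_Q2.1 hg]
      simp
  obtain ⟨y, hy⟩ := exists_tr (one_ne_zero (α := K)) (r := -z.e) (by simp)
  obtain ⟨y', hy'⟩ := exists_tr (one_ne_zero (α := K)) (r := -z.f) (by simp)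
  have m1 := cm_Z2' (XA 1) (XD_mem y)
  have m2 := cm_Z2' (XC 1) (XD_mem y')
  rw [show z = cm (XA 1) (XD y) * cm (XC 1) (XD y') from eq_of_Z2 hz (mul_mem m1 m2) (by
    rw [mul_e', cm_e_W _ rfl rfl rfl, cm_e_W _ rfl rfl rfl]; simp [XA, XC, XD, one_mul y ▸ hy]) (by
    rw [mul_f', cm_f_W _ rfl rfl rfl, cm_f_W _ rfl rfl rfl, m2.2.2.1]; simp [XA, XC, XD, one_mul y' ▸ hy']),
    h m1.2.1 m2.2.1, c _ rfl, c _ rfl]

theorem au_d (s u : K) (hu) (x : U K) : (au s u hu 1 x).d = ad s * u * x.d := rfl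
theorem au_e (s u : K) (hu) (x : U K) : (au s u hu 1 x).e = nm s * u * x.e := rfl
theorem au_f (s u : K) (hu) (x : U K) : (au s u hu 1 x).f = nm s * u ^ 2 * x.f := rfl

theorem au_XD {y : K} (hy : y ≠ 0) :
    au (ad y) (nm y)⁻¹ (by rw [map_inv₀, φ_nm]) 1 (XD 1) = XD y := by
  have := nm_ne_zero hy
  ext <;> simp only [au, XD, one_ap, mul_zero]
  rw [show φ (ad y) * φ (φ (ad y)) = nm y * y from ad_ad y]
  field_simp

theorem nm_ad (y : K) : nm (ad y) = nm y ^ 2 := by kunf; ring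

theorem cen1 (h : HomOn η Q1) (t : ∀ x ∈ Q1, x⁻¹ * η x ∈ sZ K)
    (e : ∀ s u hu, s ≠ 0 → u ≠ 0 → ∀ x ∈ Q1, η (au s u hu 1 x) = au s u hu 1 (η x)) :
    ∃ k ∈ Q1, ∀ x ∈ Q1, η x = k * x * k⁻¹ := by
  let n : U K → K := fun x => (η x).f - x.f
  have add : ∀ x ∈ Q1, ∀ y ∈ Q1, n (x * y) = n x + n y := fun x hx y hy => by
    obtain ⟨-, a2, a3, a4, a5⟩ := coZ.1 (t x hx)
    obtain ⟨b1, b2, b3, -, -⟩ := coZ.1 (t y hy)
    simp only [n, h hx hy, mul_f', a2, a3, a4, a5, b1, b2, b3]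
    ring
  have eq : ∀ s u hu, s ≠ 0 → u ≠ 0 → ∀ x ∈ Q1, n (au s u hu 1 x) = nm s * u ^ 2 * n x :=
    fun s u hu hs hu0 x hx => by simp only [n, e s u hu hs hu0 x hx, au_f]; ring
  have n1 : n 1 = 0 := by simp [n, h.map_one]
  have nb : ∀ b hb, n (XB b hb) = b * n (XB 1 (map_one _)) := fun b hb => by
    by_cases b0 : b = 0
    · subst b0; rw [zero_mul]; exact n1
    obtain ⟨s, hs⟩ := nm_surj (t := b⁻¹) (by rw [map_inv₀, hb])
    have := eq s b hb (fun e => inv_ne_zero b0 (by simp [← hs, e])) b0 (XB 1 (map_one _)) rfl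
    rw [show au s b hb 1 (XB 1 _) = XB b hb by ext <;> simp [au, XB], hs] at this
    rw [this]; field_simp
  have ne : ∀ b hb, n (XE b hb) = b * n (XE 1 (map_one _)) := fun b hb => by
    by_cases b0 : b = 0
    · subst b0; rw [zero_mul]; exact n1
    obtain ⟨s, rfl⟩ := nm_surj hb
    have := eq s 1 (map_one _) (fun e => b0 (by simp [e])) one_ne_zero (XE 1 (map_one _)) rfl
    rw [show au s 1 _ 1 (XE 1 _) = XE (nm s) hb by ext <;> simp [au, XE, nm]] at this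
    rw [this]; ring
  have nc := zero_nm (d := fun c => n (XC c)) (fun a b => by
    rw [← add _ rfl _ rfl]; congr 1; ext <;> usimp3) fun s hs => by
      have := eq s 1 (map_one _) hs one_ne_zero (XC 1) rfl
      rw [show au s 1 _ 1 (XC 1) = XC s by ext <;> simp [au, XC]] at this
      rw [this]; ring
  have nd := zero_one (d := fun c => n (XD c)) (fun a b => by
    rw [← add _ rfl _ rfl]; congr 1; ext <;> usimp3) fun s hs => by
      have N := nm_ne_zero hs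
      rw [← au_XD hs, eq _ _ _ (ad_ne_zero hs) (inv_ne_zero N) _ rfl, nm_ad]; field_simp
  have fx : ∀ x, φ (n x) = n x := fun x => by simp [n]
  obtain ⟨k, hk, k1, k2, k3, k4⟩ : ∃ k : U K, k.a = 0 ∧ k.b = n (XE 1 (map_one _)) ∧ k.c = 0 ∧
      k.d = 0 ∧ k.e = -n (XB 1 (map_one _)) :=
    ⟨⟨0, _, 0, 0, _, 0, fx _, by rw [map_neg, fx], map_zero _⟩, rfl, rfl, rfl, rfl, rfl⟩
  refine ⟨k, hk, fun x hx => ?_⟩
  have m := cm_Q1 hk hx
  have a := coZ.1 (t x hx)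
  have b := (coZ (x := x)).1 m
  refine U.ext (a.1.trans b.1.symm) (a.2.1.trans b.2.1.symm) (a.2.2.1.trans b.2.2.1.symm)
    (a.2.2.2.1.trans b.2.2.2.1.symm) (a.2.2.2.2.trans b.2.2.2.2.symm) ?_
  have d : n x = x.b * n (XB 1 (map_one _)) + x.e * n (XE 1 (map_one _)) := by
    conv_lhs => rw [dec x]
    rw [show XA x.a = 1 by rw [mem_Q1.1 hx]; rfl, one_mul,
      add _ rfl _ (mul_mem rfl (mul_mem rfl (mul_mem rfl rfl))),
      add _ rfl _ (mul_mem rfl (mul_mem rfl rfl)), add _ rfl _ (mul_mem rfl rfl), add _ rfl _ rfl,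
      nb, ne, nc, nd]
    simp [n, fixZ h t (XF_mem _ _)]
  rw [cj_eq, mul_f', m.1, m.2.1, m.2.2.1, cm_f_Q1 hk hx, k1, k2, k3, k4]
  simp only [zero_mul, mul_zero, tr_zero, ad_zero, nm_zero]
  linear_combination d

theorem cen2 (h : HomOn η Q2) (t : ∀ x ∈ Q2, x⁻¹ * η x ∈ sW K)
    (e : ∀ s u hu, s ≠ 0 → u ≠ 0 → ∀ x ∈ Q2, η (au s u hu 1 x) = au s u hu 1 (η x)) :
    ∃ k ∈ Q2, ∀ x ∈ Q2, η x = k * x * k⁻¹ := by
  have gen : ∀ X : K → U K, (∀ a, X a ∈ Q2) → (∀ a b, X (a + b) = X a * X b) →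
      (∀ s, au s 1 (map_one _) 1 (X 1) = X s) → (∀ a, (X a).d = 0 ∧ (X a).e = 0 ∧ (X a).f = 0) →
      ((∀ a, (X a).a = 0) ∨ ∀ a, (X a).c = 0) → ∀ a, η (X a) = X a := fun X m ad eq z o a => by
    have c := fun a => coW.1 (t _ (m a))
    have b : ∀ a, (η (X a)).b = 0 := fun a => (c a).2.1.trans (m a)
    have eq' : ∀ s, s ≠ 0 → η (X s) = au s 1 (map_one _) 1 (η (X 1)) := fun s hs => by
      rw [← e _ _ _ hs one_ne_zero _ (m 1), eq]
    have hd := zero_ad (d := fun a => (η (X a)).d) (fun x y => by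
      rw [ad, h (m x) (m y), mul_d', b, (c y).1, (c x).2.2]
      rcases o with o | o <;> simp [o]) fun s hs => by rw [eq' s hs, au_d, mul_one]
    have he := zero_nm (d := fun a => (η (X a)).e) (fun x y => by
      rw [ad, h (m x) (m y), mul_e', b, (c y).1, (c x).2.2, hd x]
      rcases o with o | o <;> simp [o]) fun s hs => by rw [eq' s hs, au_e, mul_one]
    have hf := zero_nm (d := fun a => (η (X a)).f) (fun x y => by
      rw [ad, h (m x) (m y), mul_f', b, b, (c y).1, (c x).2.2, (c y).2.2, hd x]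
      rcases o with o | o <;> simp [o]) fun s hs => by rw [eq' s hs, au_f, one_pow, mul_one]
    exact U.ext (c a).1 (c a).2.1 (c a).2.2 ((hd a).trans (z a).1.symm)
      ((he a).trans (z a).2.1.symm) ((hf a).trans (z a).2.2.symm)
  have fA := gen XA (fun _ => rfl) (fun _ _ => by ext <;> usimp3) (fun _ => by ext <;> simp [au, XA])
    (fun _ => ⟨rfl, rfl, rfl⟩) (Or.inr fun _ => rfl)
  have fC := gen XC (fun _ => rfl) (fun _ _ => by ext <;> usimp3) (fun _ => by ext <;> simp [au, XC])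
    (fun _ => ⟨rfl, rfl, rfl⟩) (Or.inl fun _ => rfl)
  have fD : ∀ y, η (XD y) = XD y := fun y => by
    have c := fun a => coZ2.1 (fixW h t (XD_mem a))
    have ad : ∀ a b : K, η (XD (a + b)) = η (XD a) * η (XD b) := fun a b => by
      rw [← h (x := XD a) rfl rfl]; congr 1; ext <;> usimp3
    have eq' := fun s (hs : s ≠ 0) => (congrArg η (au_XD hs)).symm.trans
      (e _ _ _ (ad_ne_zero hs) (inv_ne_zero (nm_ne_zero hs)) _ rfl)
    refine U.ext (c y).1 (c y).2.1 (c y).2.2.1 (c y).2.2.2 (zero_nm (d := fun a => (η (XD a)).e)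
      (fun x y => by rw [ad, mul_e', (c y).1]; simp [XD]) (fun s hs => ?_) y)
      (zero_one (d := fun a => (η (XD a)).f) (fun x y => by
        rw [ad, mul_f', (c y).1, (c y).2.1, (c y).2.2.1]; simp [XD]) (fun s hs => ?_) y) <;>
      have N := nm_ne_zero hs
    · rw [eq' s hs, au_e, nm_ad]; field_simp
    · rw [eq' s hs, au_f, nm_ad]; field_simp
  refine ⟨1, one_mem _, fun x hx => ?_⟩
  have d := dec x
  rw [show XB x.b x.hb = 1 from U.ext rfl hx rfl rfl rfl rfl, one_mul] at d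
  conv_lhs => rw [d]
  rw [h (x := XA _) rfl (mul_mem rfl (mul_mem rfl (mul_mem rfl rfl))),
    h (x := XC _) rfl (mul_mem rfl (mul_mem rfl rfl)), h (x := XD _) rfl (mul_mem rfl rfl), fA, fC,
    fD, fixZ2 h t (mul_mem (XE_mem _ _) (Z_Z2 (XF_mem _ _))), ← d]
  simp

variable [Finite K] {F : FusionSystem (⊤ : Subgroup (U K))} {p : ℕ} [Fact p.Prime] [CharP K p]
  {σ : Perm (U K)}

theorem inn (hF : F.IsSaturated p) (h : sD K ≤ E) (hσ : F.Iso E E σ) (h1 : ∀ x ∈ sZ K, σ x = x)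
    (h2 : ∀ x ∈ sZ2 K, x⁻¹ * σ x ∈ sZ K) (h3 : ∀ x ∈ sW K, x⁻¹ * σ x ∈ sZ2 K)
    (h4 : ∀ x ∈ E, x⁻¹ * σ x ∈ sW K) : ∃ g, ∀ x ∈ E, σ x = g * x * g⁻¹ := by
  have k3 := W_D.trans h
  have k2 := Z2_W.trans k3
  obtain ⟨g, -, -, e⟩ := mem_innS.1 (mem_innS_of_chain
    ((fn_of_D h).isFullyAutomized hF (topP p)) (topP p)
    (C := ch (sZ K) (sZ2 K) (sW K) (sD K) E) (n := 5) (fun i hi => by
      interval_cases i
      exacts [bot_le, Z_Z2.trans k2, k2, k3, h, le_rfl]) (fun i hi => by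
      interval_cases i
      exacts [bot_le, Z_Z2, Z2_W, W_D, h]) rfl rfl (fun g _ _ i hi x hx => by
      interval_cases i
      exacts [cm_eq_one.2 (comm_Z g hx), cm_Z' g hx, cm_Z2' g hx, cm_W' g hx, cm_D g x]) hσ
    fun i hi x hx => by
      interval_cases i
      exacts [by rw [h1 x hx, inv_mul_cancel]; rfl, h2 x hx, h3 x hx, h4 x (h hx), W_D (h4 x hx)])
  exact ⟨g, e⟩

theorem inv_W_Q2 : Inv F Q2 (sW K) := fun τ hτ w hw => by
  obtain ⟨g, hg, x, hx, g', hg', x', hx', z, hz, rfl⟩ := decW hw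
  have m1 := (cm_Q2 hg hx).2.1
  have m2 := (cm_Q2 hg' hx').2.1
  rw [hτ.homOn (mul_mem m1 m2) hz.2.1, hτ.homOn m1 m2, map_cm hτ hg hx, map_cm hτ hg' hx']
  exact mul_mem (mul_mem (cm_Q2 (hτ.mem hg) (hτ.mem hx)) (cm_Q2 (hτ.mem hg') (hτ.mem hx')))
    (Z2_W (mem_Z2_of_comm fun w hw => by
      simpa using map_comm hτ hz.2.1 (hτ.inv_mem hw.2) (comm_Z2 (hτ.inv_mem hw.2) hz).symm))

end LFa

open LFa

instance instLF : LF where
  f1 {K} _ _ _ p _ _ F h hT ω hω hc := key p (A := sZ K) (Z_Z2.trans (Z2_W.trans (W_D.trans D_Q1)))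
    inv_Z_Q1 (fun _ hg _ hx => cm_Q1 hg hx) D_Q1 (fun s u hu _ hx => au_Q1 s u hu 1 hx) hT hω
    (fun x hx y hy => by
      ext <;> simp only [w1] <;> usimp3 <;>
        (try simp only [mem_Q1.1 hy, map_zero, zero_mul, add_zero]) <;> ring)
    (fun _ _ => rfl) (fun x hx y hy e => by
      have b : x.b = y.b := neg_inj.1 (congrArg U.e e)
      have c : x.c = y.c := congrArg U.d e
      have d : x.d = y.d := neg_inj.1 (congrArg U.c e)
      have e' : x.e = y.e := congrArg U.b e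
      exact U.ext (hx.trans hy.symm) b c d e' (by simpa [w1, b, c, d, e'] using congrArg U.f e))
    (fun x hx => coZ.2 ⟨hω.mem hx, hc x hx⟩) (fun s u hu hs hu0 =>
      ⟨s⁻¹, nm s * u, by rw [map_mul, φ_nm, hu], inv_ne_zero hs, mul_ne_zero (nm_ne_zero hs) hu0,
        fun x _ => by
          have h1 := φ_ne_zero hs
          have h2 := φ_ne_zero h1
          ext <;> simp only [w1, au, one_ap, nm, map_mul, map_inv₀, φφφ, hu, mul_zero] <;>
            field_simp⟩)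
    (fun η hη t => by
      obtain ⟨g, e⟩ := inn h.sat D_Q1 hη (fun x hx => fixZ hη.homOn t hx) (fun x hx => t x hx.1)
        (fun x hx => Z_Z2 (t x hx.1)) fun x hx => Z2_W (Z_Z2 (t x hx))
      refine mem_innS_self.2 ⟨g, ?_, e⟩
      have := (t (XB 1 (map_one _)) rfl).2.2.1
      rw [e _ rfl, cm_def, cm_c] at this
      simpa [XB, mem_Q1] using this) fun _ => cen1
  f2 {K} _ _ _ p _ _ F h hT ω hω hc := key p (A := sW K) (W_D.trans D_Q2) inv_W_Q2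
    (fun _ hg _ hx => cm_Q2 hg hx) D_Q2
    (fun s u hu x hx => show u * x.b = 0 by rw [mem_Q2.1 hx, mul_zero]) hT hω
    (fun x hx y hy => by
      ext <;> simp only [w2] <;> usimp3 <;>
        simp only [mem_Q2.1 hx, mem_Q2.1 hy, zero_mul, mul_zero, add_zero] <;> ring)
    (fun _ _ => rfl) (fun x hx y hy e => by
      have a : x.a = y.a := congrArg U.c e
      have c : x.c = y.c := neg_inj.1 (congrArg U.a e)
      exact U.ext a (hx.trans hy.symm) c (by simpa [w2, a, c] using congrArg U.d e)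
        (by simpa [w2, a, c] using congrArg U.f e) (by simpa [w2, a, c] using congrArg U.e e))
    (fun x hx => coW.2 ⟨(hc x hx).1, hω.mem hx, (hc x hx).2⟩) (fun s u hu hs hu0 =>
      ⟨s * u, u⁻¹, by rw [map_inv₀, hu], mul_ne_zero hs hu0, inv_ne_zero hu0, fun x _ => by
        ext <;> simp only [w2, au, one_ap, map_mul, map_inv₀, hu, mul_zero] <;> field_simp⟩)
    (fun η hη t => by
      obtain ⟨g, e⟩ := inn h.sat D_Q2 hη (fun x hx => fixZ2 hη.homOn t (Z_Z2 hx))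
        (fun x hx => by rw [fixZ2 hη.homOn t hx, inv_mul_cancel]; exact one_mem _)
        (fun x hx => fixW hη.homOn t hx) t
      refine mem_innS_self.2 ⟨g, ?_, e⟩
      have := (t (XA 1) rfl).2.2
      rw [e _ rfl, cm_def, cm_c] at this
      simpa [XA, mem_Q2] using this) fun _ => cen2

end Cfsg.Agent.D3
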