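import Cfsg.Agent.D3.M1

/-! Collection in the unipotent group of `D₄`. -/

set_option autoImplicit false

namespace Cfsg.Agent.D3.LL

open U

/-- the positive roots, class by class -/
def ord : List ℕ := [18, 13, 12, 14, 19, 16, 15, 17, 20, 21, 22, 23]

def sw (r s : ℕ) : Bool := decide (r ∈ ord) && Nat.blt (ord.idxOf s) (ord.idxOf r)

def TB : List (ℕ × ℕ × ℕ × Bool) :=
  [(14, 18, 19, false), (14, 13, 16, true), (14, 12, 15, true), (19, 13, 21, true), (19, 12, 20, true),
   (16, 18, 21, false), (16, 12, 17, true), (15, 18, 20, false), (15, 13, 17, true), (17, 18, 22, false),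
   (17, 19, 23, false), (20, 13, 22, true), (20, 16, 23, false), (21, 12, 22, true), (21, 15, 23, false),
   (22, 14, 23, true)]

def tab (r s : ℕ) : List (ℕ × Bool) := (TB.filter fun e => Nat.beq e.1 r && Nat.beq e.2.1 s).map (·.2.2)

section
variable {A B : Type*} (ad mu : A → A → A) (ng : A → A)

def mon (e : ℕ × Bool) (p q : A) : A := cond e.2 (ng (mu q p)) (mu q p)

/-- left multiplication of a collected word by a root element -/
def ins : ℕ → ℕ → A → List (ℕ × A) → List (ℕ × A)
  | n + 1, r, p, (s, q) :: w => cond (Nat.beq r s) ((r, ad p q) :: w) (cond (sw r s)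
      ((s, q) :: ins n r p ((tab r s).foldr (fun e l => ins n e.1 (mon mu ng e p q) l) w)) ((r, p) :: (s, q) :: w))
  | _, r, p, w => (r, p) :: w

def col (w w' : List (ℕ × A)) : List (ℕ × A) := w.foldr (fun e l => ins ad mu ng 14 e.1 e.2 l) w'

variable {ad mu ng} {ad' mu' : B → B → B} {ng' : B → B} {f : A → B} (h1 : ∀ p q, f (ad p q) = ad' (f p) (f q))
  (h2 : ∀ p q, f (mu p q) = mu' (f p) (f q)) (h3 : ∀ p, f (ng p) = ng' (f p))
include h1 h2 h3

theorem ins_map (n r : ℕ) (p : A) (w : List (ℕ × A)) :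
    (ins ad mu ng n r p w).map (Prod.map id f) = ins ad' mu' ng' n r (f p) (w.map (Prod.map id f)) := by
  induction n generalizing r p w with
  | zero => simp [ins]
  | succ n ih =>
    obtain _ | ⟨⟨s, q⟩, w⟩ := w
    · simp [ins]
    have k : ∀ l : List (ℕ × Bool), (l.foldr (fun e l => ins ad mu ng n e.1 (mon mu ng e p q) l) w).map
        (Prod.map id f) = l.foldr (fun e l => ins ad' mu' ng' n e.1 (mon mu' ng' e (f p) (f q)) l)
          (w.map (Prod.map id f)) := fun l => by
      induction l with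
      | nil => rfl
      | cons e l ih' =>
        rw [List.foldr_cons, List.foldr_cons, ih, ih', show f (mon mu ng e p q) = mon mu' ng' e (f p) (f q) by
          simp only [mon, Bool.apply_cond f, h2, h3]]
    simp only [ins, List.map_cons, Prod.map_apply, id, Bool.apply_cond (List.map _), ih, h1, k]

theorem col_map (w w' : List (ℕ × A)) : (col ad mu ng w w').map (Prod.map id f) =
    col ad' mu' ng' (w.map (Prod.map id f)) (w'.map (Prod.map id f)) := by
  induction w with
  | nil => rfl
  | cons e w ih => exact (ins_map h1 h2 h3 ..).trans (congrArg _ ih)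

end

variable {K G : Type*} [Field K] [Group G] {x : ℕ → K → G}

def evW (x : ℕ → K → G) (w : List (ℕ × K)) : G := (w.map fun e => x e.1 e.2).prod

/-- the commutator relations of the positive root elements -/
structure FR (x : ℕ → K → G) : Prop where
  add : ∀ r t u, x r (t + u) = x r t * x r u
  rel : ∀ r s, sw r s = true → ∀ t u, x r u * x s t = x s t * x r u *
    ((tab r s).map fun e => x e.1 (mon (· * ·) (- ·) e u t)).prod

omit [Field K] in
theorem evW_cons (e : ℕ × K) (w : List (ℕ × K)) : evW x (e :: w) = x e.1 e.2 * evW x w := List.prod_cons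

theorem FR.zero (h : FR x) (r : ℕ) : x r 0 = 1 := by simpa using h.add r 0 0

theorem FR.ins (h : FR x) (n r : ℕ) (p : K) (w : List (ℕ × K)) :
    evW x (ins (· + ·) (· * ·) (- ·) n r p w) = x r p * evW x w := by
  induction n generalizing r p w with
  | zero => simp [LL.ins, evW_cons]
  | succ n ih =>
    obtain _ | ⟨⟨s, q⟩, w⟩ := w
    · simp [LL.ins, evW_cons]
    have k : ∀ l : List (ℕ × Bool), evW x (l.foldr (fun e l => LL.ins (· + ·) (· * ·) (- ·) n e.1
        (mon (· * ·) (- ·) e p q) l) w) = (l.map fun e => x e.1 (mon (· * ·) (- ·) e p q)).prod * evW x w := fun l => by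
      induction l with
      | nil => simp
      | cons e l ih' => rw [List.foldr_cons, ih, ih', List.map_cons, List.prod_cons, mul_assoc]
    rw [LL.ins]
    cases e : Nat.beq r s
    · cases e' : sw r s
      · exact evW_cons ..
      · simp only [cond_false, cond_true, evW_cons, ih, k, ← mul_assoc, h.rel r s e']
    · obtain rfl := Nat.eq_of_beq_eq_true e
      simp only [cond_true, evW_cons, h.add, mul_assoc]

theorem FR.col (h : FR x) (w w' : List (ℕ × K)) :
    evW x (col (· + ·) (· * ·) (- ·) w w') = evW x w * evW x w' := by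
  induction w with
  | nil => exact (one_mul _).symm
  | cons e w ih => exact (h.ins ..).trans (by rw [evW_cons, mul_assoc, ← ih]; rfl)

theorem shape {r : ℕ} (hr : r ∈ ord) (t : K) {w : List (ℕ × K)} (hw : w.map (·.1) = ord) :
    (ins (· + ·) (· * ·) (- ·) 14 r t w).map (·.1) = ord := by
  have h := congrArg (List.map (·.1)) (ins_map (ad := (· + ·)) (mu := (· * ·)) (ng := (- ·)) (f := fun _ => ())
    (ad' := fun _ _ => ()) (mu' := fun _ _ => ()) (ng' := fun _ => ()) (fun _ _ => rfl) (fun _ _ => rfl)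
    (fun _ => rfl) 14 r t w)
  rw [show w.map (Prod.map id fun _ => ()) = ord.map (·, ()) by rw [← hw, List.map_map]; rfl, List.map_map] at h
  exact h.trans ((by decide +kernel : ∀ r ∈ ord, (ins (fun _ _ => ()) (fun _ _ => ()) (fun _ => ()) 14 r ()
    (ord.map (·, ()))).map (·.1) = ord) r hr)

/-! polynomials over `ℤ` -/

abbrev Po := List (ℤ × List ℕ)

def inM (i : ℕ) : List ℕ → List ℕ
  | [] => [i]
  | j :: m => cond (Nat.ble i j) (i :: j :: m) (j :: inM i m)

def ltM : List ℕ → List ℕ → Bool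
  | i :: m, j :: n => Nat.blt i j || (Nat.beq i j && ltM m n)
  | _, n => !n.isEmpty

def inP (m : ℤ × List ℕ) : Po → Po
  | [] => [m]
  | n :: p => if m.2 = n.2 then (if m.1 + n.1 = 0 then p else (m.1 + n.1, m.2) :: p) else
      cond (ltM m.2 n.2) (m :: n :: p) (n :: inP m p)

def adP (p q : Po) : Po := p.foldr inP q
def muP (p q : Po) : Po := p.foldr (fun m l => q.foldr (fun n l => inP (m.1 * n.1, m.2.foldr inM n.2) l) l) []
def ngP (p : Po) : Po := muP [(-1, [])] p
def evP (ρ : ℕ → K) (p : Po) : K := (p.map fun m : ℤ × List ℕ => (m.1 : K) * (m.2.map ρ).prod).sum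

variable {ρ : ℕ → K}

theorem ev_inM (i : ℕ) (m : List ℕ) : ((inM i m).map ρ).prod = ρ i * (m.map ρ).prod := by
  induction m with
  | nil => simp [inM]
  | cons j m ih => cases e : Nat.ble i j <;> simp [inM, e, ih, mul_left_comm]

theorem evP_cons (m : ℤ × List ℕ) (p : Po) : evP ρ (m :: p) = m.1 * (m.2.map ρ).prod + evP ρ p := rfl

theorem ev_inP (m : ℤ × List ℕ) (p : Po) : evP ρ (inP m p) = m.1 * (m.2.map ρ).prod + evP ρ p := by
  induction p with
  | nil => rfl
  | cons n p ih =>
    rw [inP]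
    split_ifs with e e'
    · rw [evP_cons, e, ← add_assoc, ← add_mul, ← Int.cast_add, e', Int.cast_zero, zero_mul, zero_add]
    · rw [evP_cons, evP_cons, e, Int.cast_add, add_mul, add_assoc]
    · cases ltM m.2 n.2
      · exact (congrArg (_ + ·) ih).trans (add_left_comm ..)
      · rfl

theorem ev_adP (p q : Po) : evP ρ (adP p q) = evP ρ p + evP ρ q := by
  induction p with
  | nil => exact (zero_add _).symm
  | cons m p ih => exact (ev_inP ..).trans ((congrArg (_ + ·) ih).trans (add_assoc ..).symm)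

theorem ev_muP (p q : Po) : evP ρ (muP p q) = evP ρ p * evP ρ q := by
  have k1 : ∀ m n : List ℕ, ((m.foldr inM n).map ρ).prod = (m.map ρ).prod * (n.map ρ).prod := fun m n => by
    induction m <;> simp [ev_inM, mul_assoc, *]
  have k2 : ∀ (m : ℤ × List ℕ) l, evP ρ (q.foldr (fun n l => inP (m.1 * n.1, m.2.foldr inM n.2) l) l) =
      m.1 * (m.2.map ρ).prod * evP ρ q + evP ρ l := fun m l => by
    induction q with
    | nil => simp [evP]
    | cons n q ih => rw [List.foldr_cons, ev_inP, ih, k1, evP_cons, Int.cast_mul]; ring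
  induction p with
  | nil => exact (zero_mul _).symm
  | cons m p ih => exact (k2 ..).trans ((congrArg (_ + ·) ih).trans (add_mul ..).symm)

theorem ev_ngP (p : Po) : evP ρ (ngP p) = -evP ρ p := by rw [ngP, ev_muP]; simp [evP]

/-- evaluation of a symbolic word -/
def evL (ρ : ℕ → K) (w : List (ℕ × Po)) : List (ℕ × K) := w.map (Prod.map id (evP ρ))

theorem FR.colP (h : FR x) (ρ : ℕ → K) {w w' l : List (ℕ × Po)} (e : LL.col adP muP ngP w w' = l) :
    evW x (evL ρ w) * evW x (evL ρ w') = evW x (evL ρ l) := by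
  rw [← e, ← h.col]
  exact congrArg _ (col_map ev_adP ev_muP ev_ngP _ _).symm

theorem evL_var (ρ : ℕ → K) (l : List ℕ) (π f : ℕ → ℕ) (c : ℕ → ℤ) :
    evL ρ (l.map fun r => (π r, [(c r, [f r])])) = l.map fun r => (π r, c r * ρ (f r)) := by
  simp [evL, evP]

def PL : List (ℕ × Po) :=
  [(18, [(1, [18]), (1, [30])]), (13, [(1, [13]), (1, [25])]), (12, [(1, [12]), (1, [24])]), (14, [(1, [14]), (1,
   [26])]), (19, [(1, [14, 30]), (1, [19]), (1, [31])]), (16, [(-1, [14, 25]), (1, [16]), (1, [28])]), (15, [(-1,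
   [14, 24]), (1, [15]), (1, [27])]), (17, [(1, [14, 24, 25]), (-1, [15, 25]), (-1, [16, 24]), (1, [17]), (1,
   [29])]), (20, [(-1, [14, 24, 30]), (1, [15, 30]), (-1, [19, 24]), (1, [20]), (1, [32])]), (21, [(-1, [14, 25,
   30]), (1, [16, 30]), (-1, [19, 25]), (1, [21]), (1, [33])]), (22, [(1, [14, 24, 25, 30]), (-1, [15, 25, 30]),
   (-1, [16, 24, 30]), (1, [17, 30]), (1, [19, 24, 25]), (-1, [20, 25]), (-1, [21, 24]), (1, [22]), (1, [34])]),
   (23, [(1, [14, 14, 24, 25, 30]), (-1, [14, 15, 25, 30]), (-1, [14, 16, 24, 30]), (1, [14, 19, 24, 25]), (-1,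
   [14, 24, 25, 26, 30]), (1, [14, 24, 25, 31]), (-1, [14, 24, 28, 30]), (-1, [14, 25, 27, 30]), (1, [15, 16,
   30]), (-1, [15, 19, 25]), (1, [15, 25, 26, 30]), (-1, [15, 25, 31]), (1, [15, 28, 30]), (-1, [16, 19, 24]),
   (1, [16, 24, 26, 30]), (-1, [16, 24, 31]), (1, [16, 27, 30]), (-1, [17, 26, 30]), (1, [17, 31]), (-1, [19, 24,
   25, 26]), (-1, [19, 24, 28]), (-1, [19, 25, 27]), (1, [20, 25, 26]), (1, [20, 28]), (1, [21, 24, 26]), (1,
   [21, 27]), (-1, [22, 26]), (1, [23]), (1, [35])])]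

theorem col_PL : col adP muP ngP (ord.map fun r => (r, [(1, [r])])) (ord.map fun r => (r, [(1, [r + 12])])) = PL := by
  decide +kernel

variable [TF K]

/-- the coordinates of an element of the model -/
def crd (u : U K) (r : ℕ) : K :=
  [φ (φ u.a), φ u.a, u.b, -φ (φ u.c), -φ u.c, u.d, u.a, u.c, -φ u.d, -φ (φ u.d), u.e, u.f].getD (r - 12) 0

def wd (u : U K) : List (ℕ × K) := ord.map fun r => (r, crd u r)

theorem wd_eq (u : U K) : wd u = [(18, u.a), (13, φ u.a), (12, φ (φ u.a)), (14, u.b), (19, u.c), (16, -φ u.c),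
    (15, -φ (φ u.c)), (17, u.d), (20, -φ u.d), (21, -φ (φ u.d)), (22, u.e), (23, u.f)] := rfl

theorem FR.wd_mul (h : FR x) (a b : U K) : evW x (wd (a * b)) = evW x (wd a) * evW x (wd b) := by
  have k := h.colP (fun i => if i < 24 then crd a i else crd b (i - 12)) col_PL
  rw [evL_var _ _ (fun r => r) (fun r => r) fun _ => 1, evL_var _ _ (fun r => r) (· + 12) fun _ => 1] at k
  refine Eq.trans (congrArg _ ?_) (k.symm.trans (congrArg₂ (evW x · * evW x ·) ?_ ?_))
  · simp only [wd_eq, PL, evL, evP, crd, List.map, Prod.map_apply, id, List.sum_cons, List.prod_cons, List.sum_nil,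
      List.prod_nil, Nat.reduceSub, Nat.reduceLT, if_true, if_false, List.getD_cons_succ, List.getD_cons_zero,
      List.cons.injEq, Prod.mk.injEq, true_and, and_true, Int.cast_one, Int.cast_neg]
    usimp3
    refine ⟨?_, ?_, ?_, ?_, ?_, ?_, ?_, ?_, ?_, ?_, ?_, ?_⟩ <;> first | ring1 | trivial
  · simp [wd, ord]
  · simp [wd, ord]

/-- the embedding of the model -/
def FR.J (h : FR x) : U K →* G := MonoidHom.mk' (fun u => evW x (wd u)) h.wd_mul

theorem wd_inj {u w : U K} (h : wd u = wd w) : u = w := by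
  simp only [wd_eq, List.cons.injEq, Prod.mk.injEq, true_and, and_true] at h
  ext <;> simp only [h]

end Cfsg.Agent.D3.LL
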