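import Cfsg.Agent.D3.G1
import Cfsg.Agent.Lt.H2c
import Cfsg.Agent.Lt.Gr5
import Cfsg.Agent.Lt.TD4
import Cfsg.Agent.Lt.R9
import Cfsg.Agent.Lt.R2
import Cfsg.Agent.Lt.T3

/-! The model is the group of fixed points in the unipotent group of `D₄`. -/

set_option autoImplicit false
set_option maxRecDepth 100000
set_option linter.unusedSectionVars false

namespace Cfsg.Agent.D3.LL

open Subgroup Cfsg.Lie Cfsg.Agent.Lt Cfsg.Agent.Lt.Tw Cfsg.Agent.Lt.Gra Cfsg.Agent.Lt.H2 U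

def rt (n : ℕ) : Fin chevD4.nroots := ⟨n % 24, Nat.mod_lt _ (by decide)⟩

theorem rt_val (r : Fin chevD4.nroots) : rt r = r := Fin.ext (Nat.mod_eq_of_lt r.2)

theorem chk0 {D : ChevalleyDatum} (p : ℕ) {w w' : List (Fin D.nroots × ℤ)} (h : chk D 0 w w' = true) :
    chk D p w w' = true := by
  simp only [chk, eqv, List.all_eq_true, decide_eq_true_eq, Nat.cast_zero, Int.emod_zero] at h ⊢
  intro j hj q hq
  rw [h j hj q hq, Int.zero_emod]

theorem rok : ∀ r ∈ ord, ∀ s ∈ ord, sw r s = true →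
    RelOK tabD4.co 0 1 (rt s) (rt r) ((tab r s).map fun e => (rt e.1, cond e.2 (-1) 1, 1, 1)) := by decide +kernel

theorem fn_of {A : Type*} [Zero A] {l : List ℕ} (hl : l.Nodup) {w : List (ℕ × A)} (hw : w.map (·.1) = l) :
    ∃ t : ℕ → A, w = l.map fun r => (r, t r) := by
  subst hw
  induction w with
  | nil => exact ⟨0, rfl⟩
  | cons e w ih =>
    obtain ⟨h1, h2⟩ := List.nodup_cons.1 hl
    obtain ⟨t, ht⟩ := ih h2
    refine ⟨Function.update t e.1 e.2, ?_⟩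
    rw [List.map_cons, List.map_cons, Function.update_self, List.map_congr_left (g := fun r => (r, t r))
      fun r hr => by rw [Function.update_of_ne (by rintro rfl; exact h1 hr)], ← ht]

variable {K : Type} [Field K] [Finite K]

noncomputable def xd (K : Type) [Field K] (n : ℕ) (t : K) : GL chevD4.Idx K := xu chevD4 K (rt n) t

theorem X1_eq (r : Fin chevD4.nroots) (t : K) : X K 1 r t = xu chevD4 K r t := by simp [X]

local notation "𝒰" => XS tabD4.v (xu chevD4 K) (cone (tabD4.v ∘ tabD4.s) Set.univ)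

theorem cxD : Cx tabD4 K tabD4.co 1 := by
  obtain ⟨p, _⟩ := CharP.exists K
  haveI : Fact p.Prime := ⟨CharP.char_is_prime K p⟩
  exact ⟨ifD4, (RDX.out p (ifD4.rd K)).choose_spec.lead, fun _ _ => rfl, rfl⟩

theorem xu_inj {r : Fin chevD4.nroots} {t t' : K} (e : xu chevD4 K r t = xu chevD4 K r t') : t = t' :=
  cxD.inj (r := r) (by rwa [X1_eq, X1_eq])

theorem frD : FR (xd K) where
  add _ := ifD4.xu_add K _
  rel r s h t u := by
    obtain ⟨p, _⟩ := CharP.exists K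
    have ⟨h1, h2⟩ : r ∈ ord ∧ ord.idxOf s < ord.idxOf r := by simpa [sw, Nat.blt_eq] using h
    obtain ⟨a, b, c, d⟩ := rok r h1 s (List.idxOf_lt_length_iff.1 (h2.trans_le List.idxOf_le_length)) h
    have := (cxD (K := K)).rel (p := p) ⟨a, b, c, chk0 p d⟩ t u
    simp only [X1_eq, List.map_map] at this
    refine this.trans (congrArg (_ * List.prod ·) (List.map_congr_left fun e he => congrArg (xd K e.1) ?_))
    cases h : e.2 <;> simp [mon, h]

def sepL : List (ℕ × ℕ × List ℤ) → Bool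
  | [] => true
  | a :: l => decide (SepOK tabD4.co a.2 (rt a.1) (l.map fun b => rt b.1)) && sepL l

theorem uq_of (l : List (ℕ × ℕ × List ℤ)) (hl : sepL l = true) {w w' : List (ℕ × K)}
    (h : w.map (·.1) = l.map (·.1)) (h' : w'.map (·.1) = l.map (·.1)) (e : evW (xd K) w = evW (xd K) w') : w = w' := by
  have c := cxD (K := K)
  induction l generalizing w w' with
  | nil => rw [List.map_eq_nil_iff.1 h, List.map_eq_nil_iff.1 h']
  | cons a l ih =>
    obtain ⟨h1, h2⟩ := Bool.and_eq_true_iff.1 hl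
    have m : ∀ w : List (ℕ × K), w.map (·.1) = l.map (·.1) → evW (xd K) w ∈ Uni K tabD4.deg (posW tabD4 a.2) :=
      fun w hw => list_prod_mem fun g hg => by
        obtain ⟨b, hb, rfl⟩ := List.mem_map.1 hg
        obtain ⟨d, hd, k⟩ := List.mem_map.1 (show b.1 ∈ l.map (·.1) from hw ▸ List.mem_map_of_mem hb)
        rw [xd, ← X1_eq, ← k]
        exact c.mem (of_decide_eq_true h1) (List.mem_map_of_mem hd) _
    obtain ⟨⟨r, t⟩, w, rfl, rfl, k⟩ := List.map_eq_cons_iff.1 h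
    obtain ⟨⟨r', t'⟩, w', rfl, rfl, k'⟩ := List.map_eq_cons_iff.1 h'
    simp only [evW_cons, xd, ← X1_eq] at e
    obtain ⟨rfl, e'⟩ := c.peel (of_decide_eq_true h1) (m w k) (m w' k') e
    rw [ih h2 k k' e']

theorem uq {w w' : List (ℕ × K)} (h : w.map (·.1) = ord) (h' : w'.map (·.1) = ord)
    (e : evW (xd K) w = evW (xd K) w') : w = w' :=
  uq_of [(18, 0, [0, 1, 1, 1]), (13, 0, [0, 1, 0, 1]), (12, 0, [0, 1, 0, 0]), (14, 0, [1, 0, 1, 1]),
    (19, 0, [0, 0, 1, 1]), (16, 0, [1, 0, 0, 1]), (15, 0, [1, 0, 1, 0]), (17, 0, [1, 0, 0, 0]),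
    (20, 0, [0, 0, 1, 0]), (21, 0, [0, 0, 0, 1]), (22, 1, [0, 1, 0, 0]), (23, 0, [0, 0, 0, 0])]
    (by decide +kernel) h h' e

theorem pos_iff (r : Fin chevD4.nroots) : tabD4.v r ∈ cone (tabD4.v ∘ tabD4.s) Set.univ ↔ r.1 ∈ ord := by
  have := cone_co ifD4 (J := Set.univ) (ε := 1) (r := r)
  simp only [Int.cast_one, one_smul, one_mul, Set.mem_univ, not_true, false_imp_iff, implies_true, and_true] at this
  exact this.trans ((by decide +kernel : ∀ r : Fin chevD4.nroots,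
    (∀ j : Fin chevD4.rank, 0 ≤ tabD4.co r j) ↔ r.1 ∈ ord) r)

theorem nf {g : GL chevD4.Idx K} (hg : g ∈ 𝒰) : ∃ t : ℕ → K, g = evW (xd K) (ord.map fun r => (r, t r)) := by
  obtain ⟨w, h1, h2⟩ : ∃ w : List (ℕ × K), w.map (·.1) = ord ∧ g = evW (xd K) w := by
    refine R5.XS_ind (p := fun g => ∃ w : List (ℕ × K), w.map (·.1) = ord ∧ g = evW (xd K) w) (ifD4.rd K) hg
      ⟨ord.map (·, 0), rfl, by simp [evW, xd, ord, ifD4.xu_zero]⟩ ?_
    rintro r t hr - - ⟨w, h1, rfl⟩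
    exact ⟨_, shape ((pos_iff r).1 hr) t h1, by rw [frD.ins, xd, rt_val]⟩
  obtain ⟨t, rfl⟩ := fn_of (by decide) h1
  exact ⟨t, h2⟩

theorem evW_mem {w : List (ℕ × K)} (h : w.map (·.1) = ord) : evW (xd K) w ∈ 𝒰 := list_prod_mem fun g hg => by
  obtain ⟨b, hb, rfl⟩ := List.mem_map.1 hg
  have : b.1 ∈ ord := h ▸ List.mem_map_of_mem hb
  exact mem_XS ((pos_iff _).2 ((by decide : ∀ r ∈ ord, r % 24 ∈ ord) _ this)) _

variable [TF K]

/-- the generators of the twisted group -/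
def SS (K : Type) [Field K] [TF K] : Set (GL chevD4.Idx K) :=
  {g | ∃ t, g = xd K 18 t * xd K 13 (φ t) * xd K 12 (φ (φ t)) ∨ g = xd K 5 t * xd K 10 (φ t) * xd K 11 (φ (φ t)) ∨
    φ t = t ∧ (g = xd K 14 t ∨ g = xd K 9 t)}

/-- the twisting map -/
noncomputable def sg3 (K : Type) [Field K] [TF K] : GL chevD4.Idx K →* GL chevD4.Idx K :=
  Units.map (psi gdD (φ (K := K) : K →+* K))

theorem al (p : ℕ) [Fact p.Prime] [CharP K p] : ∃ ρ τ k, Al p tabD4.deg tabD4.v tabD4.s (xu chevD4 K) ρ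
    ((sg3 K).comp (Subgroup.subtype _)) barD τ (fun r t => gD r * φ t) (closure (SS K)) k := by
  have hI := ifD4
  have h := gdD
  have hco : ∀ (r : Fin chevD4.nroots) (i : Fin chevD4.rank), tabD4.co r i = cor chevD4 r i := by decide +kernel
  have hg : ∀ i j : Fin chevD4.rank, tabD4.gram (piD i) (piD j) = tabD4.gram i j := by decide +kernel
  have hd := hI.rd K
  obtain ⟨ρ, hx⟩ := RDX.out p hd
  have hb : ∀ i, barD (tabD4.s i) = tabD4.s (piD i) := by decide +kernel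
  have g1 : ∀ i, gD (tabD4.s i) = 1 := by decide +kernel
  have g2 : ∀ i, gD (ng chevD4 (tabD4.s i)) = 1 := by decide +kernel
  have hn : ∀ i, barD (ng chevD4 (tabD4.s i)) = ng chevD4 (tabD4.s (piD i)) := by decide +kernel
  have cn : ∀ i r, tabD4.v r ∈ cone (tabD4.v ∘ tabD4.s) (o3 piD i) → ∃ j ∈ o3 piD i, r = tabD4.s j := fun i r e => by
    have := (cone_co ifD4 (ε := 1)).1 (by simpa using e)
    simp only [o3, Set.mem_insert_iff, Set.mem_singleton_iff] at this ⊢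
    revert i r
    exact fun i r _ => (by decide +kernel : ∀ (i : Fin chevD4.rank) (r : Fin chevD4.nroots),
      ((∀ j : Fin chevD4.rank, 0 ≤ 1 * tabD4.co r j) ∧ ∀ j : Fin chevD4.rank,
        ¬ (j = i ∨ j = piD i ∨ j = piD (piD i)) → 1 * tabD4.co r j = 0) →
          ∃ j, (j = i ∨ j = piD i ∨ j = piD (piD i)) ∧ r = tabD4.s j) i r
  have f2 : ∀ i, piD i ≠ i → piD (piD i) = i → ∀ t, (φ (K := K) : K →+* K) ((φ (K := K) : K →+* K) t) = t :=
    fun i a b => absurd b (by revert i; decide)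
  have hP : Side tabD4.deg tabD4.v tabD4.s (xu chevD4 K) (sg3 K) piD (φ (K := K) : K →+* K) 1 tabD4.s :=
    ⟨hd, Or.inl rfl, by simp, fun i t => by rw [sg3, h.sig hI, hb, g1]; simp, hx.lead,
      fun J u hu μ hμ => by simpa using (hx.supP J u (by simpa using hu) μ hμ).1, ⟨ρ, hx.rho⟩, cn,
      h.ord, f2, fun _ _ _ => φφφ⟩
  have hN : Side tabD4.deg tabD4.v tabD4.s (xu chevD4 K) (sg3 K) piD (φ (K := K) : K →+* K) (-1)
      (fun i => ng chevD4 (tabD4.s i)) :=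
    ⟨hd, Or.inr rfl, by simp [hI.v_ng], fun i t => by rw [sg3, h.sig hI, hn, g2]; simp, hx.lead,
      fun J u hu μ hμ => by
        simpa using (hx.supN J u (by convert hu using 2; ext; simp) μ hμ).1, ⟨ρ, hx.rho⟩, cn,
      h.ord, f2, fun _ _ _ => φφφ⟩
  let n (i : ℕ) (h : i < 4 := by decide) : Fin chevD4.rank := ⟨i, h⟩
  have tw := tw_mk hP hN (bar := barD) (τ := tauI tabD4 piD hg) (γ := fun r => (gD r : K)) (S := SS K) (fun r => by
      refine Tab.sp_ext fun i => ?_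
      obtain ⟨i, rfl⟩ := piD.surjective i
      rw [Tab.v_apply, hco, h.hb, h.cor, ← hco, ← Tab.v_apply]
      exact congrArg (tabD4.v r) (piD.symm_apply_apply i))
    hb (h.sig hI _) (fun r => left_ne_zero_of_mul_eq_one (h.sg_sq (.inr r))) (by simp [g1]) (by simp [g2])
    (by
      rintro g ⟨t, rfl | rfl | ⟨ht, rfl | rfl⟩⟩
      · exact ⟨n 0, t, .inl (.inr (.inr ⟨by decide, rfl, rfl⟩))⟩
      · exact ⟨n 0, t, .inr (.inr (.inr ⟨by decide, rfl, rfl⟩))⟩
      · exact ⟨n 1, t, .inl (.inl ⟨rfl, ht, rfl⟩)⟩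
      · exact ⟨n 1, t, .inr (.inl ⟨rfl, ht, rfl⟩)⟩)
    (fun i => by
      obtain ⟨j, hj, h⟩ : ∃ j, (j = i ∨ j = piD i ∨ j = piD (piD i)) ∧ (j = n 0 ∨ j = n 1) := by
        revert i; decide
      refine ⟨j, hj, fun t g hg => ?_⟩
      rcases h with rfl | rfl <;>
        rcases hg with (⟨a, b, c⟩ | ⟨a, b, c⟩ | ⟨a, b, c⟩) | (⟨a, b, c⟩ | ⟨a, b, c⟩ | ⟨a, b, c⟩) <;>
        first
        | exact absurd a (by decide)
        | exact absurd b (by decide)
        | exact ⟨t, .inl c⟩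
        | exact ⟨t, .inr (.inl c)⟩
        | exact ⟨t, .inr (.inr ⟨b, .inl c⟩)⟩
        | exact ⟨t, .inr (.inr ⟨b, .inr c⟩)⟩)
  obtain ⟨k, k0, tk⟩ := exists_k hd tw
  exact ⟨ρ, _, k, hd, hx, tw, k0, tk⟩

/-- the embedding -/
noncomputable def JD (K : Type) [Field K] [Finite K] [TF K] : U K →* GL chevD4.Idx K := frD.J

theorem JD_eq (u : U K) : JD K u = evW (xd K) (wd u) := rfl

theorem JD_inj : Function.Injective (JD K) := fun _ _ e => wd_inj (uq rfl rfl e)

theorem sg3_xu (r : Fin chevD4.nroots) (t : K) : sg3 K (xu chevD4 K r t) = xu chevD4 K (barD r) (gD r * φ t) :=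
  gdD.sig ifD4 _ r t

theorem sg3_w (t : ℕ → K) : sg3 K (evW (xd K) (ord.map fun r => (r, t r))) = evW (xd K)
    [(18, φ (t 12)), (13, φ (t 18)), (12, φ (t 13)), (14, φ (t 14)), (19, -φ (t 15)), (16, -φ (t 19)), (15, φ (t 16)),
      (17, -φ (t 21)), (20, -φ (t 17)), (21, φ (t 20)), (22, φ (t 22)), (23, φ (t 23))] := by
  have k := frD.colP (fun r => φ (t r)) (w := ord.map fun r => (bD r, [(gD r, [r])])) (w' := [])
    (l := [(18, [(1, [12])]), (13, [(1, [18])]), (12, [(1, [13])]), (14, [(1, [14])]), (19, [(-1, [15])]),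
      (16, [(-1, [19])]), (15, [(1, [16])]), (17, [(-1, [21])]), (20, [(-1, [17])]), (21, [(1, [20])]),
      (22, [(1, [22])]), (23, [(1, [23])])]) (by decide +kernel)
  rw [evL_var _ _ bD (fun r => r) gD] at k
  refine Eq.trans ?_ (((mul_one _).symm.trans k).trans (congrArg _ (by simp [evL, evP])))
  simp only [evW, map_list_prod, List.map_map]
  refine congrArg _ (List.map_congr_left fun r hr => (sg3_xu _ _).trans ?_)
  obtain ⟨a, b⟩ := (by decide +kernel : ∀ r ∈ ord, barD (rt r) = rt (bD r) ∧ gD (rt r) = gD r) r hr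
  rw [a, b]
  rfl

theorem range_J : (JD K).range = closure (SS K) ⊓ 𝒰 := by
  obtain ⟨p, _⟩ := CharP.exists K
  haveI : Fact p.Prime := ⟨CharP.char_is_prime K p⟩
  obtain ⟨ρ, τ, k, h⟩ := al (K := K) p
  refine le_antisymm ?_ fun g hg => ?_
  · rintro _ ⟨u, rfl⟩
    have m : JD K u ∈ 𝒰 := evW_mem rfl
    refine ⟨h.fixU m ((xt_eq _ (XS_top _ m)).trans ((sg3_w _).trans (congrArg _ ?_))), m⟩
    simp [wd_eq, crd, φφφ, u.hb, u.he, u.hf]
  · obtain ⟨t, rfl⟩ := nf hg.2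
    have e := uq (w' := ord.map fun r => (r, t r)) rfl rfl
      ((sg3_w t).symm.trans ((xt_eq _ (XS_top _ hg.2)).symm.trans (h.fix hg.1)))
    simp only [ord, List.map, List.cons.injEq, Prod.mk.injEq, true_and, and_true] at e
    obtain ⟨-, h1, h2, h3, -, h5, h6, -, h8, h9, h10, h11⟩ := e
    refine ⟨⟨t 18, t 14, t 19, t 17, t 22, t 23, h3, h10, h11⟩, congrArg (evW (xd K)) ?_⟩
    simp only [wd_eq, ord, List.map, ← h1, ← h2, ← h5, ← h6, ← h8, ← h9, map_neg]

end Cfsg.Agent.D3.LL
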