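import Cfsg.Agent.D3.G2
import Cfsg.Agent.Lt.Sig1

/-! Weyl, diagonal and field automorphisms of `³D₄`; the normaliser of the Sylow subgroup. -/

set_option autoImplicit false
set_option maxRecDepth 100000
set_option linter.unusedSectionVars false

namespace Cfsg.Agent.D3.LL

open Subgroup Cfsg.Lie Cfsg.Agent.Lt Cfsg.Agent.Lt.Tw Cfsg.Agent.Lt.Gra Cfsg.Agent.Lt.H2 U

variable {K : Type} [Field K] [Finite K]

local notation "GF" => GL chevD4.Idx K
local notation "Rt" => Fin chevD4.nroots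
local notation "𝓋" => tabD4.v

/-- the Weyl elements -/
noncomputable def nK (K : Type) [Field K] (i : Fin chevD4.rank) : GL chevD4.Idx K :=
  nn (xu chevD4 K) (tabD4.s i) (ng chevD4 (tabD4.s i)) 1

noncomputable def PP (i r : ℕ) : ℕ := fastD4.sg i (r % 24)

noncomputable def EE (i r : ℕ) : ℤ := fastD4.ep i (r % 24)

open Ck Ck.Fast in
theorem n_xd (i : Fin chevD4.rank) (r : ℕ) (t : K) : nK K i * xd K r t * (nK K i)⁻¹ = xd K (PP i r) (EE i r * t) := by
  have rn : Rep (nI chevD4 (tabD4.s i)) (fastD4.ncol i) := by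
    have hr := rsD4
    simp only [rs, Bool.and_eq_true, all_iff (n := chevD4.rank)] at hr
    rw [nI, (by decide +kernel : ∀ i, ng chevD4 (tabD4.s i) = rt (ngF chevD4 (tabD4.s i)))]
    have := ((rep_x brD4 (tabD4.s i) 1).mul (rep_x brD4 (rt (ngF chevD4 (tabD4.s i))) (-1))).mul (rep_x brD4 (tabD4.s i) 1)
    rw [(by decide +kernel : ∀ i, (rt (ngF chevD4 (tabD4.s i))).val = ngF chevD4 (tabD4.s i))] at this
    refine this.of_eqv ?_ (hr.2 i i.2).2
    rintro (j | r)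
    · simp [ncol, cond_ble, Ck.enc, j.2.not_ge]; omega
    · simp [ncol, cond_ble, Ck.enc]; exact Nat.mod_lt _ r.pos
  have h2 := (rn.mul (rep_cf brD4 (rt r) 0)).eq (((rep_cf brD4 ⟨PP i r, Nat.mod_lt _ (by decide)⟩ 0).mul rn).smul _)
    (all_iff.1 (all_iff.1 cjD4 i i.2) (rt r) (rt r).2)
  refine mul_inv_eq_of_eq_mul (Units.ext ?_)
  rw [Units.val_mul, Units.val_mul, nK, ifD4.coe_nn, xd, xd, ifD4.coe_xu, ifD4.coe_xu, ifD4.transport K h2,
    show rt (PP i r) = ⟨PP i r, Nat.mod_lt _ (by decide)⟩ from rt_val ⟨PP i r, Nat.mod_lt _ (by decide)⟩]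
  rfl

open Ck Ck.Fast in
theorem chkK {l l' : List (ℕ × ℤ × ℕ × ℕ)}
    (h : all 28 (fun j => Ck.eqv (fastD4.wcol l [(j, 1)]) (fastD4.wcol l' [(j, 1)])) = true) :
    (l.map fun a => xd K a.1 (a.2.1 : K)).prod = (l'.map fun a => xd K a.1 (a.2.1 : K)).prod := by
  have e := (rep_w brD4 rep_zero.cons l (by decide)).eq (rep_w brD4 rep_zero.cons l' (by decide)) h
  have k := fun l : List (ℕ × ℤ × ℕ × ℕ) => ifD4.coe_prod K (l.map fun a => (rt a.1, a.2.1))
  simp only [List.map_map, add_zero, mul_one] at e k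
  exact Units.ext ((k l).trans ((congrArg _ e).trans (k l').symm))

theorem cj_evW {n : GF} {π : ℕ → ℕ} {ε : ℕ → K} {l : List ℕ} (h : ∀ r ∈ l, ∀ t, n * xd K r t * n⁻¹ = xd K (π r) (ε r * t))
    (t : ℕ → K) : n * evW (xd K) (l.map fun r => (r, t r)) * n⁻¹ = evW (xd K) (l.map fun r => (π r, ε r * t r)) := by
  induction l with
  | nil => simp [evW]
  | cons e w ih =>
    rw [List.map_cons, List.map_cons, evW_cons, evW_cons, ← ih fun r hr => h r (List.mem_cons_of_mem _ hr),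
      ← h _ List.mem_cons_self, conj_mul]

def i0 : Fin chevD4.rank := ⟨0, by decide⟩
def i1 : Fin chevD4.rank := ⟨1, by decide⟩
def i2 : Fin chevD4.rank := ⟨2, by decide⟩
def i3 : Fin chevD4.rank := ⟨3, by decide⟩

noncomputable def n1 (K : Type) [Field K] : GL chevD4.Idx K := nK K i0 * (nK K i2 * nK K i3)

theorem n1_xd (r : ℕ) (t : K) : n1 K * xd K r t * (n1 K)⁻¹ = xd K (PP 0 (PP 2 (PP 3 r)))
    ((EE 0 (PP 2 (PP 3 r)) * (EE 2 (PP 3 r) * EE 3 r) : ℤ) * t) := by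
  have := n_xd i0 (PP 2 (PP 3 r)) (EE 2 (PP 3 r) * (EE 3 r * t))
  rw [← show _ = xd K (PP 2 (PP 3 r)) (EE 2 (PP 3 r) * _) from n_xd i2 _ _,
    ← show _ = xd K (PP 3 r) (EE 3 r * t) from n_xd i3 _ _] at this
  rw [n1, Int.cast_mul, Int.cast_mul, mul_assoc _ _ t, mul_assoc _ _ t]
  refine Eq.trans ?_ this
  group

theorem evW_zero : evW (xd K) (evL (fun _ => (0 : K)) (ord.map (·, []))) = 1 := by
  simp [evW, evL, evP, ord, frD.zero]

variable [TF K]

theorem W1 {x : U K} (hx : x ∈ Q1) : n1 K * JD K x * (n1 K)⁻¹ = JD K (U.w1 x) := by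
  have hx : x.a = 0 := hx
  have k := frD.colP (crd x) (w := (ord.drop 3).map fun r => (PP 0 (PP 2 (PP 3 r)),
      [(EE 0 (PP 2 (PP 3 r)) * (EE 2 (PP 3 r) * EE 3 r), [r])])) (w' := ord.map (·, []))
    (l := [(18, []), (13, []), (12, []), (14, [(1, [22])]), (19, [(-1, [17])]), (16, [(-1, [20])]), (15, [(-1, [21])]),
      (17, [(1, [19])]), (20, [(1, [16])]), (21, [(1, [15])]), (22, [(-1, [14])]), (23, [(1, [14, 22]), (-1, [15,
      21]), (-1, [16, 20]), (-1, [17, 19]), (1, [23])])]) (by decide +kernel)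
  rw [evL_var _ _ _ (fun r => r), ← cj_evW fun r _ => n1_xd r,
    show evW (xd K) (evL (crd x) (ord.map (·, []))) = 1 from evW_zero, mul_one] at k
  refine Eq.trans (by simp [JD_eq, wd_eq, evW, ord, crd, hx, frD.zero]) (k.trans (congrArg _ ?_))
  simp [wd_eq, evL, evP, crd, U.w1]
  ring

theorem W2 {x : U K} (hx : x ∈ Q2) : nK K i1 * JD K x * (nK K i1)⁻¹ = JD K (U.w2 x) := by
  have hx : x.b = 0 := hx
  have k := frD.colP (crd x) (w := (ord.erase 14).map fun r => (PP 1 r, [(EE 1 r, [r])])) (w' := ord.map (·, []))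
    (l := [(18, [(-1, [19])]), (13, [(1, [16])]), (12, [(1, [15])]), (14, []), (19, [(1, [18])]), (16, [(-1, [13])]),
      (15, [(-1, [12])]), (17, [(1, [12, 16]), (1, [13, 15]), (1, [17])]), (20, [(1, [12, 19]), (-1, [15, 18]), (1,
      [20])]), (21, [(1, [13, 19]), (-1, [16, 18]), (1, [21])]), (22, [(-1, [12, 16, 19]), (-1, [13, 15, 19]), (1,
      [15, 16, 18]), (-1, [23])]), (23, [(-1, [12, 13, 19]), (1, [12, 16, 18]), (1, [13, 15, 18]), (1, [22])])])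
    (by decide +kernel)
  rw [evL_var _ _ _ (fun r => r), ← cj_evW (π := PP 1) (ε := fun r => (EE 1 r : K)) fun r _ => n_xd i1 r,
    show evW (xd K) (evL (crd x) (ord.map (·, []))) = 1 from evW_zero, mul_one] at k
  refine Eq.trans (by simp [JD_eq, wd_eq, evW, ord, crd, hx, frD.zero]) (k.trans (congrArg _ ?_))
  simp [wd_eq, evL, evP, crd, U.w2, φφφ]
  refine ⟨?_, ?_, ?_, ?_, ?_⟩ <;> ring

theorem n1_mem : n1 K ∈ closure (SS K) := by
  have a : xd K 18 1 * xd K 13 (φ 1) * xd K 12 (φ (φ 1)) ∈ closure (SS K) := subset_closure ⟨1, .inl rfl⟩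
  have b : xd K 5 (-1) * xd K 10 (φ (-1)) * xd K 11 (φ (φ (-1))) ∈ closure (SS K) :=
    subset_closure ⟨-1, .inr (.inl rfl)⟩
  refine (show n1 K = _ from ?_) ▸ mul_mem (mul_mem a b) a
  have := chkK (K := K) (l := [(18, 1, 0, 0), (5, -1, 0, 0), (18, 1, 0, 0), (13, 1, 0, 0), (10, -1, 0, 0), (13, 1, 0, 0),
    (12, 1, 0, 0), (11, -1, 0, 0), (12, 1, 0, 0)]) (l' := [(18, 1, 0, 0), (13, 1, 0, 0), (12, 1, 0, 0), (5, -1, 0, 0),
    (10, -1, 0, 0), (11, -1, 0, 0), (18, 1, 0, 0), (13, 1, 0, 0), (12, 1, 0, 0)]) (by decide +kernel)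
  simp only [List.map, List.prod_cons, List.prod_nil, Int.cast_one, Int.cast_neg, mul_one, map_one, map_neg,
    mul_assoc] at this ⊢
  rw [← this, n1, nK, nK, nK, nn, nn, nn, inv_one]
  simp only [mul_assoc]
  rfl

theorem n2_mem : nK K i1 ∈ closure (SS K) := by
  have a : xd K 14 1 ∈ closure (SS K) := subset_closure ⟨1, .inr (.inr ⟨map_one _, .inl rfl⟩)⟩
  have b : xd K 9 (-1⁻¹) ∈ closure (SS K) := subset_closure ⟨-1⁻¹, .inr (.inr ⟨by simp, .inr rfl⟩)⟩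
  exact mul_mem (mul_mem a b) a

theorem v_add {r s u : Rt} : 𝓋 u = 𝓋 r + 𝓋 s ↔ ∀ i : Fin chevD4.rank, tabD4.co u i = tabD4.co r i + tabD4.co s i :=
  ⟨fun e i => by simpa only [Tab.add_apply, Tab.v_apply, ← Int.cast_add, Int.cast_inj] using congrFun e i,
    fun e => Tab.sp_ext fun i => by simp only [Tab.add_apply, Tab.v_apply, e, Int.cast_add]⟩

/-- `F` is diagonal times field -/
structure Dg (F : GF →* GF) (c : Rt → Kˣ) (γ : K ≃+* K) : Prop where
  x : ∀ r t, F (xu chevD4 K r t) = xu chevD4 K r (c r * γ t)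
  ad : ∀ r s u, 𝓋 u = 𝓋 r + 𝓋 s → c u = c r * c s
  br : ∀ r, (c (barD r) : K) = φ (c r : K)

variable {F F' : GL chevD4.Idx K →* GL chevD4.Idx K} {c c' : Fin chevD4.nroots → Kˣ} {γ γ' : K ≃+* K}

theorem Dg.one : Dg (MonoidHom.id GF) 1 1 where
  x r t := by simp
  ad _ _ _ _ := (mul_one _).symm
  br r := by simp

theorem Dg.mul (h : Dg F c γ) (h' : Dg F' c' γ') :
    Dg (F.comp F') (fun r => c r * Units.map (γ : K →* K) (c' r)) (γ * γ') where
  x r t := by simp [h.x, h'.x, mul_assoc]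
  ad r s u e := by rw [h.ad r s u e, h'.ad r s u e, map_mul, mul_mul_mul_comm]
  br r := by simp [h.br, h'.br, TF.comm γ]

theorem Dg.mem (h : Dg F c γ) {g : GF} (hg : g ∈ closure (SS K)) : F g ∈ closure (SS K) := by
  refine ((closure_le _).2 ?_ : closure (SS K) ≤ (closure (SS K)).comap F) hg
  have k1 : (c (rt 13) : K) = φ (c (rt 18) : K) := h.br (rt 18)
  have k2 : (c (rt 12) : K) = φ (c (rt 13) : K) := h.br (rt 13)
  have k3 : (c (rt 10) : K) = φ (c (rt 5) : K) := h.br (rt 5)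
  have k4 : (c (rt 11) : K) = φ (c (rt 10) : K) := h.br (rt 10)
  have k5 : (c (rt 14) : K) = φ (c (rt 14) : K) := h.br (rt 14)
  have k6 : (c (rt 9) : K) = φ (c (rt 9) : K) := h.br (rt 9)
  rintro g ⟨t, rfl | rfl | ⟨ht, rfl | rfl⟩⟩ <;> refine subset_closure ?_
  · exact ⟨c (rt 18) * γ t, .inl (by simp only [xd, map_mul, h.x, k2, k1, TF.comm γ])⟩
  · exact ⟨c (rt 5) * γ t, .inr (.inl (by simp only [xd, map_mul, h.x, k4, k3, TF.comm γ]))⟩
  · exact ⟨c (rt 14) * γ t, .inr (.inr ⟨by rw [map_mul, ← k5, ← TF.comm γ, ht], .inl (h.x _ _)⟩)⟩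
  · exact ⟨c (rt 9) * γ t, .inr (.inr ⟨by rw [map_mul, ← k6, ← TF.comm γ, ht], .inr (h.x _ _)⟩)⟩

theorem Dg.eq (h : Dg F 1 1) {g : GF} (hg : g ∈ closure (SS K)) : F g = g :=
  MonoidHom.eqOn_closure (g := MonoidHom.id _) (by
    rintro g ⟨t, rfl | rfl | ⟨ht, rfl | rfl⟩⟩ <;> simp [xd, h.x]) hg

theorem Dg.fx (h : Dg F c γ) : φ (c (rt 14) : K) = c (rt 14) := (h.br (rt 14)).symm

theorem Dg.J (h : Dg F c γ) (u : U K) : F (JD K u) = JD K (au (c (rt 18)) (c (rt 14)) h.fx γ u) := by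
  have e : ∀ w : List (ℕ × K), F (evW (xd K) w) = evW (xd K) (w.map fun e => (e.1, c (rt e.1) * γ e.2)) := fun w => by
    simp only [evW, map_list_prod, List.map_map, Function.comp_def, xd, h.x]
  have k : ∀ r s u : ℕ, (∀ i : Fin chevD4.rank, tabD4.co (rt u) i = tabD4.co (rt r) i + tabD4.co (rt s) i) →
      (c (rt u) : K) = c (rt r) * c (rt s) := fun r s u e => by rw [h.ad _ _ _ (v_add.2 e), Units.val_mul]
  have k1 : (c (rt 13) : K) = φ (c (rt 18) : K) := h.br (rt 18)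
  have k2 : (c (rt 12) : K) = φ (c (rt 13) : K) := h.br (rt 13)
  refine (e _).trans (congrArg _ ?_)
  simp only [wd_eq, au, List.map, List.cons.injEq, Prod.mk.injEq, true_and, and_true, k1, k2, map_mul, map_neg, φφφ,
    TF.comm γ, h.fx, k 18 14 19 (by decide +kernel), k 13 14 16 (by decide +kernel), k 12 14 15 (by decide +kernel),
    k 16 12 17 (by decide +kernel), k 19 12 20 (by decide +kernel), k 19 13 21 (by decide +kernel),
    k 17 18 22 (by decide +kernel), k 22 14 23 (by decide +kernel)]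
  repeat' apply And.intro
  all_goals ring

theorem map_inj {K K' I : Type*} [Field K] [Field K'] [Fintype I] [DecidableEq I] (f : K →+* K') :
    Function.Injective (Matrix.GeneralLinearGroup.map (n := I) f) := fun _ _ e =>
  Units.ext (Matrix.map_injective f.injective (congrArg Units.val e))

theorem exists_Dg (a b : Kˣ) (hb : φ (b : K) = b) (γ : K ≃+* K) : ∃ (F : GF →* GF) (c : Rt → Kˣ),
    Function.Injective F ∧ Dg F c γ ∧ c (rt 18) = a ∧ c (rt 14) = b := by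
  let p : Kˣ →* Kˣ := Units.map (φ (K := K) : K →* K)
  let c : Rt → Kˣ := fun r => a ^ tabD4.co r 0 * b ^ tabD4.co r 1 * p a ^ tabD4.co r 2 * p (p a) ^ tabD4.co r 3
  refine ⟨(MulAut.conj (dgm tabD4.deg fun μ => chi tabD4 i0 a μ * chi tabD4 i1 b μ * chi tabD4 i2 (p a) μ *
    chi tabD4 i3 (p (p a)) μ)).toMonoidHom.comp (Matrix.GeneralLinearGroup.map (γ : K →+* K)), c,
    fun x y e => map_inj (γ : K →+* K) ((MulAut.conj _).injective e), ⟨fun r t => ?_,
    fun r s u e => ?_, fun r => ?_⟩, ?_, ?_⟩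
  · rw [MonoidHom.comp_apply, ifD4.map_xu]
    exact ifD4.torus (l := c r) (fun μ => by simp only [chi_add, c]; ac_rfl) _
  · have := v_add.1 e
    simp only [c, show tabD4.co u 0 = _ from this i0, show tabD4.co u 1 = _ from this i1,
      show tabD4.co u 2 = _ from this i2, show tabD4.co u 3 = _ from this i3, zpow_add]
    ac_rfl
  · have e := (by decide +kernel : ∀ r : Rt, tabD4.co (barD r) 0 = tabD4.co r 3 ∧
      tabD4.co (barD r) 1 = tabD4.co r 1 ∧ tabD4.co (barD r) 2 = tabD4.co r 0 ∧ tabD4.co (barD r) 3 = tabD4.co r 2) r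
    simp only [c, p, e, Units.val_mul, Units.val_zpow_eq_zpow_val, map_mul, map_zpow₀, Units.coe_map,
      MonoidHom.coe_coe, φφφ, hb]
    ring
  all_goals
    have : tabD4.co (rt 18) 0 = 1 ∧ tabD4.co (rt 18) 1 = 0 ∧ tabD4.co (rt 18) 2 = 0 ∧ tabD4.co (rt 18) 3 = 0 ∧
      tabD4.co (rt 14) 0 = 0 ∧ tabD4.co (rt 14) 1 = 1 ∧ tabD4.co (rt 14) 2 = 0 ∧ tabD4.co (rt 14) 3 = 0 := by
        decide +kernel
    simp only [c, this, zpow_zero, zpow_one, mul_one, one_mul]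

omit [TF K] in
theorem lin {n : GF} (h : Rz tabD4.deg 𝓋 (xu chevD4 K) n 1) (r : ℕ) (hr : r ∈ ord) :
    ∃ c, ∀ t, n * xd K r t * n⁻¹ = xd K r (c * t) := by
  obtain ⟨r', e, k⟩ := h.cj (rt r)
  obtain rfl := ifD4.v_inj e
  obtain ⟨c, k⟩ := k 1
  refine ⟨c, fun t => ?_⟩
  rcases eq_or_ne t 0 with rfl | ht
  · simp [frD.zero]
  obtain ⟨i, hi⟩ := (by decide +kernel : ∀ r ∈ ord, ∃ i : Fin chevD4.rank, tabD4.co (rt r) i = 1) r hr
  have h1 := fun u => ifD4.torus (K := K) (chi_add i (Units.mk0 t ht) (rt r)) u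
  have h2 : dgm tabD4.deg (chi tabD4 i (Units.mk0 t ht)) * n * (dgm tabD4.deg (chi tabD4 i (Units.mk0 t ht)))⁻¹ = n := by
    ext a b
    rw [dgm_conj]
    by_cases e : (n : Matrix chevD4.Idx chevD4.Idx K) a b = 0
    · rw [e, mul_zero, zero_mul]
    · rw [show tabD4.deg a = tabD4.deg b from h.act a b e, mul_right_comm, Units.mul_inv, one_mul]
  simp only [hi, zpow_one, Units.val_mk0] at h1
  rw [xd, xd, mul_comm c, ← h1 c, ← k, ← conj_mul, ← conj_mul, h1, ← conj_inv, h2, mul_one]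

theorem nrmH {g : GF} (hg : g ∈ closure (SS K)) (hn : ∀ u, g * JD K u * g⁻¹ ∈ (JD K).range) :
    ∃ (y : U K) (a b : K) (hb : φ b = b), a ≠ 0 ∧ b ≠ 0 ∧
      ∀ u, g * JD K u * g⁻¹ = JD K (y * au a b hb 1 u * y⁻¹) := by
  have R := range_J (K := K)
  obtain ⟨p, _⟩ := CharP.exists K
  haveI : Fact p.Prime := ⟨CharP.char_is_prime K p⟩
  obtain ⟨ρ, τ, k, h⟩ := al (K := K) p
  obtain ⟨u, hu, n, hn', u', hu', rfl⟩ := h.bru hg
  rw [← R] at hu hu'
  obtain ⟨s, rfl⟩ := hu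
  obtain ⟨s', rfl⟩ := hu'
  have nP : ∀ y ∈ (JD K).range, n * y * n⁻¹ ∈ (JD K).range := by
    rintro _ ⟨y, rfl⟩
    obtain ⟨z, hz⟩ := hn (s'⁻¹ * y * s')
    exact ⟨s⁻¹ * z * s, by simp only [map_mul, map_inv, hz]; group⟩
  obtain ⟨w, hw, h3⟩ := h.rx.rz _ _ hn'.2
  obtain rfl := h.rx.exch w hw fun i => by
    refine (h.dich hn'.2 (h.fix hn'.1) h3 i).resolve_right (fun d => ?_) _ (c_self (self_orb i))
    obtain ⟨-, -, -, y, hy, y1⟩ := h.exists_m i
    exact y1 (conj_eq_one_iff.1 (h.eq_one (R ▸ nP y (R ▸ ⟨hy.1, XS_mono (fun _ => c_univ) hy.2⟩)).2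
      (h3.conj (fun r e => d _ e) hy.2)))
  choose! c hc using lin h3
  have key : ∀ x x' : U K, JD K x' = n * JD K x * n⁻¹ → x'.a = c 18 * x.a ∧ x'.b = c 14 * x.b ∧ x'.c = c 19 * x.c ∧
      x'.d = c 17 * x.d ∧ x'.e = c 22 * x.e ∧ x'.f = c 23 * x.f := fun x x' e => by
    have := uq (w := wd x') (w' := ord.map fun r => (r, c r * crd x r)) rfl rfl (e.trans (cj_evW hc _))
    simp only [wd_eq, ord, List.map, List.cons.injEq, Prod.mk.injEq, true_and, and_true] at this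
    obtain ⟨h0, -, -, h3, h4, -, -, h7, -, -, h10, h11⟩ := this
    exact ⟨h0, h3, h4, h7, h10, h11⟩
  obtain ⟨A, hA⟩ := nP _ ⟨XA 1, rfl⟩
  obtain ⟨B, hB⟩ := nP _ ⟨XB 1 (map_one _), rfl⟩
  have h4 := key (XB 1 (map_one _) * XA 1) (B * A) (by rw [map_mul, map_mul, hA, hB, conj_mul])
  have h5 := key _ _ hA
  have h6 := key _ _ hB
  have hb : φ (c 14) = c 14 := by simpa [h6.2.1, XB] using B.hb
  have ne : ∀ x x' : U K, JD K x' = n * JD K x * n⁻¹ → x' = 1 → x = 1 := fun x x' e e' =>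
    JD_inj (by rw [e', map_one, eq_comm, conj_eq_one_iff] at e; rw [e, map_one])
  have D : ∀ x, n * JD K x * n⁻¹ = JD K (au (c 18) (c 14) hb 1 x) := fun x => by
    obtain ⟨x', e⟩ := nP _ ⟨x, rfl⟩
    obtain ⟨a1, a2, a3, a4, a5, a6⟩ := key _ _ e
    revert h4
    usimp3
    simp only [h5, h6, hb]
    usimp3
    rintro ⟨-, -, b3, b4, b5, b6⟩
    rw [← e]
    congr 1
    ext <;> simp only [au, RingAut.one_apply, a1, a2, a3, a4, a5, a6, ← b3, ← b4, ← b5, ← b6] <;> ring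
  obtain ⟨z, hz⟩ := nP _ ⟨s', rfl⟩
  refine ⟨s * z, c 18, c 14, hb, fun e => ?_, fun e => ?_, fun y => ?_⟩
  · exact one_ne_zero (congrArg U.a (ne _ _ hA (by ext <;> simp [h5, e, XA, one_a, one_b, one_c, one_d, one_e, one_f])))
  · exact one_ne_zero (congrArg U.b (ne _ _ hB (by ext <;> simp [h6, e, XB, one_a, one_b, one_c, one_d, one_e, one_f])))
  · simp only [map_mul, map_inv, ← D, hz]
    group

end Cfsg.Agent.D3.LL
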