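import Cfsg.Agent.D3.G3

/-! The extension of `³D₄(q)` by diagonal and field automorphisms; `instance : LieS`. -/

set_option autoImplicit false
set_option maxRecDepth 100000
set_option linter.unusedSectionVars false
set_option linter.style.haveILetI false

namespace Cfsg.Agent.D3.LL

open Subgroup Cfsg.Lie Cfsg.Agent.Lt Cfsg.Agent.Lt.Tw Cfsg.Agent.Lt.Gra Cfsg.Agent.Lt.H2 U SemidirectProduct

section
variable {K : Type} [Field K] [Finite K] [TF K]

local notation "HH" => closure (SS K)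

theorem au_au (a b c d : K) (hb : φ b = b) (hd : φ d = d) (γ δ : K ≃+* K) (u : U K) :
    au a b hb γ (au c d hd δ u) =
      au (a * γ c) (b * γ d) (by rw [map_mul, hb, ← TF.comm, hd]) (γ * δ) u := by
  ext <;> simp only [au, map_mul, map_pow, RingAut.mul_apply, TF.comm γ] <;> ring

theorem au_surj {a b : K} (ha : a ≠ 0) (hb : b ≠ 0) (h : φ b = b) (γ : K ≃+* K) : Function.Surjective (au a b h γ) :=
  Finite.injective_iff_surjective.1 fun x y e => by
    have := U.ext_iff.1 e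
    simpa [au, ha, hb, ← U.ext_iff] using this

/-- `f` is induced by a diagonal times field automorphism -/
def Ind (f : MulAut HH) (c : Fin chevD4.nroots → Kˣ) (γ : K ≃+* K) : Prop :=
  ∃ F, Dg F c γ ∧ ∀ h : HH, (f h : GL chevD4.Idx K) = F h

variable {f f' : MulAut (closure (SS K))} {c c' : Fin chevD4.nroots → Kˣ} {γ γ' : K ≃+* K}

theorem Ind.one : Ind (1 : MulAut HH) 1 1 := ⟨_, Dg.one, fun _ => rfl⟩

theorem Ind.mul (h : Ind f c γ) (h' : Ind f' c' γ') :
    Ind (f * f') (fun r => c r * Units.map (γ : K →* K) (c' r)) (γ * γ') := by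
  obtain ⟨F, h1, h2⟩ := h
  obtain ⟨F', h1', h2'⟩ := h'
  exact ⟨_, h1.mul h1', fun x => (h2 _).trans (congrArg F (h2' x))⟩

theorem Ind.pow (h : Ind f c γ) (n : ℕ) : ∃ c', Ind (f ^ n) c' (γ ^ n) ∧ (γ = 1 → c' = c ^ n) := by
  induction n with
  | zero => exact ⟨1, by simpa using Ind.one, fun _ => (pow_zero c).symm⟩
  | succ n ih =>
    obtain ⟨c', h1, h2⟩ := ih
    refine ⟨_, by rw [pow_succ', pow_succ']; exact h.mul h1, ?_⟩
    rintro rfl
    rw [h2 rfl, pow_succ']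
    rfl

theorem cop_of {G : Type*} [Group G] [Finite G] {p : ℕ} [hp : Fact p.Prime] (h : ∀ x : G, x ^ p = 1 → x = 1) :
    p.Coprime (Nat.card G) := hp.out.coprime_iff_not_dvd.2 fun e => by
  obtain ⟨x, hx⟩ := exists_prime_orderOf_dvd_card' (G := G) p e
  rw [h x (hx ▸ pow_orderOf_eq_one x), orderOf_one] at hx
  exact hp.out.one_lt.ne hx

theorem Ind.cop {p : ℕ} [Fact p.Prime] [CharP K p] {Γ : Subgroup (K ≃+* K)} (hΓ : ∀ γ ∈ Γ, γ ^ p = 1 → γ = 1)
    (hγ : γ ∈ Γ) (h : Ind f c γ) : ∃ n, p.Coprime n ∧ f ^ n = 1 := by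
  haveI : Finite (K ≃+* K) := Finite.of_injective _ DFunLike.coe_injective
  have e : γ ^ Nat.card Γ = 1 := congrArg Subtype.val (pow_card_eq_one' (x := (⟨γ, hγ⟩ : Γ)))
  obtain ⟨c', h1, -⟩ := h.pow (Nat.card Γ)
  rw [e] at h1
  obtain ⟨c'', ⟨F, h2, h3⟩, h4⟩ := h1.pow (Nat.card Kˣ)
  rw [h4 rfl, one_pow, show c' ^ Nat.card Kˣ = 1 from funext fun _ => pow_card_eq_one'] at h2
  refine ⟨Nat.card Γ * Nat.card Kˣ, (cop_of fun x hx => Subtype.ext (hΓ _ x.2 (congrArg Subtype.val hx))).mul_right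
    (cop_of fun x hx => Units.ext (frobenius_inj K p ?_)), by
      rw [pow_mul]; exact MulEquiv.ext fun x => Subtype.ext ((h3 x).trans (h2.eq x.2))⟩
  rw [frobenius_def, ← Units.val_pow_eq_pow_val, hx, Units.val_one, map_one]

/-- the group of diagonal times field automorphisms -/
def AA (Γ : Subgroup (K ≃+* K)) : Subgroup (MulAut HH) := finSub
  { carrier := {f | ∃ c, ∃ γ ∈ Γ, Ind f c γ}
    one_mem' := ⟨1, 1, one_mem _, Ind.one⟩
    mul_mem' := fun ⟨_, _, h1, h2⟩ ⟨_, _, h3, h4⟩ => ⟨_, _, mul_mem h1 h3, h2.mul h4⟩ }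

theorem cj_inl {N A : Type*} [Group N] [Group A] {θ : A →* MulAut N} (g : N ⋊[θ] A) (n : N) :
    g * inl n * g⁻¹ = inl (g.left * θ g.right n * g.left⁻¹) := by
  ext <;> simp

theorem sylD (p : ℕ) [Fact p.Prime] [CharP K p] : L.IsSylowIn p (JD K).range HH := by
  obtain ⟨ρ, τ, k, h⟩ := al (K := K) p
  exact range_J (K := K) ▸ h.syl

theorem gd_of (p : ℕ) [Fact p.Prime] [CharP K p] (Γ : Subgroup (K ≃+* K)) (hΓ : ∀ γ ∈ Γ, γ ^ p = 1 → γ = 1) :
    ∃ (G : Type) (_ : Group G) (_ : Finite G) (J : U K →* G) (n1 n2 : G), U.GD p Γ J n1 n2 := by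
  have h := sylD (K := K) p
  have hJ : ∀ u, JD K u ∈ HH := fun u => h.le ⟨u, rfl⟩
  let J0 : U K →* HH := (JD K).codRestrict _ hJ
  have e0 : (h.toSylow : Subgroup HH) = J0.range := by
    rw [L.IsSylowIn.coe_toSylow, MonoidHom.subgroupOf_range_eq_of_le _ h.le]
  have cj : ∀ {n : HH} {u w : U K}, n.1 * JD K u * n.1⁻¹ = JD K w →
      (inl n * inl (J0 u) * (inl n)⁻¹ : HH ⋊[(AA Γ).subtype] AA Γ) = inl (J0 w) := fun e => by
    rw [← map_inv, ← map_mul, ← map_mul]; exact congrArg _ (Subtype.ext e)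
  refine ⟨HH ⋊[(AA Γ).subtype] AA Γ, inferInstance, Finite.of_equiv _ equivProd.symm, inl.comp J0,
    inl ⟨_, n1_mem⟩, inl ⟨_, n2_mem⟩, inl_injective.comp fun x y e => JD_inj (congrArg Subtype.val e),
    ⟨⟨_, h.toSylow.2.map inl, fun {Q} hQ hP => ?_⟩, by rw [MonoidHom.range_comp, ← e0]⟩, fun x hx => cj (W1 hx),
    fun x hx => cj (W2 hx), fun a b hu ha hb γ hγ => ?_, fun g hg => ?_⟩
  · rw [← h.toSylow.3 (hQ.comap_of_injective inl inl_injective) (map_le_iff_le_comap.1 hP), map_comap_eq_self]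
    rw [range_inl_eq_ker_rightHom]
    intro q hq
    obtain ⟨l, hl⟩ := hQ ⟨q, hq⟩
    obtain ⟨c, γ, hγ, i⟩ := q.right.2
    obtain ⟨n, hn, e⟩ := i.cop hΓ hγ
    have e1 : rightHom q ^ p ^ l = 1 := by rw [← map_pow, show q ^ p ^ l = 1 from congrArg Subtype.val hl, map_one]
    have e2 : rightHom q ^ n = 1 := Subtype.ext e
    have := pow_gcd_eq_one.2 ⟨e1, e2⟩
    rwa [hn.pow_left l, pow_one] at this
  · obtain ⟨F, c, i, D, e1, e2⟩ := exists_Dg (Units.mk0 a ha) (Units.mk0 b hb) hu γ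
    refine ⟨inr ⟨MulEquiv.ofBijective ((F.comp (Subgroup.subtype HH)).codRestrict HH fun x => D.mem x.2)
      (Finite.injective_iff_bijective.1 fun x y e => Subtype.ext (i (congrArg Subtype.val e))),
      c, γ, hγ, F, D, fun _ => rfl⟩, fun u => (cj_inl _ _).trans (congrArg inl (Subtype.ext ?_))⟩
    simpa [e1, e2, J0] using D.J u
  · obtain ⟨c, γ, hγ, F, D, e⟩ := g.right.2
    have k : ∀ u, g * inl (J0 u) * g⁻¹ = inl (g.left * J0 (au (c (rt 18)) (c (rt 14)) D.fx γ u) * g.left⁻¹) := fun u =>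
      (cj_inl _ _).trans (congrArg (fun x => inl (g.left * x * g.left⁻¹)) (Subtype.ext ((e _).trans (D.J u))))
    obtain ⟨s, a, b, hb, a0, b0, hs⟩ := nrmH g.left.2 fun u => by
      obtain ⟨u, rfl⟩ := au_surj (c (rt 18)).ne_zero (c (rt 14)).ne_zero D.fx γ u
      obtain ⟨z, hz⟩ := (mem_normalizer_iff.1 hg _).1 ⟨u, rfl⟩
      exact ⟨z, congrArg Subtype.val (inl_injective (hz.trans (k u)))⟩
    refine ⟨s, a * c (rt 18), b * c (rt 14), by rw [map_mul, hb, D.fx], γ, hγ, by simp [a0], by simp [b0], fun u =>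
      (k u).trans (congrArg inl (Subtype.ext ((hs _).trans ?_)))⟩
    rw [au_au]
    rfl

theorem tw_eq {q : ℕ} (h : ∀ t : K, φ t = t ^ q) : twistedD4 K q = HH := by
  have h2 : ∀ t : K, φ (φ t) = t ^ q ^ 2 := fun t => by rw [h, h, ← pow_mul, pow_two]
  refine congrArg Subgroup.closure (Set.ext fun g => ⟨?_, ?_⟩)
  · rintro ⟨w, ⟨t, ht, r, hr, rfl⟩ | ⟨t, r, hr, rfl⟩, hg⟩
    · rw [← h] at ht
      simp only [List.mem_cons, List.not_mem_nil, or_false] at hr
      rcases hr with rfl | rfl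
      · exact ⟨t, .inr (.inr ⟨ht, .inl ((Gra.w1 ifD4 (rt 14) _).1 hg)⟩)⟩
      · exact ⟨t, .inr (.inr ⟨ht, .inr ((Gra.w1 ifD4 (rt 9) _).1 hg)⟩)⟩
    · rw [← h, ← h2] at hg
      simp only [List.mem_cons, List.not_mem_nil, or_false] at hr
      rcases hr with rfl | rfl
      · exact ⟨t, .inl ((w3 ifD4 (rt 18) (rt 13) (rt 12) _ _ _).1 hg)⟩
      · exact ⟨t, .inr (.inl ((w3 ifD4 (rt 5) (rt 10) (rt 11) _ _ _).1 hg))⟩
  · rintro ⟨t, c | c | ⟨b, c | c⟩⟩
    · exact ⟨_, .inr ⟨t, _, .head _, rfl⟩, (w3 ifD4 (rt 18) (rt 13) (rt 12) _ _ _).2 (h t ▸ h2 t ▸ c)⟩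
    · exact ⟨_, .inr ⟨t, _, .tail _ (.head _), rfl⟩, (w3 ifD4 (rt 5) (rt 10) (rt 11) _ _ _).2 (h t ▸ h2 t ▸ c)⟩
    · exact ⟨_, .inl ⟨t, h t ▸ b, _, .head _, rfl⟩, (Gra.w1 ifD4 (rt 14) _).2 c⟩
    · exact ⟨_, .inl ⟨t, h t ▸ b, _, .tail _ (.head _), rfl⟩, (Gra.w1 ifD4 (rt 9) _).2 c⟩

end

theorem map_le {K K' : Type*} [Field K] [Field K'] (f : K →+* K') (q : ℕ) :
    (twistedD4 K q).map (Matrix.GeneralLinearGroup.map f) ≤ twistedD4 K' q :=
  map_le_iff_le_comap.2 ((closure_le _).2 (by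
    rintro g ⟨w, hw, e⟩
    refine subset_closure ⟨w.map fun p => (p.1, f p.2), ?_, ?_⟩
    · rcases hw with ⟨t, ht, r, hr, rfl⟩ | ⟨t, r, hr, rfl⟩
      exacts [.inl ⟨f t, by rw [← map_pow, ht], r, hr, rfl⟩, .inr ⟨f t, r, hr, by simp⟩]
    · show f.mapMatrix g.val = _
      rw [e, ChevalleyDatum.wordMat, ChevalleyDatum.wordMat, map_list_prod, List.map_map, List.map_map]
      refine congrArg _ (List.map_congr_left fun p _ => ?_)
      simp only [Function.comp, ChevalleyDatum.x]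
      split_ifs
      · ext a b
        simp only [ifD4.xMat_eq, RingHom.mapMatrix_apply, Matrix.map_apply, Matrix.add_apply, Matrix.smul_apply,
          smul_eq_mul, map_add, map_mul, map_pow, Matrix.one_apply]
        split_ifs <;> simp
      · exact map_one _))

/-- the Frobenius map of order `3` -/
@[instance_reducible] noncomputable def tfOf (K : Type*) [Field K] [Fintype K] (p n : ℕ) [hp : Fact p.Prime] [CharP K p] (hn : 1 ≤ n)
    (hc : Fintype.card K = (p ^ n) ^ 3) : TF K where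
  φ := iterateFrobeniusEquiv K p n
  φφφ t := by
    simp only [iterateFrobeniusEquiv_def, ← pow_mul]
    rw [show p ^ n * p ^ n * p ^ n = (p ^ n) ^ 3 by ring, ← hc, FiniteField.pow_card]
  ne := by
    by_contra! H
    have q1 : 1 < p ^ n := Nat.one_lt_pow (by omega) hp.out.one_lt
    have := Nat.le_of_dvd (by omega) ((FiniteField.forall_pow_eq_one_iff K (p ^ n - 1)).1 fun x => by
      have : x ^ p ^ n = x := Units.ext (H (x : K))
      rw [pow_sub _ q1.le, this, pow_one, mul_inv_cancel])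
    have k := Nat.pow_lt_pow_right q1 (by decide : 1 < 3)
    rw [pow_one, ← hc] at k
    omega
  nm t ht := by
    simp only [iterateFrobeniusEquiv_def] at ht ⊢
    obtain ⟨m, hm⟩ : ∃ m, p ^ n = m + 1 := ⟨_, (Nat.succ_pred_eq_of_pos (pow_pos hp.out.pos n)).symm⟩
    have m0 : 0 < m := by have := Nat.one_lt_pow (show n ≠ 0 by omega) hp.out.one_lt; omega
    rw [hm] at ht hc ⊢
    rcases eq_or_ne t 0 with rfl | h0
    · exact ⟨0, by simp⟩
    obtain ⟨g, hg⟩ := IsCyclic.exists_monoid_generator (α := Kˣ)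
    obtain ⟨k, hk⟩ := hg (Units.mk0 t h0)
    have o : orderOf g = m * (1 + (m + 1) + (m + 1) * (m + 1)) := by
      rw [orderOf_eq_card_of_forall_mem_powers hg, Nat.card_units, Nat.card_eq_fintype_card, hc]
      exact Nat.sub_eq_of_eq_add (by ring)
    obtain ⟨j, hj⟩ : 1 + (m + 1) + (m + 1) * (m + 1) ∣ k := Nat.dvd_of_mul_dvd_mul_left m0 (by
      rw [← o, orderOf_dvd_iff_pow_eq_one, pow_mul', show g ^ k = _ from hk]
      exact Units.ext (mul_right_cancel₀ h0 (by simpa [pow_succ] using ht)))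
    refine ⟨g ^ j, Eq.trans ?_ (congrArg Units.val hk)⟩
    simp only [hj, Units.val_pow_eq_pow_val]
    ring
  comm γ t := by simp only [iterateFrobeniusEquiv_def, map_pow]

instance instLieS : LieS where
  syl {K} _ _ p n _ _ hn hc T := by
    haveI := Fintype.ofFinite (GaloisField p (n * 3))
    have hc' : Fintype.card (GaloisField p (n * 3)) = (p ^ n) ^ 3 :=
      Nat.card_eq_fintype_card.symm.trans ((GaloisField.card p _ (by omega)).trans (pow_mul ..))
    letI := tfOf _ p n hn hc'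
    let e := FiniteField.ringEquivOfCardEq (hc.trans hc'.symm)
    have h := sylD (K := GaloisField p (n * 3)) p
    let E := ((twistedD4 K (p ^ n)).equivMapOfInjective _ (map_inj e.toRingHom)).trans (MulEquiv.subgroupCongr
      ((le_antisymm (map_le _ _) fun g hg => ⟨_, map_le e.symm.toRingHom _ ⟨g, hg, rfl⟩,
        Units.ext (Matrix.ext fun _ _ => e.apply_symm_apply _)⟩).trans (tw_eq fun _ => rfl)))
    exact ⟨_, inferInstance, inferInstance, inferInstance, inferInstance, ⟨(E.subgroupMap T).trans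
      (((T.mapSurjective (f := E.toMonoidHom) E.surjective).equiv h.toSylow).trans
        ((subgroupOfEquivOfLe h.le).trans (MonoidHom.ofInjective JD_inj).symm))⟩⟩
  grp _ _ _ _ := gd_of

end Cfsg.Agent.D3.LL
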