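import Cfsg.Agent.D3.M1

/-! Cubic field extensions: trace, norm, adjoint and cross product. -/

set_option autoImplicit false
set_option linter.unusedSectionVars false

namespace Cfsg.Agent.D3

attribute [simp] φφφ

variable {K : Type*} [Field K] [TF K]

/-- trace -/
def tr (t : K) : K := t + φ t + φ (φ t)
/-- norm -/
def nm (t : K) : K := t * φ t * φ (φ t)
/-- adjoint -/
def ad (t : K) : K := φ t * φ (φ t)
/-- cross product -/
def cr (s t : K) : K := φ s * φ (φ t) + φ (φ s) * φ t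
/-- the vector orthogonal to two given ones -/
def wg (s t : K) : K := φ s * φ (φ t) - φ (φ s) * φ t

/-- Unfold everything to polynomials in `t, φ t, φ (φ t)`. -/
macro "kunf" loc:(Lean.Parser.Tactic.location)? : tactic =>
  `(tactic| simp only [tr, nm, ad, cr, wg, map_add, map_sub, map_neg, map_mul, map_pow, map_zero,
    map_one, map_ofNat, map_div₀, map_inv₀, φφφ] $[$loc]?)

theorem φ_tr (t : K) : φ (tr t) = tr t := by kunf; ring
theorem φ_nm (t : K) : φ (nm t) = nm t := by kunf; ring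
theorem tr_φ (t : K) : tr (φ t) = tr t := by kunf; ring
theorem nm_φ (t : K) : nm (φ t) = nm t := by kunf; ring
theorem tr_add (s t : K) : tr (s + t) = tr s + tr t := by kunf; ring
theorem tr_sub (s t : K) : tr (s - t) = tr s - tr t := by kunf; ring
theorem tr_neg (s : K) : tr (-s) = -tr s := by kunf; ring
@[simp] theorem tr_zero : tr (0 : K) = 0 := by kunf; ring
@[simp] theorem nm_zero : nm (0 : K) = 0 := by kunf; ring
@[simp] theorem ad_zero : ad (0 : K) = 0 := by kunf; ring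
@[simp] theorem nm_one : nm (1 : K) = 1 := by kunf; ring
@[simp] theorem ad_one : ad (1 : K) = 1 := by kunf; ring
@[simp] theorem cr_zero (s : K) : cr s 0 = 0 := by kunf; ring
@[simp] theorem zero_cr (s : K) : cr 0 s = 0 := by kunf; ring
theorem nm_mul (s t : K) : nm (s * t) = nm s * nm t := by kunf; ring
theorem ad_mul (s t : K) : ad (s * t) = ad s * ad t := by kunf; ring
theorem cr_comm (s t : K) : cr s t = cr t s := by kunf; ring
theorem cr_add (s t r : K) : cr s (t + r) = cr s t + cr s r := by kunf; ring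
theorem cr_sub (s t r : K) : cr s (t - r) = cr s t - cr s r := by kunf; ring
theorem add_cr (s t r : K) : cr (s + t) r = cr s r + cr t r := by kunf; ring
theorem cr_neg (s t : K) : cr s (-t) = -cr s t := by kunf; ring
theorem cr_self (s : K) : cr s s = 2 * ad s := by kunf; ring
theorem cr_mul (r s t : K) : cr (r * s) (r * t) = ad r * cr s t := by kunf; ring
theorem ad_add (s t : K) : ad (s + t) = ad s + ad t + cr s t := by kunf; ring
theorem mul_ad (s : K) : s * ad s = nm s := by kunf; ring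
theorem ad_ad (s : K) : ad (ad s) = nm s * s := by kunf; ring
theorem tr_cr (r s t : K) : tr (r * cr s t) = tr (s * cr r t) := by kunf; ring
theorem tr_cr_self (s t : K) : tr (s * cr s t) = 2 * tr (ad s * t) := by kunf; ring
theorem tr_smul {l : K} (h : φ l = l) (t : K) : tr (l * t) = l * tr t := by kunf; simp only [h]; ring
theorem cr_smul {l : K} (h : φ l = l) (s t : K) : cr s (l * t) = l * cr s t := by
  kunf; simp only [h]; ring
theorem smul_cr {l : K} (h : φ l = l) (s t : K) : cr (l * s) t = l * cr s t := by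
  kunf; simp only [h]; ring
theorem ad_smul {l : K} (h : φ l = l) (t : K) : ad (l * t) = l ^ 2 * ad t := by
  kunf; simp only [h]; ring
theorem nm_smul {l : K} (h : φ l = l) (t : K) : nm (l * t) = l ^ 3 * nm t := by
  kunf; simp only [h]; ring
theorem tr_fix {l : K} (h : φ l = l) : tr l = 3 * l := by kunf; simp only [h]; ring
theorem φ_ne_zero {t : K} (h : t ≠ 0) : φ t ≠ 0 := (map_ne_zero _).2 h
theorem nm_ne_zero {t : K} (h : t ≠ 0) : nm t ≠ 0 :=
  mul_ne_zero (mul_ne_zero h (φ_ne_zero h)) (φ_ne_zero (φ_ne_zero h))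
theorem ad_ne_zero {t : K} (h : t ≠ 0) : ad t ≠ 0 :=
  mul_ne_zero (φ_ne_zero h) (φ_ne_zero (φ_ne_zero h))
theorem nm_eq_zero {t : K} : nm t = 0 ↔ t = 0 :=
  ⟨fun h => by_contra fun e => nm_ne_zero e h, fun h => by rw [h, nm_zero]⟩
theorem nm_surj {t : K} (h : φ t = t) : ∃ s, nm s = t := TF.nm t h
theorem fix_of_φφ {t : K} (h : φ (φ t) = t) : φ t = t := by
  have := congrArg φ h; rw [φφφ] at this; exact this.symm
theorem fix_of_φ {t : K} (h : φ (φ t) = φ t) : φ t = t := φ.injective h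
theorem fix_div {s t : K} (hs : φ s = s) (ht : φ t = t) : φ (s / t) = s / t := by
  rw [map_div₀, hs, ht]

/-- Dedekind independence. -/
theorem ded {α β γ : K} (h : ∀ y : K, α * y + β * φ y + γ * φ (φ y) = 0) :
    α = 0 ∧ β = 0 ∧ γ = 0 := by
  obtain ⟨θ, h1⟩ := TF.ne (K := K)
  have h2 : φ (φ θ) - φ θ ≠ 0 := sub_ne_zero.2 (mt fix_of_φ h1)
  have h3 : φ (φ θ) - θ ≠ 0 := sub_ne_zero.2 (mt fix_of_φφ h1)
  have h4 := sub_ne_zero.2 h1
  have e0 := h 1
  have e1 := h θ
  have e2 := h (θ * θ)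
  kunf at e0 e2
  refine ⟨mul_left_cancel₀ (mul_ne_zero h4 h3) ?_, mul_left_cancel₀ (mul_ne_zero h4 h2) ?_,
    mul_left_cancel₀ (mul_ne_zero h3 h2) ?_⟩
  · linear_combination φ θ * φ (φ θ) * e0 - (φ θ + φ (φ θ)) * e1 + e2
  · linear_combination -θ * φ (φ θ) * e0 + (θ + φ (φ θ)) * e1 - e2
  · linear_combination θ * φ θ * e0 - (θ + φ θ) * e1 + e2

/-- The trace form is nondegenerate. -/
theorem eq_zero_of_tr {a : K} (h : ∀ y, tr (a * y) = 0) : a = 0 :=
  (ded (β := φ a) (γ := φ (φ a)) fun y => by have := h y; kunf at this; exact this).1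

theorem exists_tr {a r : K} (ha : a ≠ 0) (hr : φ r = r) : ∃ y, tr (a * y) = r := by
  obtain ⟨y, hy⟩ : ∃ y, tr (a * y) ≠ 0 := by
    by_contra! h; exact ha (eq_zero_of_tr h)
  exact ⟨r / tr (a * y) * y, by
    rw [mul_left_comm, tr_smul (fix_div hr (φ_tr _)), div_mul_cancel₀ _ hy]⟩

theorem eq_zero_of_cr {a : K} (h : ∀ y, cr a y = 0) : a = 0 := by
  have := (ded (α := 0) (β := φ (φ a)) (γ := φ a) fun y => by
    have := h y; kunf at this; linear_combination this).2.2
  simpa using this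

theorem tr_wg (s t : K) : tr (s * wg s t) = 0 := by kunf; ring
theorem tr_wg' (s t : K) : tr (t * wg s t) = 0 := by kunf; ring

theorem dep_of_wg {s t : K} (hs : s ≠ 0) (h : wg s t = 0) : ∃ l, φ l = l ∧ t = l * s := by
  have h1 := φ_ne_zero hs
  have h2 := φ_ne_zero h1
  refine ⟨t / s, fix_of_φ ?_, (div_mul_cancel₀ _ hs).symm⟩
  kunf at h ⊢
  field_simp
  linear_combination h

/-- Two linear conditions have a nonzero solution. -/
theorem perp2 (α β : K) : ∃ y, y ≠ 0 ∧ tr (α * y) = 0 ∧ tr (β * y) = 0 := by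
  have one : ∀ α : K, ∃ y, y ≠ 0 ∧ tr (α * y) = 0 := fun α => by
    obtain ⟨θ, h⟩ := TF.ne (K := K)
    by_cases ha : α = 0
    · exact ⟨1, one_ne_zero, by simp [ha]⟩
    · exact ⟨(φ θ - θ) / α, div_ne_zero (sub_ne_zero.2 h) ha, by
        rw [mul_div_cancel₀ _ ha, tr_sub, tr_φ, sub_self]⟩
  by_cases h : wg α β = 0
  · by_cases ha : α = 0
    · obtain ⟨y, h1, h2⟩ := one β
      exact ⟨y, h1, by simp [ha], h2⟩
    · obtain ⟨l, h1, rfl⟩ := dep_of_wg ha h
      obtain ⟨y, h2, h3⟩ := one α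
      exact ⟨y, h2, h3, by rw [mul_assoc, tr_smul h1, h3, mul_zero]⟩
  · exact ⟨_, h, tr_wg α β, tr_wg' α β⟩

/-- Cramer's rule. -/
theorem cramer (a b m x : K) : tr (m * wg a b) * x =
    tr (m * wg x b) * a + tr (m * wg a x) * b + tr (x * wg a b) * m := by kunf; ring

/-- A vector orthogonal to `wg a b` is a combination of `a`, `b`. -/
theorem span2 {a b x : K} (h : wg a b ≠ 0) (hx : tr (x * wg a b) = 0) :
    ∃ α β, φ α = α ∧ φ β = β ∧ x = α * a + β * b := by
  obtain ⟨m, hm⟩ := exists_tr h (r := 1) (map_one _)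
  rw [mul_comm] at hm
  exact ⟨_, _, φ_tr _, φ_tr _, by simpa [hm, hx] using cramer a b m x⟩

/-- A vector orthogonal to independent `a`, `b` is a multiple of `wg a b`. -/
theorem perp_wg {a b y : K} (h : wg a b ≠ 0) (h1 : tr (a * y) = 0) (h2 : tr (b * y) = 0) :
    ∃ l, φ l = l ∧ y = l * wg a b := dep_of_wg h (by
  have e : wg (wg a b) y = tr (a * y) * b - tr (b * y) * a := by kunf; ring
  rw [e, h1, h2]; ring)

/-- Prescribing two traces. -/
theorem exists_tr2 {a b r s : K} (h : wg a b ≠ 0) (hr : φ r = r) (hs : φ s = s) :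
    ∃ y, tr (a * y) = r ∧ tr (b * y) = s := by
  obtain ⟨m, hm⟩ := exists_tr h (r := 1) (map_one _)
  refine ⟨r * wg b m + s * wg m a, ?_, ?_⟩
  · rw [mul_add, tr_add, mul_left_comm, tr_smul hr, mul_left_comm, tr_smul hs, tr_wg',
      show tr (a * wg b m) = tr (wg a b * m) by kunf; ring, hm]; ring
  · rw [mul_add, tr_add, mul_left_comm, tr_smul hr, mul_left_comm, tr_smul hs, tr_wg,
      show tr (b * wg m a) = tr (wg a b * m) by kunf; ring, hm]; ring

/-- Same kernel, same line. -/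
theorem dep_of_perp {a x : K} (ha : a ≠ 0) (h : ∀ y, tr (a * y) = 0 → tr (x * y) = 0) :
    ∃ l, φ l = l ∧ x = l * a := dep_of_wg ha (by
  by_contra hw
  obtain ⟨y, h1, h2⟩ := exists_tr2 hw (map_zero _) (map_one _)
  exact one_ne_zero (h2.symm.trans (h y h1)))

theorem exists_indep {a : K} (ha : a ≠ 0) : ∃ m, wg a m ≠ 0 := by
  obtain ⟨θ, h⟩ := TF.ne (K := K)
  refine ⟨θ * a, fun e => h ?_⟩
  obtain ⟨l, h1, h2⟩ := dep_of_wg ha e
  rwa [mul_right_cancel₀ ha h2]

theorem wg_smul {l : K} (h : φ l = l) (a : K) : wg a (l * a) = 0 := by kunf; simp only [h]; ring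

/-- The inverse of the cross product. -/
theorem cr_inv (t y : K) :
    cr t (-t ^ 2 * y + t * φ t * φ y + t * φ (φ t) * φ (φ y)) = 2 * nm t * y := by kunf; ring

theorem cr_surj (h2 : (2 : K) ≠ 0) {a : K} (ha : a ≠ 0) (y : K) : ∃ b, cr a b = y := by
  have := nm_ne_zero ha
  exact ⟨_, (cr_smul (l := (2 * nm a)⁻¹) (by rw [map_inv₀, map_mul, φ_nm, map_ofNat]) _ _).trans
    (by rw [cr_inv a y]; field_simp)⟩

theorem cr_eq_zero (h2 : (2 : K) ≠ 0) {a b : K} (ha : a ≠ 0) (h : cr a b = 0) : b = 0 :=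
  eq_zero_of_tr fun y => by
    obtain ⟨c, rfl⟩ := cr_surj h2 ha y
    rw [tr_cr, ← tr_cr, cr_comm a c, tr_cr, cr_comm b a, h, mul_zero, tr_zero]

theorem cr_eq_wg (h2 : (2 : K) = 0) (a b : K) : cr a b = wg a b := by
  kunf; linear_combination φ (φ a) * φ b * h2

theorem cr_ker_two (h2 : (2 : K) = 0) {a b : K} (ha : a ≠ 0) (h : cr a b = 0) :
    ∃ l, φ l = l ∧ b = l * a := dep_of_wg ha (cr_eq_wg h2 a b ▸ h)

/-- Any vector orthogonal to `a` is `wg a b`. -/
theorem wg_surj {a y : K} (ha : a ≠ 0) (h : tr (a * y) = 0) : ∃ b, wg a b = y := by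
  obtain ⟨m, hm⟩ := exists_tr ha (r := 1) (map_one _)
  exact ⟨wg y m, by
    have e : wg a (wg y m) = tr (a * m) * y - tr (a * y) * m := by kunf; ring
    rw [e, hm, h]; ring⟩

theorem cr_surj_two (h2 : (2 : K) = 0) {a y : K} (ha : a ≠ 0) (h : tr (a * y) = 0) :
    ∃ b, cr a b = y := by simpa only [cr_eq_wg h2] using wg_surj ha h

/-- In every characteristic `a × K` contains the vectors orthogonal to `a`. -/
theorem cr_surj' {a y : K} (ha : a ≠ 0) (h : tr (a * y) = 0) : ∃ b, cr a b = y := by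
  by_cases h2 : (2 : K) = 0
  exacts [cr_surj_two h2 ha h, cr_surj h2 ha y]

/-- Every element is a sum of two cross products with independent left factors. -/
theorem cr_add_cr {a b : K} (h : wg a b ≠ 0) (y : K) : ∃ s t, y = cr a s + cr b t := by
  have ha : a ≠ 0 := by rintro rfl; exact h (by kunf; ring)
  have hb : b ≠ 0 := by rintro rfl; exact h (by kunf; ring)
  obtain ⟨m, h1, h2⟩ := exists_tr2 h (map_zero _) (φ_tr (b * y))
  obtain ⟨s, hs⟩ := cr_surj' ha h1
  obtain ⟨t, ht⟩ := cr_surj' hb (y := y - m) (by rw [mul_sub, tr_sub, h2, sub_self])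
  exact ⟨s, t, by rw [hs, ht]; ring⟩

/-- The conic net has no totally isotropic plane. -/
theorem plane_eq_zero (h2 : (2 : K) ≠ 0) {a m b : K} (h : wg a m ≠ 0) (h1 : tr (a * cr a b) = 0)
    (h3 : tr (m * cr a b) = 0) (h4 : tr (m * cr m b) = 0) : b = 0 := by
  by_contra hb
  obtain ⟨k, k1, k2⟩ := perp_wg h h1 h3
  obtain ⟨l, l1, l2⟩ := perp_wg h (y := cr m b) (by rw [tr_cr, h3]) h4
  have e : l * a - k * m = 0 := cr_eq_zero h2 hb (by
    rw [cr_sub, cr_smul l1, cr_smul k1, cr_comm b a, cr_comm b m, k2, l2]; ring)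
  have ha : a ≠ 0 := by rintro rfl; exact h (by kunf; ring)
  have hk : k = 0 := by
    by_contra hk
    refine h ?_
    rw [show m = l / k * a by field_simp; linear_combination -e]
    exact wg_smul (fix_div l1 k1) a
  rw [hk, zero_mul, cr_comm] at k2
  exact ha (cr_eq_zero h2 hb k2)

/-- The fixed field. -/
def Fx (K : Type*) [Field K] [TF K] : Subfield K where
  carrier := {t | φ t = t}
  mul_mem' := fun {a b} (ha : φ a = a) (hb : φ b = b) => show φ _ = _ by rw [map_mul, ha, hb]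
  one_mem' := map_one _
  add_mem' := fun {a b} (ha : φ a = a) (hb : φ b = b) => show φ _ = _ by rw [map_add, ha, hb]
  zero_mem' := map_zero _
  neg_mem' := fun {a} (ha : φ a = a) => show φ _ = _ by rw [map_neg, ha]
  inv_mem' := fun a (ha : φ a = a) => show φ _ = _ by rw [map_inv₀, ha]

theorem mem_Fx {t : K} : t ∈ Fx K ↔ φ t = t := Iff.rfl

theorem φ_aut (γ : K ≃+* K) (x : K) : φ (γ x) = γ (φ x) := (TF.comm γ x).symm
theorem aut_tr (γ : K ≃+* K) (x : K) : γ (tr x) = tr (γ x) := by simp only [tr, map_add, φ_aut]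
theorem aut_nm (γ : K ≃+* K) (x : K) : γ (nm x) = nm (γ x) := by simp only [nm, map_mul, φ_aut]
theorem aut_ad (γ : K ≃+* K) (x : K) : γ (ad x) = ad (γ x) := by simp only [ad, map_mul, φ_aut]
theorem aut_cr (γ : K ≃+* K) (x y : K) : γ (cr x y) = cr (γ x) (γ y) := by
  simp only [cr, map_add, map_mul, φ_aut]

end Cfsg.Agent.D3
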