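import Cfsg.Agent.D3.B5a

/-! The automizer of `Q₂`; `instance : L2`. -/

set_option autoImplicit false
set_option linter.unusedSectionVars false

open Equiv

namespace Cfsg.Agent.D3.Q2L

open Cfsg.Fus Cfsg.FusionSystem U B1 B5

variable {K : Type} [Field K] [TF K] [Finite K] {F : FusionSystem (⊤ : Subgroup (U K))} {τ : Perm (U K)}

theorem W_Q2 : sW K ≤ Q2 := W_D.trans D_Q2

theorem iZ2 : Inv F Q2 (sZ2 K) := fun τ hτ x hx => mem_Z2_of_comm fun w hw => by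
  simpa using (map_comm hτ (hτ.inv_mem (D_Q2 hw)) (W_Q2 (Z2_W hx)) (comm_Z2 (hτ.inv_mem (D_Q2 hw)) hx)).symm

theorem iW : Inv F Q2 (sW K) := fun τ hτ x hx => by
  have m := hτ.mem (W_Q2 hx)
  have k : ∀ g ∈ Q2, cr (τ x).a g.c - cr g.a (τ x).c = 0 := fun g hg => by
    rw [← cm_d_Q2 hg m, cm_left hτ hg (W_Q2 hx)]
    exact (iZ2 τ hτ _ (cm_Z2' _ hx)).2.2.2
  exact ⟨eq_zero_of_cr fun y => by simpa [XC] using k (XC y) rfl, m,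
    eq_zero_of_cr fun y => by simpa [XA, cr_comm] using k (XA y) rfl⟩

theorem iZ (hτ : F.Iso Q2 Q2 τ) (h : ∀ x ∈ sD K, τ x ∈ sD K) : ∀ x ∈ sZ K, τ x ∈ sZ K := fun z hz => by
  obtain ⟨t, rfl⟩ := exists_cm_Z hz
  rw [map_cm hτ (g := XD t) (x := XC 1) rfl rfl]
  exact cm_Q1 (h _ (W_D (XD_mem t))).1 (h _ (XC_mem 1)).1

theorem l2c (hτ : F.Iso Q2 Q2 τ) : (∀ x ∈ sD K, τ x ∈ sD K) ∨ ∃ g, ∀ x ∈ sD K, (g * τ x * g⁻¹).c = 0 := by
  have m : τ (XC 1) ∈ Q2 := hτ.mem rfl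
  have hw : wg (τ (XC 1)).a (τ (XC 1)).c = 0 := by
    by_contra hw
    have k : ∀ z ∈ sZ2 K, τ⁻¹ z ∈ sZ K := fun z hz => by
      obtain ⟨d, d1, d2⟩ := exists_tr2 hw z.he z.hf
      have w := cm_W_Q2 (XD_mem d) m
      rw [← eq_of_Z2 (cm_Z2 (XD_mem d) _) hz (w.1.trans d1) (w.2.trans d2), cm_left hτ (g := XD d) rfl rfl]
      simpa using cm_Q1 (iW _ hτ.symm _ (XD_mem d)).1 (XC_mem 1).1
    simpa [XE] using (Uf.Ea.inv_maps (fun z hz => k z (Z_Z2 hz)) _ (k _ (XE_mem 1 (map_one _)))).2.2.2.2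
  obtain ⟨α, β, t, h1, h2, h0, ha, hc⟩ := rank1 hw
  have k : ∀ x ∈ sD K, α * (τ x).c - β * (τ x).a = 0 := fun x hx => eq_zero_of_tr fun d => by
    obtain ⟨s, e⟩ := exists_cm_Z (cm_Q1 (iW _ hτ.symm _ (XD_mem d)).1 hx.1)
    have w := cm_W_Q2 (XD_mem d) (hτ.mem hx.2)
    have w' := cm_W_Q2 (iW τ hτ _ (XD_mem s)) m
    rw [cm_left hτ (g := XD d) rfl hx.2, ← e, map_cm hτ (g := XD s) (x := XC 1) rfl rfl, w'.1, w'.2, ha, hc,
      mul_assoc, mul_assoc, tr_smul h1, tr_smul h2, XD_d] at w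
    rw [sub_mul, tr_sub, mul_assoc, mul_assoc, tr_smul h1, tr_smul h2, ← w.1, ← w.2]
    ring
  by_cases a0 : α = 0
  · exact .inl fun x hx => ⟨by simpa [a0, h0.resolve_left (not_not.2 a0)] using k x hx, hτ.mem hx.2⟩
  · refine .inr ⟨XB (-β / α) (fix_div (by rw [map_neg, h2]) h1), fun x hx => (cj_c _ _).trans ?_⟩
    simp only [XB, zero_mul, sub_zero]
    field_simp
    linear_combination k x hx

theorem opp (hτ : F.Iso Q2 Q2 τ) (h0 : ∀ x ∈ sD K, (τ x).c = 0) {r : K} (hr : φ r = r) :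
    ∃ σ, F.Iso Q2 Q2 σ ∧ ∀ x ∈ Q2, (σ x).a = x.a + r * x.c ∧ (σ x).c = x.c := by
  have nW : ∀ x ∈ sD K, (τ x).a = 0 → x.c = 0 := fun x hx h => by
    simpa using (iW _ hτ.symm _ ⟨h, hτ.mem hx.2, h0 x hx⟩).2.2
  have k1 : ∀ s ∈ Q2, s.c = 0 → τ⁻¹ s ∈ sD K := fun s hs hc => ⟨eq_zero_of_tr fun d => by
    have w := iW τ hτ _ (XD_mem d)
    obtain ⟨d', hd⟩ := exists_tr (fun h => one_ne_zero (nW _ (XC_mem 1) h)) (φ_tr (s.a * (τ (XD d)).d))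
    have w1 := cm_W_Q2 w hs
    have w2 := cm_W_Q2 (XD_mem d') (hτ.mem (show XC 1 ∈ Q2 from rfl))
    have e := eq_of_Z2 (cm_Z2 w s) (cm_Z2 (XD_mem d') (τ (XC 1))) (w1.1.trans (w2.1.trans hd).symm)
      (by rw [w1.2, w2.2, hc, h0 _ (XC_mem 1), zero_mul, zero_mul])
    rw [cm_right hτ (g := XD d) rfl hs, cm_left hτ (g := XD d') (x := XC 1) rfl rfl] at e
    rw [← XD_d d, ← e_W (XD_mem d), τ.injective e]
    exact (cm_Q1 (iW _ hτ.symm _ (XD_mem d')).1 rfl).2.2.2.2, hτ.inv_mem hs⟩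
  have key : ∀ g, ∀ x ∈ Q2, (τ * cj g * τ⁻¹) x = x * τ (cm g (τ⁻¹ x)) := fun g x hx => by
    rw [Perm.mul_apply, Perm.mul_apply, cj_apply, cj_eq, hτ.homOn (hτ.inv_mem hx) (cm_b _ _)]
    simp
  have i := fun g => hτ.conj (iso_cj_of_D D_Q2 g)
  have k2 : ∀ g ∈ Q1, ∀ w ∈ sW K, ∀ x ∈ Q2,
      cm w ((τ * cj g * τ⁻¹ : Perm (U K)) x) = (τ * cj g * τ⁻¹ : Perm (U K)) (cm w x) := fun g hg w hw x hx => by
    have z := iZ2 τ hτ _ (Z_Z2 (cm_Q1 hg (iW _ hτ.symm _ hw).1))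
    rw [map_cm (i g) (W_Q2 hw) hx, key g w (W_Q2 hw), cm, cm, mul_assoc w (τ _), ← comm_Z2 ((i g).mem hx) z]
    group
  have k3 : ∀ g ∈ Q1, ∀ c d, tr ((τ (cm g (τ⁻¹ (XC c)))).a * d) = tr ((τ (cm g (τ⁻¹ (XC 1)))).a * (c * d)) :=
    fun g hg c d => by
      have e := k2 g hg _ (XD_mem d) (XC c) rfl
      rw [eq_of_Z (cm_Q1 (g := XD d) (x := XC c) rfl rfl) (cm_Q1 (g := XD (c * d)) (x := XC 1) rfl rfl)
        (by simp [cm_f_Q1, XD, XC]), ← k2 g hg _ (XD_mem _) (XC 1) rfl, key g (XC c) rfl, key g (XC 1) rfl] at e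
      simpa [e_W (XD_mem _), XD_d, XC] using congrArg U.e e
  have k4 : ∀ t : Fx K, (τ (cm (XB t.1 (mem_Fx.1 t.2)) (τ⁻¹ (XC 1)))).a ∈ Fx K := fun t => by
    obtain ⟨l, hl, e⟩ := dep_of_perp (x := (τ (cm (XB t.1 (mem_Fx.1 t.2)) (τ⁻¹ (XC 1)))).a) one_ne_zero fun d hd => by
      have e := k2 (XB t.1 (mem_Fx.1 t.2)) rfl _ (XD_mem d) (XC 1) rfl
      rw [eq_of_Z (cm_Q1 (g := XD d) (x := XC 1) rfl rfl) (one_mem _) (by simpa [cm_f_Q1, XD, XC] using hd),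
        (i _).homOn.map_one, key _ (XC 1) rfl] at e
      simpa [e_W (XD_mem _), XD_d, XC] using congrArg U.e e
    rw [e, mul_one]
    exact hl
  obtain ⟨t, ht⟩ := (Finite.injective_iff_surjective (f := fun t : Fx K => (⟨_, k4 t⟩ : Fx K))).1 (fun t t' e => by
    have := nW _ (mul_mem (inv_mem (cm_D (XB t.1 (mem_Fx.1 t.2)) (τ⁻¹ (XC 1))))
      (cm_D (XB t'.1 (mem_Fx.1 t'.2)) (τ⁻¹ (XC 1)))) (by
        rw [hτ.homOn (inv_mem (D_Q2 (cm_D _ _))) (cm_b _ _), hτ.homOn.map_inv (cm_b _ _), mul_a, inv_a,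
          show (τ _).a = (τ _).a from congrArg Subtype.val e, neg_add_cancel])
    have a : (τ⁻¹ (XC 1)).a ≠ 0 := fun a => by
      simpa [XC] using h0 _ ⟨a, hτ.inv_mem (show XC 1 ∈ Q2 from rfl)⟩
    exact Subtype.ext (mul_left_cancel₀ a (by simpa [cm_c, XB, neg_add_eq_zero] using this))) ⟨r, hr⟩
  replace ht : (τ _).a = r := congrArg Subtype.val ht
  refine ⟨_, i (XB t.1 (mem_Fx.1 t.2)), fun x hx => ⟨?_, by rw [key _ x hx, mul_c, h0 _ (cm_D _ _), mem_Q2.1 hx]; ring⟩⟩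
  have s : x * (XC x.c)⁻¹ ∈ Q2 := mul_mem hx (inv_mem (show XC _ ∈ Q2 from rfl))
  have e := eq_zero_of_tr (a := (τ (cm (XB t.1 (mem_Fx.1 t.2)) (τ⁻¹ (XC x.c)))).a - r * x.c) fun d => by
    rw [sub_mul, tr_sub, k3 _ rfl, ht, mul_assoc, sub_self]
  have e2 := congrArg U.a ((i (XB t.1 (mem_Fx.1 t.2))).homOn s (show XC x.c ∈ Q2 from rfl))
  rw [inv_mul_cancel_right, key _ _ s, key _ (XC x.c) rfl] at e2
  simp only [mul_a, inv_a, (iW τ hτ _ (cm_W' _ (k1 _ s (by simp [XC, mem_Q2.1 hx])))).1, sub_eq_zero.1 e] at e2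
  simpa [XC] using e2

variable {p : ℕ} [Fact p.Prime] [CharP K p]

theorem l2d (hF : F.IsSaturated p) (hτ : F.Iso Q2 Q2 τ) (h : ∀ x ∈ sD K, τ x ∈ sD K) :
    ∃ α, F.Iso ⊤ ⊤ α ∧ ∀ x ∈ Q2, α x = τ x := ext_top hF D_Q2 hτ (iZ hτ h) (iZ2 τ hτ) (iW τ hτ) h

theorem weyl (h : Std p F) {t : K} (ht : φ t = t) (t0 : t ≠ 0) : ∃ ω, F.Iso Q2 Q2 ω ∧
    ∀ x ∈ Q2, (ω x).a = -x.c / t ∧ (ω x).c = t * x.a := by
  obtain ⟨τ, hτ, g, hg⟩ : ∃ τ, F.Iso Q2 Q2 τ ∧ ∃ g, ∀ x ∈ sD K, (g * τ x * g⁻¹).c = 0 := by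
    by_contra hn
    have iD : Inv F Q2 (sD K) := fun τ hτ => (l2c hτ).resolve_right fun e => hn ⟨τ, hτ, e⟩
    exact one_ne_zero (mem_Q2.1 (mem_of_chain h.e2 (Z_le h.e2) (Z2_W.trans W_Q2) W_Q2 D_Q2
      (fun τ hτ => iZ hτ (iD τ hτ)) iZ2 iW iD (g := XB 1 (map_one _)) (fun x hx => comm_Z _ hx) (fun x hx => cm_Z' _ hx)
      (fun x hx => cm_Z2' _ hx) (fun x hx => cm_W' _ hx) fun x _ => cm_D _ x))
  obtain ⟨σ, h1, h2⟩ := opp (hτ.trans (iso_cj_of_D D_Q2 g)) hg (r := -t⁻¹) (by simp [ht])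
  have c := iso_cj_of_D (F := F) D_Q2 (XB t ht)
  refine ⟨_, (h1.trans c).trans h1, fun x hx => ?_⟩
  have m := h1.mem hx
  rw [Perm.mul_apply, Perm.mul_apply, (h2 _ (c.mem m)).1, (h2 _ (c.mem m)).2, cj_apply, cj_a,
    cj_c, (h2 x hx).1, (h2 x hx).2]
  simp only [XB]
  constructor <;> field_simp <;> ring

theorem l2b (h : Std p F) (t : K) (ht : φ t = t) (t0 : t ≠ 0) :
    F.IsMap ⊤ (au t⁻¹ (t * t) (by rw [map_mul, ht]) 1) := by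
  obtain ⟨ω, a1, a2⟩ := weyl h ht t0
  obtain ⟨η, b1, b2⟩ := weyl h (t := -1) (by simp) (by simp)
  have e : ∀ x ∈ Q2, ((ω * η) x).a = x.a / t ∧ ((ω * η) x).c = t * x.c := fun x hx => by
    rw [Perm.mul_apply, (a2 _ (b1.mem hx)).1, (a2 _ (b1.mem hx)).2, (b2 x hx).1, (b2 x hx).2]
    simp
  obtain ⟨α, c1, c2⟩ := l2d h.sat (b1.trans a1) fun x hx =>
    ⟨by rw [(e x hx.2).1, hx.1, zero_div], (b1.trans a1).mem hx.2⟩
  obtain ⟨g, s, u, hu, σ, hs, u0, c3⟩ := h.aut α c1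
  have f1 : ∀ b, s * σ b = b / t := fun b => by
    have := (e (XA b) rfl).1
    rwa [← c2 _ rfl, c3, cj_a] at this
  obtain rfl : s = t⁻¹ := by simpa using f1 1
  obtain rfl : σ = 1 := RingEquiv.ext fun b => mul_left_cancel₀ hs (by
    rw [f1, div_eq_inv_mul]; rfl)
  obtain rfl : u = t * t := by
    have := (e (XC 1) rfl).2
    rw [← c2 _ rfl, c3, cj_c] at this
    simp only [au, XC, map_zero, map_one, mul_zero, zero_mul, add_zero, sub_zero] at this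
    field_simp at this
    linear_combination this
  refine (c1.isMap.comp (F.isMap_cj le_rfl (Subgroup.mem_top g⁻¹)) fun _ _ => trivial).congr
    fun x _ => ?_
  rw [Function.comp, c3, cj_apply]; group

instance instL2 : L2 :=
  ⟨fun h => by simpa using weyl h (map_one _) one_ne_zero, l2b, fun _ => l2c, fun hF _ => l2d hF⟩

end Cfsg.Agent.D3.Q2L
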