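import Mathlib
import Cfsg.Prelude.Def_LieTwisted

/-! The Sylow `p`-subgroup of `³D₄(q)` in coordinates: `A(a) B(b) C(c) D(d) E(e) F(f)` for the roots
`a, b, a+b, 2a+b, 3a+b, 3a+2b`. -/

set_option autoImplicit false

namespace Cfsg.Agent.D3

/-- a field with an automorphism `φ` of order `3` -/
class TF (K : Type*) [Field K] where
  φ : K ≃+* K
  φφφ : ∀ t, φ (φ (φ t)) = t
  ne : ∃ t, φ t ≠ t
  nm : ∀ t, φ t = t → ∃ s, s * φ s * φ (φ s) = t
  comm : ∀ (γ : K ≃+* K) t, γ (φ t) = φ (γ t)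

export TF (φ φφφ)

@[ext] structure U (K : Type*) [Field K] [TF K] where
  (a b c d e f : K)
  hb : φ b = b
  he : φ e = e
  hf : φ f = f

namespace U

variable {K : Type*} [Field K] [TF K]

instance instMul : Mul (U K) := ⟨fun x y =>
  { a := x.a + y.a
    b := x.b + y.b
    c := x.c + y.c + y.a * x.b
    d := x.d + y.d + φ y.a * φ (φ x.c) + φ (φ y.a) * φ x.c + φ y.a * φ (φ y.a) * x.b
    e := x.e + y.e + y.a * x.d + φ y.a * φ x.d + φ (φ y.a) * φ (φ x.d) + y.a * φ y.a * φ (φ x.c) + y.a * φ (φ y.a) * φ x.c +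
      φ y.a * φ (φ y.a) * x.c + y.a * φ y.a * φ (φ y.a) * x.b
    f := x.f + y.f - y.b * x.e + y.c * x.d + φ y.c * φ x.d + φ (φ y.c) * φ (φ x.d) - y.a * y.b * x.d + y.a * φ x.c * φ (φ x.c) +
      y.a * φ y.c * φ (φ x.c) + y.a * φ (φ y.c) * φ x.c - φ y.a * y.b * φ x.d + φ y.a * x.c * φ (φ x.c) + φ y.a * y.c * φ (φ x.c) +
      φ y.a * φ (φ y.c) * x.c - φ (φ y.a) * y.b * φ (φ x.d) + φ (φ y.a) * x.c * φ x.c + φ (φ y.a) * y.c * φ x.c +
      φ (φ y.a) * φ y.c * x.c + y.a * φ y.a * x.b * φ (φ x.c) - y.a * φ y.a * y.b * φ (φ x.c) + y.a * φ y.a * φ (φ y.c) * x.b +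
      y.a * φ (φ y.a) * x.b * φ x.c - y.a * φ (φ y.a) * y.b * φ x.c + y.a * φ (φ y.a) * φ y.c * x.b + φ y.a * φ (φ y.a) * x.b * x.c -
      φ y.a * φ (φ y.a) * y.b * x.c + φ y.a * φ (φ y.a) * y.c * x.b + y.a * φ y.a * φ (φ y.a) * x.b * x.b - y.a * φ y.a * φ (φ y.a) * y.b * x.b
    hb := by simp only [map_add, map_neg, x.hb, y.hb]
    he := by simp only [map_add, map_sub, map_neg, map_mul, φφφ, x.hb, x.he, x.hf, y.hb, y.he, y.hf]; ring
    hf := by simp only [map_add, map_sub, map_neg, map_mul, φφφ, x.hb, x.he, x.hf, y.hb, y.he, y.hf]; ring }⟩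
instance instOne : One (U K) := ⟨⟨0, 0, 0, 0, 0, 0, map_zero _, map_zero _, map_zero _⟩⟩
instance instInv : Inv (U K) := ⟨fun x =>
  { a := -x.a
    b := -x.b
    c := -x.c + x.a * x.b
    d := -x.d + φ x.a * φ (φ x.c) + φ (φ x.a) * φ x.c - φ x.a * φ (φ x.a) * x.b
    e := -x.e + x.a * x.d + φ x.a * φ x.d + φ (φ x.a) * φ (φ x.d) - x.a * φ x.a * φ (φ x.c) - x.a * φ (φ x.a) * φ x.c -
      φ x.a * φ (φ x.a) * x.c + x.a * φ x.a * φ (φ x.a) * x.b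
    f := -x.f - x.b * x.e + x.c * x.d + φ x.c * φ x.d + φ (φ x.c) * φ (φ x.d) - x.a * φ x.c * φ (φ x.c) - φ x.a * x.c * φ (φ x.c) -
      φ (φ x.a) * x.c * φ x.c + x.a * φ x.a * x.b * φ (φ x.c) + x.a * φ (φ x.a) * x.b * φ x.c + φ x.a * φ (φ x.a) * x.b * x.c -
      x.a * φ x.a * φ (φ x.a) * x.b * x.b
    hb := by simp only [map_add, map_neg, x.hb]
    he := by simp only [map_add, map_sub, map_neg, map_mul, φφφ, x.hb, x.he, x.hf]; ring
    hf := by simp only [map_add, map_sub, map_neg, map_mul, φφφ, x.hb, x.he, x.hf]; ring }⟩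

theorem mul_a (x y : U K) : (x * y).a = x.a + y.a := rfl
theorem mul_b (x y : U K) : (x * y).b = x.b + y.b := rfl
theorem mul_c (x y : U K) : (x * y).c = x.c + y.c + y.a * x.b := rfl
theorem mul_d (x y : U K) : (x * y).d = x.d + y.d + φ y.a * φ (φ x.c) + φ (φ y.a) * φ x.c + φ y.a * φ (φ y.a) * x.b := rfl
theorem mul_e (x y : U K) : (x * y).e = x.e + y.e + y.a * x.d + φ y.a * φ x.d + φ (φ y.a) * φ (φ x.d) + y.a * φ y.a * φ (φ x.c) +
    y.a * φ (φ y.a) * φ x.c + φ y.a * φ (φ y.a) * x.c + y.a * φ y.a * φ (φ y.a) * x.b := rfl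
theorem mul_f (x y : U K) : (x * y).f = x.f + y.f - y.b * x.e + y.c * x.d + φ y.c * φ x.d + φ (φ y.c) * φ (φ x.d) -
    y.a * y.b * x.d + y.a * φ x.c * φ (φ x.c) + y.a * φ y.c * φ (φ x.c) + y.a * φ (φ y.c) * φ x.c - φ y.a * y.b * φ x.d +
    φ y.a * x.c * φ (φ x.c) + φ y.a * y.c * φ (φ x.c) + φ y.a * φ (φ y.c) * x.c - φ (φ y.a) * y.b * φ (φ x.d) +
    φ (φ y.a) * x.c * φ x.c + φ (φ y.a) * y.c * φ x.c + φ (φ y.a) * φ y.c * x.c + y.a * φ y.a * x.b * φ (φ x.c) -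
    y.a * φ y.a * y.b * φ (φ x.c) + y.a * φ y.a * φ (φ y.c) * x.b + y.a * φ (φ y.a) * x.b * φ x.c - y.a * φ (φ y.a) * y.b * φ x.c +
    y.a * φ (φ y.a) * φ y.c * x.b + φ y.a * φ (φ y.a) * x.b * x.c - φ y.a * φ (φ y.a) * y.b * x.c + φ y.a * φ (φ y.a) * y.c * x.b +
    y.a * φ y.a * φ (φ y.a) * x.b * x.b - y.a * φ y.a * φ (φ y.a) * y.b * x.b := rfl
theorem inv_a (x : U K) : x⁻¹.a = -x.a := rfl
theorem inv_b (x : U K) : x⁻¹.b = -x.b := rfl
theorem inv_c (x : U K) : x⁻¹.c = -x.c + x.a * x.b := rfl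
theorem inv_d (x : U K) : x⁻¹.d = -x.d + φ x.a * φ (φ x.c) + φ (φ x.a) * φ x.c - φ x.a * φ (φ x.a) * x.b := rfl
theorem inv_e (x : U K) : x⁻¹.e = -x.e + x.a * x.d + φ x.a * φ x.d + φ (φ x.a) * φ (φ x.d) - x.a * φ x.a * φ (φ x.c) -
    x.a * φ (φ x.a) * φ x.c - φ x.a * φ (φ x.a) * x.c + x.a * φ x.a * φ (φ x.a) * x.b := rfl
theorem inv_f (x : U K) : x⁻¹.f = -x.f - x.b * x.e + x.c * x.d + φ x.c * φ x.d + φ (φ x.c) * φ (φ x.d) - x.a * φ x.c * φ (φ x.c) -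
    φ x.a * x.c * φ (φ x.c) - φ (φ x.a) * x.c * φ x.c + x.a * φ x.a * x.b * φ (φ x.c) + x.a * φ (φ x.a) * x.b * φ x.c +
    φ x.a * φ (φ x.a) * x.b * x.c - x.a * φ x.a * φ (φ x.a) * x.b * x.b := rfl
theorem one_a : (1 : U K).a = 0 := rfl
theorem one_b : (1 : U K).b = 0 := rfl
theorem one_c : (1 : U K).c = 0 := rfl
theorem one_d : (1 : U K).d = 0 := rfl
theorem one_e : (1 : U K).e = 0 := rfl
theorem one_f : (1 : U K).f = 0 := rfl

def XA (t : K) : U K := ⟨t, 0, 0, 0, 0, 0, map_zero _, map_zero _, map_zero _⟩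
def XB (t : K) (h : φ t = t) : U K := ⟨0, t, 0, 0, 0, 0, h, map_zero _, map_zero _⟩
def XC (t : K) : U K := ⟨0, 0, t, 0, 0, 0, map_zero _, map_zero _, map_zero _⟩
def XD (t : K) : U K := ⟨0, 0, 0, t, 0, 0, map_zero _, map_zero _, map_zero _⟩
def XE (t : K) (h : φ t = t) : U K := ⟨0, 0, 0, 0, t, 0, map_zero _, h, map_zero _⟩
def XF (t : K) (h : φ t = t) : U K := ⟨0, 0, 0, 0, 0, t, map_zero _, map_zero _, h⟩

/-- computes coordinates of products -/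
macro "usimp3" : tactic => `(tactic|
  simp only [mul_a, mul_b, mul_c, mul_d, mul_e, mul_f, inv_a, inv_b, inv_c, inv_d, inv_e, inv_f, one_a, one_b, one_c,
    one_d, one_e, one_f, XA, XB, XC, XD, XE, XF, map_add, map_sub, map_neg, map_mul, map_pow, map_zero, map_one, φφφ,
    U.hb, U.he, U.hf, mul_zero, zero_mul, add_zero, zero_add, sub_zero, neg_zero, mul_one, one_mul])

instance instGroup : Group (U K) := Group.ofLeftAxioms (fun x y z => by ext <;> usimp3 <;> ring)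
  (fun x => by ext <;> usimp3) fun x => by ext <;> usimp3 <;> ring

instance instFinite [Finite K] : Finite (U K) := Finite.of_injective
  (fun u : U K => ![u.a, u.b, u.c, u.d, u.e, u.f]) fun _ _ h =>
    U.ext (congrFun h 0) (congrFun h 1) (congrFun h 2) (congrFun h 3) (congrFun h 4) (congrFun h 5)

theorem dec (x : U K) : x = XA x.a * (XB x.b x.hb * (XC x.c * (XD x.d * (XE x.e x.he * XF x.f x.hf)))) := by
  ext <;> usimp3

/-- torus and field automorphisms: `XA t ↦ XA (s * γ t)`, `XB t ↦ XB (u * γ t)` -/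
def au (s u : K) (hu : φ u = u) (γ : K ≃+* K) (x : U K) : U K where
  a := s * γ x.a
  b := u * γ x.b
  c := s * u * γ x.c
  d := φ s * φ (φ s) * u * γ x.d
  e := s * φ s * φ (φ s) * u * γ x.e
  f := s * φ s * φ (φ s) * u ^ 2 * γ x.f
  hb := by rw [map_mul, hu, ← TF.comm, x.hb]
  he := by simp only [map_mul, hu, φφφ]; rw [← TF.comm γ, x.he]; ring
  hf := by simp only [map_mul, map_pow, hu, φφφ]; rw [← TF.comm γ, x.hf]; ring

theorem au_mul (s u : K) (hu : φ u = u) (γ : K ≃+* K) (x y : U K) :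
    au s u hu γ (x * y) = au s u hu γ x * au s u hu γ y := by
  ext <;> simp only [mul_a, mul_b, mul_c, mul_d, mul_e, mul_f, au, map_add, map_sub, map_mul, φφφ, hu, TF.comm γ] <;> ring

/-- the unipotent radical `q^(1+8)` with Levi factor `L₂(q³)` -/
def Q1 : Subgroup (U K) where
  carrier := {x | x.a = 0}
  mul_mem' {x y} (hx : _ = _) (hy : _ = _) := show x.a + y.a = 0 by rw [hx, hy, add_zero]
  one_mem' := rfl
  inv_mem' {x} (hx : _ = _) := show -x.a = 0 by rw [hx, neg_zero]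

/-- the unipotent radical of order `q^11` with Levi factor `L₂(q)` -/
def Q2 : Subgroup (U K) where
  carrier := {x | x.b = 0}
  mul_mem' {x y} (hx : _ = _) (hy : _ = _) := show x.b + y.b = 0 by rw [hx, hy, add_zero]
  one_mem' := rfl
  inv_mem' {x} (hx : _ = _) := show -x.b = 0 by rw [hx, neg_zero]

theorem mem_Q1 {x : U K} : x ∈ Q1 ↔ x.a = 0 := Iff.rfl
theorem mem_Q2 {x : U K} : x ∈ Q2 ↔ x.b = 0 := Iff.rfl

/-- the Weyl element on `Q1` -/
def w1 (x : U K) : U K where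
  a := 0
  b := x.e
  c := -x.d
  d := x.c
  e := -x.b
  f := x.f + x.b * x.e - (x.c * x.d + φ x.c * φ x.d + φ (φ x.c) * φ (φ x.d))
  hb := x.he
  he := by usimp3
  hf := by usimp3; ring

/-- the Weyl element on `Q2` -/
def w2 (x : U K) : U K where
  a := -x.c
  b := 0
  c := x.a
  d := x.d - (φ x.a * φ (φ x.c) + φ (φ x.a) * φ x.c)
  e := -x.f + (x.a * φ x.c * φ (φ x.c) + φ x.a * x.c * φ (φ x.c) + φ (φ x.a) * x.c * φ x.c)
  f := x.e - (x.a * φ x.a * φ (φ x.c) + x.a * φ (φ x.a) * φ x.c + φ x.a * φ (φ x.a) * x.c)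
  hb := map_zero _
  he := by usimp3; ring
  hf := by usimp3; ring

/-- the group side: `G` is an extension of `³D₄(q)` by the torus and the field automorphisms in `Γ` -/
structure GD (p : ℕ) (Γ : Subgroup (K ≃+* K)) {G : Type*} [Group G] (J : U K →* G) (n1 n2 : G) : Prop where
  inj : Function.Injective J
  syl : ∃ P : Sylow p G, (P : Subgroup G) = J.range
  w1 : ∀ x ∈ Q1, n1 * J x * n1⁻¹ = J (w1 x)
  w2 : ∀ x ∈ Q2, n2 * J x * n2⁻¹ = J (w2 x)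
  tor : ∀ (s u : K) (hu : φ u = u), s ≠ 0 → u ≠ 0 → ∀ γ ∈ Γ, ∃ g : G, ∀ x, g * J x * g⁻¹ = J (au s u hu γ x)
  nrm : ∀ g ∈ Subgroup.normalizer (J.range : Set G), ∃ (y : U K) (s u : K) (hu : φ u = u), ∃ γ ∈ Γ, s ≠ 0 ∧ u ≠ 0 ∧
    ∀ x, g * J x * g⁻¹ = J (y * au s u hu γ x * y⁻¹)

end U

/-- slice `Lie` (helper8) -/
class LieS.{u} : Prop where
  syl : ∀ {K : Type u} [Field K] [Fintype K] (p n : ℕ) [Fact p.Prime] [CharP K p], 1 ≤ n →
    Fintype.card K = (p ^ n) ^ 3 → ∀ T : Sylow p (Cfsg.Lie.twistedD4 K (p ^ n)),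
      ∃ (K' : Type) (_ : Field K') (_ : Fintype K') (_ : TF K') (_ : CharP K' p),
        Nonempty ((T : Subgroup (Cfsg.Lie.twistedD4 K (p ^ n))) ≃* U K')
  grp : ∀ (K : Type) [Field K] [Finite K] [TF K] (p : ℕ) [Fact p.Prime] [CharP K p] (Γ : Subgroup (K ≃+* K)),
    (∀ γ ∈ Γ, γ ^ p = 1 → γ = 1) → ∃ (G : Type) (_ : Group G) (_ : Finite G) (J : U K →* G) (n1 n2 : G),
      U.GD p Γ J n1 n2

end Cfsg.Agent.D3
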