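import Cfsg.Agent.D3.K

/-! Maps preserving the cross product. -/

set_option autoImplicit false
set_option linter.unusedSectionVars false

namespace Cfsg.Agent.D3.NS

variable {K : Type*} [Field K] [TF K]

theorem cr_exp (a c : K) : a ^ 2 * c = tr (a * c) * a - cr (ad a) c := by kunf; ring

theorem indep3 {y l m n : K} (hy : φ y ≠ y) (hl : φ l = l) (hm : φ m = m) (hn : φ n = n)
    (h : l * ad y + m * y + n = 0) : l = 0 := by
  have h1 := congrArg φ h
  have h2 := congrArg φ h1
  kunf at h h1 h2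
  simp only [hl, hm, hn] at h1 h2
  have a := sub_ne_zero.2 hy
  have b : φ (φ y) - φ y ≠ 0 := sub_ne_zero.2 (mt fix_of_φ hy)
  have c : φ (φ y) - y ≠ 0 := sub_ne_zero.2 (mt fix_of_φφ hy)
  have e1 : m - l * φ (φ y) = 0 := mul_left_cancel₀ a (by linear_combination h1 - h)
  have e2 : m - l * y = 0 := mul_left_cancel₀ b (by linear_combination h2 - h1)
  exact mul_left_cancel₀ c (by linear_combination e2 - e1)

theorem mul_of_cr (A D : K →+ K) {e : K} (he : e ≠ 0) (fe : φ e = e) (inj : Function.Injective A) (A1 : A 1 = 1)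
    (hβ : ∀ t, φ t = t → φ (A t) = A t) (sA : ∀ t a, φ t = t → A (t * a) = A t * A a)
    (sD : ∀ t a, φ t = t → D (t * a) = A t * D a) (h2 : ∀ a c, D (cr a c) = cr (A a) (A c))
    (had : ∀ a, D (ad a) = ad (A a)) (h3 : ∀ a d, tr (A a * D d) = e * A (tr (a * d))) (a c : K) :
    A (a * c) = A a * A c := by
  have D1 : D 1 = 1 := by simpa [A1] using had 1
  have t1 : ∀ c, tr (A c) = e * A (tr c) := fun c => by simpa [D1] using h3 c 1
  have hD : ∀ c, D c = A c + (1 - e) * A (tr c) := fun c => by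
    have := h2 1 c
    rw [A1, show cr 1 c = tr c * 1 - c by kunf; ring, map_sub, sD _ _ (φ_tr c), D1,
      show cr 1 (A c) = tr (A c) - A c by kunf; ring, t1] at this
    linear_combination -this
  obtain rfl : e = 1 := by
    by_cases h0 : (3 : K) = 0
    · obtain ⟨a, a1, a2⟩ : ∃ a : K, tr a = 1 ∧ tr (ad a) ≠ 0 := by
        obtain ⟨a, ha⟩ := exists_tr (one_ne_zero (α := K)) (map_one φ)
        rw [one_mul] at ha
        by_cases h : tr (ad a) = 0
        · refine ⟨a + 1, ?_, fun h' => ?_⟩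
          · kunf at ha ⊢; linear_combination ha + h0
          · kunf at ha h h'
            exact one_ne_zero (α := K) (by linear_combination h - h' + 2 * ha + 2 * h0)
        · exact ⟨a, ha, h⟩
      have hy : φ (A a) ≠ A a := fun h => he (by
        have := t1 a
        rw [tr_fix h, h0, a1, A1] at this; linear_combination -this)
      have f1 : φ ((1 - e) * A (tr (ad a))) = (1 - e) * A (tr (ad a)) := by
        rw [map_mul, map_sub, map_one, fe, hβ _ (φ_tr _)]
      have f2 := hβ _ (φ_nm a)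
      have e1 := had (ad a)
      rw [ad_ad, sD _ _ (φ_nm a), hD a, a1, A1, show A (ad a) = ad (A a) - (1 - e) * A (tr (ad a)) by
        rw [← had, hD]; ring] at e1
      have := indep3 hy f1 (m := nm (A a) - A (nm a)) (n := ((1 - e) * A (tr (ad a))) ^ 2 -
        (1 - e) * A (tr (ad a)) * tr (ad (A a)) - A (nm a) * (1 - e)) (by rw [map_sub, φ_nm, f2])
        (by simp only [map_sub, map_mul, map_pow, map_one, f1, f2, fe, φ_tr, hβ _ (φ_tr _)]) (by
          generalize (1 - e) * A (tr (ad a)) = l at *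
          generalize A (nm a) = m at *
          generalize A a = y at *
          kunf at e1 ⊢
          simp only [f1] at e1
          linear_combination -e1)
      rcases mul_eq_zero.1 this with h | h
      · linear_combination -h
      · exact absurd (inj (h.trans (map_zero A).symm)) a2
    · have := t1 1
      rw [A1, show tr (1 : K) = 1 + 1 + 1 by kunf, map_add, map_add, A1] at this
      exact mul_left_cancel₀ h0 (by linear_combination -this)
  simp only [sub_self, zero_mul, add_zero, one_mul] at hD t1 h3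
  have u : ∀ a c, A (a ^ 2 * c) = A a ^ 2 * A c := fun a c => by
    rw [cr_exp, cr_exp (A a), map_sub, sA _ _ (φ_tr _), ← h3, hD c, ← hD (cr _ _), h2, ← hD (ad a), had]
  have e1 := u (a + 1) c
  have e2 := u (a * c) 1
  have e3 := u c 1
  rw [show (a + 1) ^ 2 * c = a ^ 2 * c + (a * c + a * c) + c by ring, map_add, map_add, map_add, map_add, u,
    A1] at e1
  rw [show (a * c) ^ 2 * 1 = a ^ 2 * (c ^ 2 * 1) by ring, u, e3, A1] at e2
  exact sub_eq_zero.1 (pow_eq_zero_iff two_ne_zero |>.1 (by linear_combination -e2 - A a * A c * e1))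

theorem alt_cr (hF : ∀ t : K, φ t = t → t = 0 ∨ t = 1) (Δ : K →+ K) (h : ∀ y, tr (y * Δ y) = 0) :
    ∃ κ, ∀ y, Δ y = cr y κ := by
  have h2 : (2 : K) = 0 := by
    rcases hF (-1) (by simp) with e | e
    · simp at e
    · linear_combination -e
  have sy : ∀ y z, tr (y * Δ z) = tr (z * Δ y) := fun y z => by
    have := h (y + z)
    rw [map_add, add_mul, mul_add, mul_add, tr_add, tr_add, tr_add, h, h] at this
    linear_combination this - tr (z * Δ y) * h2
  have lin : ∀ t y, φ t = t → Δ (t * y) = t * Δ y := fun t y ht => by rcases hF t ht with rfl | rfl <;> simp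
  obtain ⟨m, hm⟩ := exists_indep (one_ne_zero (α := K))
  obtain ⟨n, hn⟩ := exists_tr hm (map_one φ)
  rw [mul_comm] at hn
  have dec : ∀ x, ∃ r s t, φ r = r ∧ φ s = s ∧ φ t = t ∧ x = r * 1 + s * m + t * n := fun x =>
    ⟨_, _, _, φ_tr _, φ_tr _, φ_tr _, by have := cramer 1 m n x; rwa [hn, one_mul] at this⟩
  have z3 : ∀ w, tr (1 * w) = 0 → tr (m * w) = 0 → tr (n * w) = 0 → w = 0 := fun w a b c =>
    eq_zero_of_tr fun z => by
      obtain ⟨r, s, t, hr, hs, ht, rfl⟩ := dec z
      rw [mul_add, mul_add, tr_add, tr_add, mul_left_comm, mul_left_comm w s, mul_left_comm w t, tr_smul hr,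
        tr_smul hs, tr_smul ht, mul_comm w, mul_comm w, mul_comm w, a, b, c]; ring
  obtain ⟨κ, hκ⟩ : ∃ κ, ∀ x y, tr (x * (Δ y - cr y κ)) = tr (x * Δ y) - (tr (m * Δ 1) * tr (x * wg y n) +
      tr (n * Δ 1) * tr (x * wg y m) + tr (n * Δ m) * tr (x * wg y 1)) :=
    ⟨tr (m * Δ 1) * n + tr (n * Δ 1) * m + tr (n * Δ m) * 1, fun x y => by
      rw [mul_sub, tr_sub, cr_add, cr_add, cr_smul (φ_tr _), cr_smul (φ_tr _), cr_smul (φ_tr _), mul_add, mul_add,
        tr_add, tr_add, mul_left_comm x, mul_left_comm x, mul_left_comm x, tr_smul (φ_tr _), tr_smul (φ_tr _),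
        tr_smul (φ_tr _), cr_eq_wg h2, cr_eq_wg h2, cr_eq_wg h2]⟩
  have w1 : ∀ x y : K, tr (x * wg y y) = 0 := fun x y => by kunf; ring
  have w2 : tr (1 * wg m n) = 1 := by kunf at hn ⊢; linear_combination hn
  have w3 : tr (m * wg n 1) = 1 := by kunf at hn ⊢; linear_combination hn
  have w4 : tr (1 * wg n m) = -1 := by kunf at hn ⊢; linear_combination -hn
  have w5 : tr (m * wg 1 n) = -1 := by kunf at hn ⊢; linear_combination -hn
  have w6 : tr (n * wg m 1) = -1 := by kunf at hn ⊢; linear_combination -hn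
  have z : ∀ y, y = 1 ∨ y = m ∨ y = n → Δ y - cr y κ = 0 := fun y hy => by
    rcases hy with e | e | e <;> rw [e] <;> refine z3 _ ?_ ?_ ?_ <;>
      simp only [hκ, w1, w2, w3, w4, w5, w6, hn, tr_wg, tr_wg', h, sy 1 m, sy 1 n, sy m n] <;> grind
  refine ⟨κ, fun y => ?_⟩
  obtain ⟨r, s, t, hr, hs, ht, rfl⟩ := dec y
  rw [map_add, map_add, lin _ _ hr, lin _ _ hs, lin _ _ ht, add_cr, add_cr, smul_cr hr, smul_cr hs, smul_cr ht]
  linear_combination r * z 1 (by simp) + s * z m (by simp) + t * z n (by simp)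

end Cfsg.Agent.D3.NS
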