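import Cfsg.Agent.D3.N1
import Cfsg.Agent.D3.A

/-! Automorphisms of the Sylow subgroup of `³D₄(q)` keeping `Q₁`. -/

set_option autoImplicit false
set_option linter.unusedSectionVars false

open Equiv

namespace Cfsg.Agent.D3.NS

open Cfsg.Fus Cfsg.FusionSystem U

variable {K : Type*} [Field K] [TF K] [Finite K] {σ τ : Perm (U K)}

/-- automorphisms keeping `Q₁` -/
def GG (K : Type*) [Field K] [TF K] : Subgroup (Perm (U K)) := autStab ⊤ ⊓ setStab Q1

theorem hm (h : σ ∈ GG K) (x y : U K) : σ (x * y) = σ x * σ y := h.1.1 trivial trivial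

theorem hcm (h : σ ∈ GG K) (g x : U K) : σ (cm g x) = cm (σ g) (σ x) := by
  rw [cm, cm, hm h, h.1.1.map_conj trivial trivial, h.1.1.map_inv trivial]

theorem hcm' (h : σ ∈ GG K) (g x : U K) : cm g (σ x) = σ (cm (σ⁻¹ g) x) := by rw [hcm h]; simp

theorem kQ1 (h : σ ∈ GG K) {x : U K} (hx : x ∈ Q1) : σ x ∈ Q1 := (h.2 x).2 hx

theorem kZ (h : σ ∈ GG K) {x : U K} (hx : x ∈ sZ K) : σ x ∈ sZ K := mem_Z_of_comm fun w _ => by
  obtain ⟨w, rfl⟩ := σ.surjective w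
  rw [← hm h, ← hm h, comm_Z w hx]

theorem kZ2 (h : σ ∈ GG K) {x : U K} (hx : x ∈ sZ2 K) : σ x ∈ sZ2 K := by
  have H : ∀ g, cm g (σ x) ∈ sZ K := fun g => hcm' h g x ▸ kZ h (cm_Z' _ hx)
  generalize σ x = y at H
  have a : y.a = 0 := by simpa [cm_c, XB] using (H (XB 1 (map_one _))).2.2.1
  have b : y.b = 0 := by simpa [cm_c, XA] using (H (XA 1)).2.2.1
  have c : y.c = 0 := eq_zero_of_cr fun t => by simpa [cm_d, XA, a, b, cr_comm] using (H (XA t)).2.2.2.1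
  exact ⟨a, b, c, eq_zero_of_tr fun t => by simpa [cm_e_W _ a b c, XA, mul_comm] using (H (XA t)).2.2.2.2⟩

theorem kQ2 (h : σ ∈ GG K) {x : U K} (hx : x ∈ Q2) : σ x ∈ Q2 := mem_Q2_of_comm (by
  rw [← perm_apply_inv_self σ (XE _ _), ← hm h, ← hm h, comm_Z2 hx (kZ2 ((GG K).inv_mem h) (XE_mem _ _))])

theorem kD (h : σ ∈ GG K) {x : U K} (hx : x ∈ sD K) : σ x ∈ sD K := ⟨kQ1 h hx.1, kQ2 h hx.2⟩

theorem kW (h : σ ∈ GG K) {x : U K} (hx : x ∈ sW K) : σ x ∈ sW K := by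
  obtain ⟨a, b⟩ := kD h (W_D hx)
  refine ⟨a, b, eq_zero_of_cr fun t => ?_⟩
  have : cm (XA t) (σ x) ∈ sZ2 K := hcm' h (XA t) x ▸ kZ2 h (cm_Z2' _ hx)
  simpa [cm_d, XA, a, b, cr_comm] using this.2.2.2

theorem eqa (h : σ ∈ GG K) {x y : U K} (e : x.a = y.a) : (σ x).a = (σ y).a := by
  have : (σ (x⁻¹ * y)).a = 0 := kQ1 h (by simp [mem_Q1, e])
  rw [← mul_inv_cancel_left x y, hm h, mul_a, this, add_zero]

theorem eqb (h : σ ∈ GG K) {x y : U K} (e : x.b = y.b) : (σ x).b = (σ y).b := by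
  have : (σ (x⁻¹ * y)).b = 0 := kQ2 h (by simp [mem_Q2, e])
  rw [← mul_inv_cancel_left x y, hm h, mul_b, this, add_zero]

theorem eqc (h : σ ∈ GG K) {x y : U K} (hx : x ∈ sD K) (hy : y ∈ sD K) (e : x.c = y.c) : (σ x).c = (σ y).c := by
  obtain ⟨a, -, c⟩ := kW h (x := x⁻¹ * y) (by simp [mem_sW, e, hx.1, hx.2, hy.1, hy.2])
  rw [← mul_inv_cancel_left x y, hm h, mul_c, a, c]; simp

theorem eqd (h : σ ∈ GG K) {x y : U K} (hx : x ∈ sD K) (hy : y ∈ sD K) (e : x.c = y.c) (e' : x.d = y.d) :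
    (σ x).d = (σ y).d := by
  obtain ⟨a, -, -, d⟩ := kZ2 h (x := x⁻¹ * y) (by simp [mem_sZ2, mul_d', inv_d, e, e', hx.1, hx.2, hy.1, hy.2])
  rw [← mul_inv_cancel_left x y, hm h, mul_d', a, d]; simp

theorem eqe (h : σ ∈ GG K) {x y : U K} (hx : x ∈ sZ2 K) (hy : y ∈ sZ2 K) (e : x.e = y.e) :
    (σ x).e = (σ y).e := by
  obtain ⟨x1, x2, x3, x4⟩ := hx
  obtain ⟨y1, y2, y3, y4⟩ := hy
  obtain ⟨a, -, -, -, d⟩ := kZ h (x := x⁻¹ * y) (by simp [mem_sZ, mul_d', inv_d, mul_e', inv_e, *])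
  rw [← mul_inv_cancel_left x y, hm h, mul_e', a, d]; simp

def fA (σ : Perm (U K)) (t : K) : K := (σ (XA t)).a
def fD (σ : Perm (U K)) (t : K) : K := (σ (XD t)).d
def fu (σ : Perm (U K)) : K := (σ (XB 1 (map_one _))).b

theorem ha (h : σ ∈ GG K) (x : U K) : (σ x).a = fA σ x.a := eqa h rfl
theorem hd (h : σ ∈ GG K) {x : U K} (hx : x ∈ sW K) : (σ x).d = fD σ x.d :=
  eqd h (W_D hx) (W_D (XD_mem _)) hx.2.2 rfl

theorem fA_add (h : σ ∈ GG K) (s t : K) : fA σ (s + t) = fA σ s + fA σ t := by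
  have := ha h (XA s * XA t)
  rw [hm h, mul_a] at this
  exact this.symm

theorem fD_add (h : σ ∈ GG K) (s t : K) : fD σ (s + t) = fD σ s + fD σ t := by
  have := hd h ((sW K).mul_mem (XD_mem s) (XD_mem t))
  rw [hm h, mul_d', (kW h (XD_mem t)).1, mul_d'] at this
  simpa [XD, fD] using this.symm

theorem fA_mul (h : σ ∈ GG K) (τ : Perm (U K)) (t : K) : fA (σ * τ) t = fA σ (fA τ t) := ha h _
theorem fD_mul (h : σ ∈ GG K) (h' : τ ∈ GG K) (t : K) : fD (σ * τ) t = fD σ (fD τ t) := hd h (kW h' (XD_mem t))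

theorem fA_ne (h : σ ∈ GG K) {t : K} (ht : t ≠ 0) : fA σ t ≠ 0 := fun e => ht ((h.2 (XA t)).1 e)

theorem fA_inj (h : σ ∈ GG K) : Function.Injective (fA σ) :=
  (injective_iff_map_eq_zero (AddMonoidHom.mk' (fA σ) (fA_add h))).2 fun _ e => by_contra fun c => fA_ne h c e

theorem fA_surj (h : σ ∈ GG K) : Function.Surjective (fA σ) := Finite.injective_iff_surjective.1 (fA_inj h)

theorem fu_ne (h : σ ∈ GG K) : fu σ ≠ 0 := fun e => by
  have := kQ2 ((GG K).inv_mem h) (x := σ (XB 1 (map_one _))) e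
  simp [mem_Q2, XB] at this

theorem fu_fix (σ : Perm (U K)) : φ (fu σ) = fu σ := U.hb _

theorem r1 (h : σ ∈ GG K) (a : K) {b : K} (hb : φ b = b) : (σ (XC (a * b))).c = fA σ a * (σ (XB b hb)).b := by
  rw [eqc h (XC_mem _) (cm_D (XB b hb) (XA a)) (by simp [cm_c, XA, XB, XC]), hcm h, cm_c,
    mem_Q1.1 (kQ1 h (XB_mem b hb))]
  simp [fA]

theorem hc (h : σ ∈ GG K) (a : K) : (σ (XC a)).c = fA σ a * fu σ := by simpa [fu] using r1 h a (map_one _)

theorem hb (h : σ ∈ GG K) (x : U K) : fA σ 1 * (σ x).b = fu σ * fA σ x.b := by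
  rw [eqb h (x := x) (y := XB x.b x.hb) rfl, ← r1 h, hc h, one_mul, mul_comm]

theorem sA (h : σ ∈ GG K) {t : K} (ht : φ t = t) (a : K) : fA σ 1 * fA σ (t * a) = fA σ t * fA σ a := by
  have e1 := r1 h a ht
  have e2 := hb h (XB t ht)
  rw [hc h, mul_comm a] at e1
  exact mul_left_cancel₀ (fu_ne h) (by simp only [XB] at e1 e2; linear_combination fA σ 1 * e1 + fA σ a * e2)

theorem fix_div' (h : σ ∈ GG K) {t : K} (ht : φ t = t) : φ (fA σ t / fA σ 1) = fA σ t / fA σ 1 := by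
  have := hb h (XB t ht)
  rw [show fA σ t / fA σ 1 = (σ (XB t ht)).b / fu σ by
    rw [div_eq_div_iff (fA_ne h one_ne_zero) (fu_ne h)]; simp only [XB] at this ⊢; linear_combination -this]
  exact fix_div (U.hb _) (fu_fix σ)

theorem r2 (h : σ ∈ GG K) (a c : K) : fD σ (cr a c) = fu σ * cr (fA σ a) (fA σ c) := by
  have := hd h (cm_W (XC_mem c) (XA a))
  rw [hcm h, cm_d_D (kD h (XC_mem c)).1 (kD h (XC_mem c)).2, cm_d_D rfl rfl, hc h, mul_comm,
    cr_smul (fu_fix σ)] at this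
  exact this.symm

theorem sD' (h : σ ∈ GG K) {t : K} (ht : φ t = t) (d : K) : fD σ (t * d) = fA σ t / fA σ 1 * fD σ d := by
  obtain ⟨m, hm⟩ := exists_indep (one_ne_zero (α := K))
  obtain ⟨r, s, rfl⟩ := cr_add_cr hm d
  have e : ∀ c, fA σ (t * c) = fA σ t / fA σ 1 * fA σ c := fun c => by
    rw [div_mul_eq_mul_div, ← sA h ht, mul_div_cancel_left₀ _ (fA_ne h one_ne_zero)]
  rw [mul_add, ← cr_smul ht, ← cr_smul ht, fD_add h, fD_add h, r2 h, r2 h, r2 h, r2 h, e, e,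
    cr_smul (fix_div' h ht), cr_smul (fix_div' h ht)]
  ring

theorem r3 (h : σ ∈ GG K) : ∃ e, e ≠ 0 ∧ φ e = e ∧
    ∀ a d, tr (fA σ a * fD σ d) = e * (fA σ (tr (a * d)) / fA σ 1) := by
  have k : ∀ a d, (σ (cm (XD d) (XA a))).e = tr (fA σ a * fD σ d) := fun a d => by
    obtain ⟨x, y, z⟩ := kW h (XD_mem d)
    rw [hcm h, cm_e_D x y, z]; simp [fA, fD]
  obtain ⟨d0, h0⟩ := exists_tr (one_ne_zero (α := K)) (map_one φ)
  have key : ∀ a d, tr (fA σ a * fD σ d) = tr (fA σ 1 * fD σ d0) * (fA σ (tr (a * d)) / fA σ 1) := fun a d => by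
    rw [← k, eqe h (cm_Z2 (XD_mem d) _) (cm_Z2 (XD_mem (tr (a * d) * d0)) (XA 1)) (by
      rw [cm_e_D rfl rfl, cm_e_D rfl rfl]
      simp only [XA, XD, mul_zero, tr_zero, add_zero, mul_left_comm (1 : K), tr_smul (φ_tr _), h0, mul_one]),
      k, sD' h (φ_tr _), mul_left_comm, tr_smul (fix_div' h (φ_tr _)), mul_comm]
  refine ⟨_, fun e => ?_, φ_tr _, key⟩
  have : ∀ d, fD σ d = 0 := fun d => eq_zero_of_tr fun y => by
    obtain ⟨a, rfl⟩ := fA_surj h y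
    rw [mul_comm, key, e, zero_mul]
  refine fA_ne h one_ne_zero (eq_zero_of_cr fun y => ?_)
  obtain ⟨c, rfl⟩ := fA_surj h y
  exact (mul_eq_zero.1 ((r2 h 1 c).symm.trans (this _))).resolve_left (fu_ne h)

/-- the adjoint is preserved -/
def Ad (σ : Perm (U K)) : Prop := ∀ a, fD σ (ad a) = fu σ * ad (fA σ a)

theorem dec' (h : σ ∈ GG K) (h0 : Ad σ) : ∃ (s u : K) (_ : φ u = u) (γ : K ≃+* K), s ≠ 0 ∧ u ≠ 0 ∧
    ∀ x, (σ x).a = s * γ x.a ∧ (σ x).b = u * γ x.b := by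
  obtain ⟨e, e0, e1, e2⟩ := r3 h
  have s0 := fA_ne h one_ne_zero
  have u0 := fu_ne h
  have a0 := ad_ne_zero s0
  have n0 := nm_ne_zero s0
  let A : K →+ K := AddMonoidHom.mk' (fun t => fA σ t / fA σ 1) fun s t => by simp only [fA_add h, add_div]
  let D : K →+ K := AddMonoidHom.mk' (fun t => fD σ t / (fu σ * ad (fA σ 1))) fun s t => by
    simp only [fD_add h, add_div]
  have hA : ∀ t, fA σ t = fA σ 1 * A t := fun t => (mul_div_cancel₀ _ s0).symm
  have hD : ∀ t, D t = fD σ t / (fu σ * ad (fA σ 1)) := fun _ => rfl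
  have inj : Function.Injective A := fun s t e => fA_inj h (by rw [hA s, hA t, e])
  have mul := mul_of_cr A D (e := e / (fu σ * nm (fA σ 1))) (div_ne_zero e0 (mul_ne_zero u0 n0))
    (fix_div e1 (by rw [map_mul, fu_fix, φ_nm])) inj (div_self s0) (fun t => fix_div' h)
    (fun t a ht => mul_left_cancel₀ (mul_ne_zero s0 s0) (by
      have := sA h ht a
      rw [hA (t * a), hA t, hA a] at this; linear_combination this))
    (fun t a ht => by rw [hD, hD, sD' h ht, mul_div_assoc]; rfl)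
    (fun a c => by rw [hD, r2 h, hA a, hA c, cr_mul]; field_simp)
    (fun a => by rw [hD, h0, hA a, ad_mul]; field_simp) fun a d => by
      have := e2 a d
      rw [hA a, show fA σ 1 * A a * fD σ d = fu σ * nm (fA σ 1) * (A a * D d) by
        rw [hD, ← mul_ad]; field_simp, tr_smul (by rw [map_mul, fu_fix, φ_nm])] at this
      rw [div_mul_eq_mul_div, eq_div_iff (mul_ne_zero u0 n0), mul_comm]
      exact this
  let γ : K →+* K := { A with map_one' := div_self s0, map_mul' := mul }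
  exact ⟨_, _, fu_fix σ, RingEquiv.ofBijective γ (Finite.injective_iff_bijective.1 inj), s0, u0, fun x =>
    ⟨(ha h x).trans (hA _), mul_left_cancel₀ s0 (by rw [hb h, hA x.b, mul_left_comm]; rfl)⟩⟩

theorem r4 (h : σ ∈ GG K) (a : K) {b : K} (hb : φ b = b) : (σ (XC (a * b))).d + fD σ (ad a * b) =
    cr (fA σ a) (σ (XB b hb)).c + ad (fA σ a) * (σ (XB b hb)).b := by
  have := eqd h (cm_D (XB b hb) (XA a)) ((sD K).mul_mem (XC_mem (a * b)) (W_D (XD_mem (ad a * b))))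
    (by simp [cm_c, XA, XB, XC, XD]) (by simp [cm_d, mul_d', XA, XB, XC, XD])
  rw [hcm h, hm h, mul_d', (kW h (XD_mem _)).1, cm_d, mem_Q1.1 (kQ1 h (XB_mem b hb))] at this
  simpa [fA, fD] using this.symm

theorem ad_big (h : σ ∈ GG K) {t : K} (ht : φ t = t) (t0 : t ≠ 0) (t1 : t ≠ 1) : Ad σ := fun a => by
  have s0 := fA_ne h one_ne_zero
  have f := fix_div' h ht
  have eA : ∀ c, fA σ (t * c) = fA σ t / fA σ 1 * fA σ c := fun c => by
    rw [div_mul_eq_mul_div, ← sA h ht, mul_div_cancel_left₀ _ s0]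
  have eB : (σ (XB t ht)).b = fu σ * (fA σ t / fA σ 1) := by
    have := hb h (XB t ht)
    simp only [XB] at this ⊢; field_simp; linear_combination this
  have b0 : fA σ t / fA σ 1 ≠ 0 := div_ne_zero (fA_ne h t0) s0
  have b1 : fA σ t / fA σ 1 - 1 ≠ 0 := fun e => t1 (fA_inj h (by field_simp at e; linear_combination e))
  have eD := sD' h ht
  generalize fA σ t / fA σ 1 = β at *
  have key : ∀ a, (β ^ 2 - β) * (fD σ (ad a) - fu σ * ad (fA σ a)) =
      β * cr (fA σ a) (σ (XB 1 (map_one _))).c - cr (fA σ a) (σ (XB t ht)).c := fun a => by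
    have e1 := r4 h a ht
    have e2 := r4 h (t * a) (map_one _)
    rw [eB, mul_comm (ad a), eD, mul_comm a] at e1
    rw [mul_one, mul_one, ad_smul ht, sq, mul_assoc, eD, eD, eA, smul_cr f, ad_smul f] at e2
    simp only [fu] at e1 ⊢
    linear_combination e2 - e1
  have e1 := key a
  have e2 := key (t * a)
  rw [ad_smul ht, sq t, mul_assoc, eD, eD, eA, smul_cr f, smul_cr f, ad_smul f] at e2
  exact sub_eq_zero.1 (mul_left_cancel₀ (mul_ne_zero (pow_ne_zero 2 b0) (pow_ne_zero 2 b1)) (by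
    linear_combination e2 - β * e1))

end Cfsg.Agent.D3.NS
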