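import Cfsg.Agent.D3.N2
import Cfsg.Agent.D3.I
import Cfsg.Agent.H1.SchurZ

/-! Normalising the automizer of `S`. -/

set_option autoImplicit false
set_option linter.unusedSectionVars false
set_option linter.style.haveILetI false

open Equiv

namespace Cfsg.Agent.D3.NS

open Cfsg.Fus Cfsg.FusionSystem U

variable {K : Type*} [Field K] [TF K] [Finite K] {σ τ : Perm (U K)}

theorem au_au (s u s' u' : K) (hu : φ u = u) (hu' : φ u' = u') (γ δ : K ≃+* K) (x : U K) :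
    au s u hu γ (au s' u' hu' δ x) =
      au (s * γ s') (u * γ u') (by rw [map_mul, hu, φ_aut, hu']) (δ.trans γ) x := by
  ext <;> simp only [au, map_mul, map_pow, φ_aut, RingEquiv.trans_apply] <;> ring

theorem au_id {s u : K} {hu : φ u = u} {γ : K ≃+* K} (h1 : s = 1) (h2 : u = 1) (h3 : ∀ t, γ t = t) (x : U K) :
    au s u hu γ x = x := by
  ext <;> simp [au, h1, h2, h3]

theorem au_inv {s u : K} (hu' : φ u = u) (hs : s ≠ 0) (hu : u ≠ 0) (γ : K ≃+* K) (x : U K) :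
    au (γ.symm s⁻¹) (γ.symm u⁻¹) (by rw [φ_aut, map_inv₀, hu']) γ.symm (au s u hu' γ x) = x := by
  rw [au_au]
  exact au_id (by rw [← map_mul, inv_mul_cancel₀ hs, map_one]) (by rw [← map_mul, inv_mul_cancel₀ hu, map_one])
    (fun t => γ.symm_apply_apply t) x

/-- Diagonal-field automorphisms. -/
def Lam (K : Type*) [Field K] [TF K] [Finite K] : Subgroup (Perm (U K)) where
  carrier := {σ | ∃ s u hu γ, s ≠ 0 ∧ u ≠ 0 ∧ ∀ x, σ x = au s u hu γ x}
  one_mem' := ⟨1, 1, map_one _, RingEquiv.refl K, one_ne_zero, one_ne_zero, fun x =>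
    (au_id rfl rfl (fun _ => rfl) x).symm⟩
  mul_mem' := by
    rintro σ τ ⟨s, u, hu, γ, a, b, e⟩ ⟨s', u', hu', δ, a', b', e'⟩
    exact ⟨s * γ s', u * γ u', _, δ.trans γ, by simp [a, a'], by simp [b, b'], fun x => by
      rw [Perm.mul_apply, e, e', au_au]⟩
  inv_mem' := by
    rintro σ ⟨s, u, hu, γ, a, b, e⟩
    refine ⟨γ.symm s⁻¹, γ.symm u⁻¹, by rw [φ_aut, map_inv₀, hu], γ.symm, by simp [a], by simp [b], fun x => ?_⟩
    obtain ⟨x, rfl⟩ := σ.surjective x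
    rw [Perm.inv_eq_iff_eq, e x, au_inv hu a b, e]

theorem exists_Lam {s u : K} (hu' : φ u = u) (hs : s ≠ 0) (hu : u ≠ 0) (γ : K ≃+* K) :
    ∃ l ∈ Lam K, ∀ x, l x = au s u hu' γ x :=
  ⟨Equiv.ofBijective _ (Finite.injective_iff_bijective.1
    (Function.LeftInverse.injective (au_inv hu' hs hu γ))), ⟨s, u, hu', γ, hs, hu, fun _ => rfl⟩, fun _ => rfl⟩

theorem Lam_le : Lam K ≤ GG K := by
  rintro σ ⟨s, u, hu, γ, hs, -, e⟩
  exact ⟨⟨fun x _ y _ => by rw [e, e, e, au_mul], fun _ => Iff.rfl⟩, fun x => by simp [e, mem_Q1, au, hs]⟩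

theorem triv_le : trivOn (sD K) ⊤ ≤ GG K := fun σ h => ⟨h.1, fun x => by
  have := (h.2 x trivial).1
  simp only [mul_a, inv_a] at this
  rw [mem_Q1, mem_Q1, show (σ x).a = x.a by linear_combination this]⟩

theorem Lam_disj : trivOn (sD K) ⊤ ⊓ Lam K = ⊥ := by
  refine eq_bot_iff.2 ?_
  rintro σ ⟨h, s, u, hu, γ, -, -, e⟩
  have h1 : ∀ t, s * γ t = t := fun t => by
    have := (h.2 (XA t) trivial).1
    rw [e] at this
    simp only [mul_a, inv_a, au, XA] at this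
    linear_combination this
  have h2 := (h.2 (XB 1 (map_one _)) trivial).2
  rw [e] at h2
  simp only [mul_b, inv_b, au, XB, map_one, mul_one] at h2
  have hs : s = 1 := by simpa using h1 1
  exact Equiv.ext fun x => (e x).trans (au_id hs (by linear_combination h2) (fun t => by simpa [hs] using h1 t) x)

theorem norm_triv (h : σ ∈ GG K) : σ ∈ Subgroup.normalizer (trivOn (sD K) ⊤ : Set (Perm (U K))) :=
  mem_normalizer_of_finite fun _ hτ => conj_mem_trivOn hτ h.1 fun _ hx _ => kD h hx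

theorem innS_conj {ρ : Perm (U K)} (hσ : σ ∈ innS ⊤ ⊤) (hρ : ρ ∈ autStab ⊤) :
    ρ * σ * ρ⁻¹ ∈ innS (⊤ : Subgroup (U K)) ⊤ := by
  obtain ⟨g, hg, e⟩ := mem_innS_self.1 hσ
  refine mem_innS_self.2 ⟨ρ g, trivial, fun x _ => ?_⟩
  rw [Perm.mul_apply, Perm.mul_apply, e _ trivial, hρ.1.map_conj trivial trivial]
  simp

theorem D_le_comm : sD K ≤ commutator (U K) := by
  have h0 : ∀ g x : U K, cm g x ∈ commutator (U K) := fun g x => cm_mem_comm (E := ⊤) trivial trivial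
  have k : ∀ w u : U K, w ∈ commutator (U K) → w⁻¹ * u ∈ commutator (U K) →
      u ∈ commutator (U K) := fun w u a b => by simpa using mul_mem a b
  have h1 : sZ K ≤ commutator (U K) := fun z hz => by
    obtain ⟨t, e⟩ := exists_cm_Z hz
    exact e ▸ h0 _ _
  have h2 : sZ2 K ≤ commutator (U K) := fun u hu => by
    obtain ⟨t, ht⟩ := exists_tr (one_ne_zero (α := K)) u.he
    obtain ⟨c1, c2, c3, c4⟩ := cm_Z2 (XD_mem t) (XA 1)
    have c5 : (cm (XD t) (XA 1)).e = u.e := by rw [cm_e_D rfl rfl]; simpa [XA, XD] using ht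
    refine k _ u (h0 (XD t) (XA 1)) (h1 ?_)
    simp [mem_sZ, mul_d', mul_e', inv_d, inv_e, c3, c4, c5, hu.1, hu.2.1, hu.2.2.1, hu.2.2.2]
  have h3 : sW K ≤ commutator (U K) := fun u hu => by
    obtain ⟨m, hm⟩ := exists_indep (one_ne_zero (α := K))
    obtain ⟨r, s, e⟩ := cr_add_cr hm u.d
    refine k _ u (mul_mem (h0 (XC r) (XA 1)) (h0 (XC s) (XA m))) (h2 ?_)
    simp [mem_sZ2, mul_d', inv_d, cm_c, cm_d, XA, XC, hu.1, hu.2.1, hu.2.2, e]
  intro u hu
  refine k _ u (h0 (XB 1 (map_one _)) (XA u.c)) (h3 ?_)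
  simp [mem_sW, cm_c, hu.1, hu.2, XA, XB]

theorem isP_triv (p : ℕ) [Fact p.Prime] [CharP K p] : IsPGroup p (trivOn (sD K) ⊤) := fun σ => by
  have hp := isPGroup_U (K := K) p
  obtain ⟨k, hk⟩ := H1.aut_pow_eq_one_of_frattini hp
    (MulEquiv.mk' σ.1 fun x y => σ.2.1.1 trivial trivial) fun x =>
      H1.commutator_le_frattini_of_isPGroup hp (D_le_comm (σ.2.2 x trivial))
  have := congrArg (MulAut.toPerm (U K)) hk
  rw [map_pow, map_one] at this
  exact ⟨k, Subtype.ext this⟩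

section small
variable (hF : ∀ t : K, φ t = t → t = 0 ∨ t = 1)
include hF

theorem two0 : (2 : K) = 0 := by
  rcases hF (-1) (by simp) with e | e
  · simp at e
  · linear_combination -e

theorem fu_one (h : σ ∈ GG K) : fu σ = 1 := (hF _ (fu_fix σ)).resolve_left (fu_ne h)

theorem exists_ka (σ : Perm (U K)) : ∃ κ, σ ∈ GG K → ∀ a, fD σ (ad a) = ad (fA σ a) + cr (fA σ a) κ := by
  by_cases h : σ ∈ GG K
  swap
  · exact ⟨0, fun c => absurd c h⟩
  have h2 := two0 hF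
  obtain ⟨e, e0, e1, e2⟩ := r3 h
  obtain rfl := (hF e e1).resolve_left e0
  let A := Equiv.ofBijective _ ⟨fA_inj h, fA_surj h⟩
  have hA : ∀ y, fA σ (A.symm y) = y := A.apply_symm_apply
  have A0 : fA σ 0 = 0 := (AddMonoidHom.mk' (fA σ) (fA_add h)).map_zero
  obtain ⟨κ, hκ⟩ := alt_cr hF (AddMonoidHom.mk' (fun y => fD σ (ad (A.symm y)) - ad y) fun y z => by
    rw [show A.symm (y + z) = A.symm y + A.symm z from fA_inj h (by rw [fA_add h, hA, hA, hA]), ad_add, ad_add,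
      fD_add h, fD_add h, r2 h, fu_one hF h, hA, hA]
    ring) fun y => by
      obtain ⟨a, rfl⟩ := A.surjective y
      simp only [AddMonoidHom.mk'_apply, A.symm_apply_apply]
      change tr (fA σ a * (_ - ad (fA σ a))) = 0
      rw [mul_sub, tr_sub, e2, mul_ad, mul_ad, tr_fix (φ_nm _), tr_fix (φ_nm _)]
      by_cases c : a = 0
      · simp [c, A0]
      · rw [(hF _ (φ_nm _)).resolve_left (nm_ne_zero c), (hF _ (φ_nm _)).resolve_left (nm_ne_zero (fA_ne h c)),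
          show (3 : K) * 1 = 1 by linear_combination h2, div_self (fA_ne h one_ne_zero)]
        ring
  refine ⟨κ, fun _ a => ?_⟩
  have := hκ (A a)
  simp only [AddMonoidHom.mk'_apply, A.symm_apply_apply] at this
  exact sub_eq_iff_eq_add'.1 this

theorem small {H : Subgroup (Perm (U K))} (hH : H ≤ GG K) (ho : Odd (Nat.card H)) :
    ∃ ω ∈ GG K, ∀ h ∈ H, Ad (ω * h * ω⁻¹) := by
  have h2 := two0 hF
  choose κ hκ using exists_ka hF
  have co : ∀ σ ∈ GG K, ∀ τ ∈ GG K, κ (σ * τ) = κ σ + fA σ (κ τ) := fun σ h τ h' =>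
    sub_eq_zero.1 (eq_zero_of_cr fun y => by
      obtain ⟨a, rfl⟩ := fA_surj ((GG K).mul_mem h h') y
      have e := hκ _ ((GG K).mul_mem h h') a
      rw [fD_mul h h', hκ τ h', fD_add h, hκ σ h, r2 h, fu_one hF h, ← fA_mul h] at e
      rw [cr_comm, cr_sub, cr_add]
      linear_combination -e)
  have ad0 : ∀ σ ∈ GG K, κ σ = 0 → Ad σ := fun σ h e a => by rw [hκ σ h, e, fu_one hF h]; simp
  have k1 : κ 1 = 0 := by
    have := co 1 (one_mem _) 1 (one_mem _)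
    simpa [fA, XA] using this
  haveI := Fintype.ofFinite H
  have fx : ∀ g ∈ H, κ g + fA g (∑ h : H, κ h) = ∑ h : H, κ h := fun g hg => by
    have e : fA g (∑ h : H, κ h) = ∑ h : H, fA g (κ h) := map_sum (AddMonoidHom.mk' (fA g) (fA_add (hH hg))) _ _
    have e2 : ∑ h : H, κ h = ∑ h : H, κ (g * h) := (Equiv.sum_comp (Equiv.mulLeft (⟨g, hg⟩ : H)) fun h => κ h).symm
    obtain ⟨m, hm⟩ := ho
    rw [e, e2]
    simp only [fun h : H => co g (hH hg) h (hH h.2), Finset.sum_add_distrib, Finset.sum_const, Finset.card_univ,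
      ← Nat.card_eq_fintype_card, hm, nsmul_eq_mul]
    push_cast
    linear_combination -(m : K) * κ g * h2
  obtain ⟨ρ, hρ, e⟩ : ∃ ρ ∈ GG K, κ ρ = ∑ h : H, κ h := by
    by_cases c : ∑ h : H, κ h = 0
    · exact ⟨1, one_mem _, k1.trans c.symm⟩
    obtain ⟨h, -, h0⟩ := Finset.exists_ne_zero_of_sum_ne_zero c
    obtain ⟨l, l1, l2⟩ := exists_Lam (map_one φ) (div_ne_zero c h0) one_ne_zero (RingEquiv.refl K)
    have kl : κ l = 0 := eq_zero_of_cr fun y => by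
      obtain ⟨a, rfl⟩ := fA_surj (Lam_le l1) y
      have := hκ l (Lam_le l1) a
      simp only [fA, fD, l2, au, XA, XD, RingEquiv.refl_apply, ad_mul] at this ⊢
      rw [cr_comm]
      simp only [ad] at this
      linear_combination -this
    refine ⟨l * h, mul_mem (Lam_le l1) (hH h.2), ?_⟩
    rw [co l (Lam_le l1) h (hH h.2), kl, zero_add]
    simp only [fA, l2, au, XA, RingEquiv.refl_apply]
    exact div_mul_cancel₀ _ h0
  have hρ' := (GG K).inv_mem hρ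
  refine ⟨ρ⁻¹, hρ', fun h hh => ad0 _ (mul_mem (mul_mem hρ' (hH hh)) (inv_mem hρ')) ?_⟩
  rw [inv_inv, mul_assoc, co _ hρ' _ (mul_mem (hH hh) hρ), co _ (hH hh) _ hρ, e, fx h hh, ← e, ← co _ hρ' _ hρ,
    inv_mul_cancel, k1]

end small

theorem exists_ad (p : ℕ) [hp : Fact p.Prime] [CharP K p] {H : Subgroup (Perm (U K))} (hH : H ≤ GG K)
    (ho : (Nat.card H).Coprime p) : ∃ ω ∈ GG K, ∀ h ∈ H, Ad (ω * h * ω⁻¹) := by
  by_cases hF : ∀ t : K, φ t = t → t = 0 ∨ t = 1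
  · obtain rfl : p = 2 := (Nat.prime_dvd_prime_iff_eq hp.out Nat.prime_two).1
      ((CharP.cast_eq_zero_iff K p 2).1 (by exact_mod_cast two0 hF))
    exact small hF hH (Nat.coprime_two_right.1 ho)
  · push Not at hF
    obtain ⟨t, h1, h2, h3⟩ := hF
    exact ⟨1, one_mem _, fun h hh => ad_big (by simpa using hH hh) h1 h2 h3⟩

theorem exists_conj (p : ℕ) [hp : Fact p.Prime] [CharP K p] {H : Subgroup (Perm (U K))} (hH : H ≤ GG K)
    (ho : (Nat.card H).Coprime p) : ∃ ω ∈ GG K, ∀ h ∈ H, ω * h * ω⁻¹ ∈ Lam K := by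
  obtain ⟨ρ, hρ, h0⟩ := exists_ad p hH ho
  have hN := isP_triv (K := K) p
  obtain ⟨l, hl⟩ := hN.exists_card_eq
  let D := H.map (MulAut.conj ρ).toMonoidHom
  have hD : (Nat.card D).Coprime (Nat.card (trivOn (sD K) ⊤)) := by
    rw [hl, Subgroup.card_map_of_injective (MulAut.conj ρ).injective]; exact ho.pow_right l
  have dG : ∀ σ ∈ D, σ ∈ GG K ∧ Ad σ := by
    rintro _ ⟨h, hh, rfl⟩
    exact ⟨mul_mem (mul_mem hρ (hH hh)) (inv_mem hρ), h0 h hh⟩
  have hDn : D ≤ Subgroup.normalizer (trivOn (sD K) ⊤ : Set (Perm (U K))) := fun σ hσ => norm_triv (dG σ hσ).1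
  obtain ⟨ω, hω, hc⟩ := H1.exists_conj_le_of_le_sup (N := trivOn (sD K) ⊤)
    (H := Lam K ⊓ (D ⊔ trivOn (sD K) ⊤)) (K := D) (fun σ hσ => norm_triv (Lam_le hσ.1))
    (fun σ hσ => by
      obtain ⟨s, u, hu', γ, hs, hu, e⟩ := dec' (dG σ hσ).1 (dG σ hσ).2
      obtain ⟨l, l1, l2⟩ := exists_Lam hu' hs hu γ
      have h2 : σ * l⁻¹ ∈ trivOn (sD K) ⊤ :=
        ⟨mul_mem (dG σ hσ).1.1 (inv_mem (Lam_le l1).1), fun x _ => by
          obtain ⟨x, rfl⟩ := l.surjective x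
          rw [Perm.mul_apply, Perm.inv_def, l.symm_apply_apply, l2]
          constructor <;> simp [au, e]⟩
      rw [← inv_mul_cancel_right σ l]
      refine mul_mem (Subgroup.mem_sup_right h2) (Subgroup.mem_sup_left ⟨l1, ?_⟩)
      simpa using mul_mem (inv_mem (Subgroup.mem_sup_right h2)) (Subgroup.mem_sup_left hσ))
    (by
      have := H1.relIndex_dvd_card_of_le_sup hDn (inf_le_right : Lam K ⊓ (D ⊔ trivOn (sD K) ⊤) ≤ _)
      rw [← Subgroup.inf_relIndex_right, ← inf_assoc, Lam_disj, bot_inf_eq,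
        Subgroup.relIndex_bot_left] at this
      exact hD.coprime_dvd_left this) hD (Or.inl (H1.IsPGroup.isSolvable hN))
  refine ⟨ω * ρ, mul_mem (triv_le hω) hρ, fun h hh => ?_⟩
  have := (hc (Subgroup.smul_mem_pointwise_smul _ _ _ (⟨h, hh, rfl⟩ : ρ * h * ρ⁻¹ ∈ D))).1
  rwa [MulAut.smul_def, MulAut.conj_apply, show ω * (ρ * h * ρ⁻¹) * ω⁻¹ = ω * ρ * h * (ω * ρ)⁻¹ by group] at this

theorem exists_std {K : Type} [Field K] [TF K] [Finite K] {p : ℕ} [hp : Fact p.Prime] [CharP K p]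
    {F : FusionSystem (⊤ : Subgroup (U K))} (hF : F.IsSaturated p) (e1 : F.IsEssential p Q1)
    (e2 : F.IsEssential p Q2) (hq : ∀ α, F.Iso ⊤ ⊤ α → ∀ x ∈ Q1, α x ∈ Q1) :
    ∃ F' : FusionSystem (⊤ : Subgroup (U K)), Std p F' ∧ (F'.IsRealizable p → F.IsRealizable p) := by
  have hb : ∀ σ ∈ fixP (⊤ : Subgroup (U K)), σ = 1 := fun σ h => Equiv.ext fun x => h x trivial
  have hI : IsPGroup p (innS (⊤ : Subgroup (U K)) ⊤) := fun σ =>
    (isPMod_innS (topP p) ⊤ σ.1 σ.2).imp fun k h => Subtype.ext (hb (σ.1 ^ p ^ k) h)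
  have h1 := ((F.finMod_stab le_rfl).sylMod_iff_not_dvd (inf_le_left.trans (fixP_le_innS _ _))).1
    (isFullyAutomized_iff_sylMod.1 (F.isFullyNormalized_top.isFullyAutomized hF (topP p))).2
  have hn : F.stab ⊤ ≤ Subgroup.normalizer (innS (⊤ : Subgroup (U K)) ⊤ : Set (Perm (U K))) :=
    fun σ hσ => mem_normalizer_of_finite fun x hx => innS_conj hx (F.stab_le_autStab _ hσ)
  obtain ⟨k, hk⟩ := hI.exists_card_eq
  have ho := (hp.out.coprime_iff_not_dvd).2 h1.2.2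
  obtain ⟨D, d1, d2, -, d3⟩ := H1.exists_complement_rel h1.1 hn (hk ▸ ho.pow_left k)
  obtain ⟨ω, hω, hc⟩ := exists_conj p (H := D) (fun σ hσ =>
    ⟨F.stab_le_autStab _ (d1 hσ), mem_setStab_of_finite (hq σ ((mem_stab le_rfl).1 (d1 hσ)))⟩) (d3 ▸ ho.symm)
  have t0 : L.PIso ⊤ ⊤ ω ⇑ω⁻¹ :=
    ⟨hω.1.1, fun _ _ => trivial, fun _ _ => trivial, fun x _ => ω.symm_apply_apply x,
      fun x _ => ω.apply_symm_apply x⟩
  obtain ⟨F', t⟩ := t0.exists_transp le_rfl F t0.img_self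
  have im : ∀ Q : Subgroup (U K), (∀ x ∈ Q, ω x ∈ Q) → img ω Q = Q := fun Q h =>
    ((hω.1.1.mem_setStab_iff le_top).1 (mem_setStab_of_finite h))
  refine ⟨F', ⟨t.isSaturated hF, im _ (fun _ => kQ1 hω) ▸ t.isEssential e1,
    im _ (fun _ => kQ2 hω) ▸ t.isEssential e2, fun σ hσ => ?_⟩, t.symm.isRealizable'⟩
  have h2 : F.Iso ⊤ ⊤ (ω⁻¹ * σ * ω) := IsMap.iso_self
    (by have := t.map' hσ.isMap; rw [t.img_eq'] at this; exact this) fun _ _ => trivial
  have h3 := h2.mem_stab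
  rw [← d2, ← SetLike.mem_coe, Subgroup.coe_mul_of_left_le_normalizer_right _ _ (d1.trans hn)] at h3
  obtain ⟨d, hd, i, hi, e⟩ := h3
  have h4 := hc d hd
  obtain ⟨g, -, e2⟩ := mem_innS_self.1 (innS_conj (innS_conj hi hω.1) (Lam_le h4).1)
  obtain ⟨s, u, hu', γ, hs, hu, e'⟩ := h4
  refine ⟨g, s, u, hu', γ, hs, hu, fun x => ?_⟩
  rw [← e', ← e2 _ trivial, ← Perm.mul_apply, show i = d⁻¹ * (ω⁻¹ * σ * ω) from eq_inv_mul_of_mul_eq e]
  congr 1
  group

instance instNN : NN := ⟨exists_std⟩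

end Cfsg.Agent.D3.NS
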