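import Cfsg.Agent.D3.A

/-! Quadratic offenders on an essential subgroup: the sharp form. -/

set_option autoImplicit false
set_option linter.unusedSectionVars false
set_option linter.style.haveILetI false

open Equiv
open scoped commutatorElement

namespace Cfsg.Agent.D3

open Cfsg.Fus Cfsg.FusionSystem Uf.E0

section Abs

variable {Γ V : Type*} [Group Γ] [AddCommGroup V] [DistribMulAction Γ V] {p : ℕ}

theorem qo2_abs [Finite Γ] [hp : Fact p.Prime] (P : Sylow p Γ) {N : Set Γ} {M : Subgroup Γ}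
    (hPM : (P : Subgroup Γ) ≤ M) (hM : M ≠ ⊤)
    (hm : ∀ s ∈ (P : Subgroup Γ), s ∉ N → ∀ g, g * s * g⁻¹ ∈ M → g ∈ M)
    (hk : ∀ (a : Γ) (n : ℕ), n.Coprime p → a ^ n = 1 → (∀ v : V, a • v = v) → a = 1)
    (hV : ∀ v : V, ∃ k, p ^ k • v = 0) {B : Set Γ} (hB : ∀ g ∈ B, g ∈ (P : Subgroup Γ))
    (hq : ∀ g ∈ B, ∀ h ∈ B, ∀ v : V, h • (g • v - v) = g • v - v) {b : Γ} (hb : b ∈ B)
    (hbN : b ∉ N) :
    ∃ x : Γ, ∃ β ∈ B, ∃ u : V, ∀ g ∈ B, ∀ g' ∈ B,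
      g • x • (β • u - u) - x • (β • u - u) = g' • x • (β • u - u) - x • (β • u - u) →
      g'⁻¹ * g ∈ N := by
  obtain ⟨L, ⟨hL, hLM⟩, hmin⟩ := (wellFounded_lt (α := Subgroup Γ)).has_min
    {L | (∀ g ∈ B, g ∈ L) ∧ ¬ L ≤ M} ⟨⊤, fun _ _ => trivial, fun h => hM (top_le_iff.1 h)⟩
  obtain ⟨x, hx, hxM⟩ := SetLike.not_le_iff_exists.1 hLM
  have key : ∀ v : V, (∀ g ∈ B, g • v - v ∈ fx p L V) → ∀ l ∈ L, l ∉ M → l • v - v ∈ fx p L V →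
      v ∈ fx p L V := fun v h1 l hl h2 h3 => by
    have e : st p L v = L := by
      by_contra hne
      exact hmin (st p L v) ⟨fun g hg => ⟨hL g hg, h1 g hg⟩, fun h => h2 (h ⟨hl, h3⟩)⟩
        (lt_of_le_of_ne (fun _ h => h.1) hne)
    exact mem_fx hV fun l hl => (e.ge hl).2
  have hxb : x⁻¹ * b * x ∉ M := fun h =>
    hxM (by simpa using M.inv_mem (hm b (hB b hb) hbN x⁻¹ (by rwa [inv_inv])))
  have hxbL : x⁻¹ * b * x ∈ L := L.mul_mem (L.mul_mem (L.inv_mem hx) (hL b hb)) hx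
  obtain ⟨β, hβ, u, hu⟩ : ∃ β ∈ B, ∃ u : V, β • u - u ∉ fx p L V := by
    by_contra hc
    push Not at hc
    have h1 : ∀ u : V, u ∈ fx p L V := fun u => key u (fun g hg => hc g hg u) _ hxbL hxb (by
      have := fx_smul (L.inv_mem hx) (hc b hb (x • u))
      rwa [smul_sub, inv_smul_smul, ← mul_smul, ← mul_smul] at this)
    have h2 : IsPGroup p L := fun l => by
      obtain ⟨k, m, h3, h4⟩ := Nat.exists_eq_pow_mul_and_not_dvd (orderOf_pos l).ne' p hp.out.ne_one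
      have h5 : ((l : Γ) ^ p ^ k) ^ m = 1 := by
        rw [← pow_mul, ← h4, ← Subgroup.coe_pow, pow_orderOf_eq_one, Subgroup.coe_one]
      have h6 := ((Nat.Prime.coprime_iff_not_dvd hp.out).2 h3).symm
      exact ⟨k, Subtype.ext (hk _ m h6 h5 fun v => h1 v _ (L.pow_mem l.2 _) m h6 h5)⟩
    obtain ⟨T, hT⟩ := h2.exists_le_sylow
    obtain ⟨k, e⟩ := MulAction.exists_smul_eq Γ T P
    have h3 : ∀ l ∈ L, k * l * k⁻¹ ∈ M := fun l hl => hPM (by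
      rw [← e, Sylow.coe_subgroup_smul]
      exact Subgroup.smul_mem_pointwise_smul _ _ _ (hT hl))
    have h4 := hm b (hB b hb) hbN k (h3 b (hL b hb))
    exact hxM (by simpa [mul_assoc] using M.mul_mem (M.mul_mem (M.inv_mem h4) (h3 x hx)) h4)
  refine ⟨x, β, hβ, u, fun g hg g' hg' e => ?_⟩
  have h2 : g • x • (β • u - u) - g' • x • (β • u - u) ∈ fx p L V := by
    rw [sub_left_injective e, sub_self]; exact zero_mem _
  by_contra hn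
  have h3 := hm _ ((P : Subgroup Γ).mul_mem ((P : Subgroup Γ).inv_mem (hB _ hg')) (hB _ hg))
    hn x⁻¹
  rw [inv_inv] at h3
  refine hu (key _ (fun s hs => by rw [hq β hβ s hs, sub_self]; exact zero_mem _) _
    (L.mul_mem (L.mul_mem (L.inv_mem hx) (L.mul_mem (L.inv_mem (hL _ hg')) (hL _ hg))) hx)
    (fun h => hxM (by simpa using M.inv_mem (h3 h))) ?_)
  have h4 := fx_smul (L.inv_mem hx) (fx_smul (L.inv_mem (hL _ hg')) h2)
  rw [smul_sub, inv_smul_smul, smul_sub, inv_smul_smul] at h4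
  rwa [mul_smul, mul_smul, mul_smul]

end Abs

section Gen

universe u

variable {Ω : Type u} [Group Ω] {S : Subgroup Ω} [Finite S] {F : FusionSystem S}
  {E : Subgroup Ω} {p : ℕ} [hp : Fact p.Prime]

theorem qo2 (hF : F.IsSaturated p) (hS : IsPGroup p S) (hE : F.IsEssential p E) {B : Set Ω}
    (hB : ∀ g ∈ B, g ∈ S ∧ g ∈ Subgroup.normalizer (E : Set Ω))
    (hq : ∀ g ∈ B, ∀ h ∈ B, ∀ x ∈ E,
      (x⁻¹ * (g * x * g⁻¹))⁻¹ * (h * (x⁻¹ * (g * x * g⁻¹)) * h⁻¹) ∈ ⁅E, E⁆)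
    {b : Ω} (hb : b ∈ B) (hbE : b ∉ E) :
    ∃ τ, F.Iso E E τ ∧ ∃ β ∈ B, ∃ x ∈ E, ∃ v, v = τ (x⁻¹ * (β * x * β⁻¹)) ∧ ∀ g ∈ B, ∀ g' ∈ B,
      (v⁻¹ * (g' * v * g'⁻¹))⁻¹ * (v⁻¹ * (g * v * g⁻¹)) ∈ ⁅E, E⁆ → g'⁻¹ * g ∈ E := by
  haveI := finite_of_le hE.le
  have hpE := isPGroup_of_le hS hE.le
  have hs : ∀ v, ∃ x ∈ E, ab E x = v := fun v => by
    obtain ⟨x, hx⟩ := QuotientGroup.mk_surjective (Additive.toMul v)
    exact ⟨x, x.2, by rw [ab, dif_pos x.2]; exact congrArg Additive.ofMul hx⟩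
  obtain ⟨Γ, _, _, _, P, ρ, h1, h2, h3, h4, h5⟩ :=
    H4.Sp.exists_setup (hE.isFullyNormalized.isFullyAutomized hF hS) (ab E)
      (fun x hx y hy => ab_mul hx hy) hs
      fun τ hτ x hx h => (ab_eq_zero (hτ.mem hx)).2 (comm_inv hτ ((ab_eq_zero hx).1 h))
  obtain ⟨M, hM, hSM⟩ := hE.exists_strEmb hS
  choose sec hsec hsec' using hs
  have hfM : fixP E ≤ M := fun σ hσ => hSM (fixP_le_innS S E hσ)
  have ha : ∀ s : B, ∃ a, ∀ x ∈ E, ρ a x = s * x * (s : Ω)⁻¹ := fun s =>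
    h2 _ (F.iso_cj hE.le (hB s s.2).1 (hB s s.2).2)
  choose a ha using ha
  have hn : ∀ s ∈ B, ∀ x ∈ E, s * x * s⁻¹ ∈ E := fun s hs x hx =>
    (Subgroup.mem_normalizer_iff.1 (hB s hs).2 x).1 hx
  have hd : ∀ s : B, ∀ x ∈ E, a s • ab E x - ab E x = ab E (x⁻¹ * (s * x * (s : Ω)⁻¹)) :=
    fun s x hx => by rw [h5 _ x hx, ha s x hx, ab_inv_mul hx (hn s s.2 x hx)]
  have hin : ∀ s t : B, ρ ((a t)⁻¹ * a s) ∈ innS E E → (t : Ω)⁻¹ * s ∈ E := fun s t h => by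
    obtain ⟨k, hk, e⟩ := mem_innS_self.1 h
    refine hE.isCentric.mem_of_cj_mem_innS (S.mul_mem (S.inv_mem (hB t t.2).1) (hB s s.2).1)
      (mem_innS_self.2 ⟨k, hk, fun x hx => ?_⟩)
    have e1 := e x hx
    rw [map_mul, map_inv, Perm.mul_apply, Perm.inv_eq_iff_eq, ha s x hx,
      ha t _ (E.mul_mem (E.mul_mem hk hx) (E.inv_mem hk))] at e1
    rw [cj_apply, mul_inv_rev, inv_inv, show (t : Ω)⁻¹ * s * x * ((s : Ω)⁻¹ * t) =
      (t : Ω)⁻¹ * (s * x * (s : Ω)⁻¹) * t by group, e1]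
    group
  refine (qo2_abs (V := Additive (Abelianization E)) P (N := {a | ρ a ∈ innS E E}) (M := M.comap ρ)
    (fun s hs => hSM ((h4 s).1 hs)) (fun h => hM.ne (le_antisymm hM.le fun τ hτ => ?_))
    (fun s hs hN k hk => ?_) (fun c n hn hc hv => ?_) (fun v => ?_) (B := Set.range a) ?_ ?_
    (b := a ⟨b, hb⟩) ⟨_, rfl⟩ fun h => hbE ?_).elim ?_
  · obtain ⟨c, hc⟩ := h2 τ ((mem_stab hE.le).1 hτ)
    have h6 : ρ c ∈ M := h.ge (Subgroup.mem_top c)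
    simpa using M.mul_mem h6 (hfM (inv_mul_mem_fixP.2 fun x hx => (hc x hx).symm))
  · refine hM.mem (ρ s) (hSM ((h4 s).1 hs)) hN ?_ (ρ k) (h1 k).mem_stab (by simpa using hk)
    obtain ⟨j, hj⟩ := isPMod_innS hS E _ ((h4 s).1 hs)
    exact ⟨j, fixP_le_innS E E hj⟩
  · obtain ⟨k, hk⟩ := H1.aut_pow_eq_one_of_frattini hpE (resAut E (ρ c)) fun x =>
      H1.commutator_le_frattini_of_isPGroup hpE (by
        have h6 := hv (ab E x)
        rw [h5 c x x.2, ← sub_eq_zero, ← ab_inv_mul x.2 ((h1 c).mem x.2),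
          ab_eq_zero (E.mul_mem (E.inv_mem x.2) ((h1 c).mem x.2)),
          ← Subgroup.map_subtype_commutator] at h6
        obtain ⟨y, hy, e⟩ := h6
        rwa [show x⁻¹ * resAut E (ρ c) x = y from Subtype.ext (by
          rw [Subgroup.coe_mul, Subgroup.coe_inv, resAut_apply (h1 c).mem_autStab]; exact e.symm)])
    rw [← (homOn_resAut E).map_pow (h1 c).mem_autStab,
      resAut_eq_one_iff ((autStab E).pow_mem (h1 c).mem_autStab _)] at hk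
    exact h3 c (mem_of_pow_of_coprime (hn.pow_right k) (by rw [← map_pow, hc, map_one]; exact one_mem _) hk)
  · obtain ⟨k, hk⟩ := hpE.of_surjective Abelianization.of QuotientGroup.mk_surjective
      (Additive.toMul v)
    exact ⟨k, congrArg Additive.ofMul hk⟩
  · rintro _ ⟨s, rfl⟩
    exact (h4 _).2 (mem_innS.2 ⟨s, (hB s s.2).1, (hB s s.2).2, ha s⟩)
  · rintro _ ⟨s, rfl⟩ _ ⟨t, rfl⟩ v
    have m := E.mul_mem (E.inv_mem (hsec v)) (hn s s.2 _ (hsec v))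
    rw [← hsec' v, hd s _ (hsec v), ← sub_eq_zero, hd t _ m,
      ab_eq_zero (E.mul_mem (E.inv_mem m) (hn t t.2 _ m))]
    exact hq s s.2 t t.2 _ (hsec v)
  · obtain ⟨k, hk, e⟩ := mem_innS_self.1 h
    exact hE.isCentric.mem_of_cj_mem_innS (hB b hb).1
      (mem_innS_self.2 ⟨k, hk, fun x hx => (ha ⟨b, hb⟩ x hx).symm.trans (e x hx)⟩)
  · rintro x ⟨_, ⟨β, rfl⟩, u, h⟩
    have m := E.mul_mem (E.inv_mem (hsec u)) (hn β β.2 _ (hsec u))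
    have m' := (h1 x).mem m
    refine ⟨ρ x, h1 x, β, β.2, sec u, hsec u, _, rfl, fun g hg g' hg' e => hin ⟨g, hg⟩ ⟨g', hg'⟩
      (h _ ⟨_, rfl⟩ _ ⟨_, rfl⟩ ?_)⟩
    have k := fun s hs => E.mul_mem (E.inv_mem m') (hn s hs _ m')
    rw [← hsec' u, hd β _ (hsec u), h5 x _ m, hd _ _ m', hd _ _ m', ← sub_eq_zero,
      ← ab_inv_mul (k g' hg') (k g hg), ab_eq_zero (E.mul_mem (E.inv_mem (k g' hg')) (k g hg))]
    exact e

end Gen

variable {K : Type*} [Field K] [TF K] [Finite K] {F : FusionSystem (⊤ : Subgroup (U K))}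
  {E : Subgroup (U K)} {p : ℕ} [Fact p.Prime] [CharP K p]

/-- `QO2` on `U K`. -/
theorem qoU2 (hF : F.IsSaturated p) (hE : F.IsEssential p E) {B : Set (U K)}
    (hB : ∀ g ∈ B, ∀ x ∈ E, cm g x ∈ E) (hq : ∀ g ∈ B, ∀ h ∈ B, ∀ x ∈ E, cm h (cm g x) ∈ ⁅E, E⁆)
    {b : U K} (hb : b ∈ B) (hbE : b ∉ E) :
    ∃ τ, F.Iso E E τ ∧ ∃ β ∈ B, ∃ x ∈ E, ∃ v, v = τ (cm β x) ∧ ∀ g ∈ B, ∀ g' ∈ B,
      (cm g' v)⁻¹ * cm g v ∈ ⁅E, E⁆ → g'⁻¹ * g ∈ E := by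
  have h := qo2 (B := B) hF (topP p) hE (fun g hg => ⟨trivial, norm_of_cm (hB g hg)⟩)
    (fun g hg h hh x hx => by rw [cm_def, cm_def]; exact hq g hg h hh x hx) hb hbE
  simpa only [cm_def] using h

/-- `QO2` for a subgroup `B`. -/
theorem qoU2' (hF : F.IsSaturated p) (hE : F.IsEssential p E) {B : Subgroup (U K)}
    (hB : ∀ g ∈ B, ∀ x ∈ E, cm g x ∈ E) (hq : ∀ g ∈ B, ∀ h ∈ B, ∀ x ∈ E, cm h (cm g x) ∈ ⁅E, E⁆)
    (hb : ¬ B ≤ E) : ∃ τ, F.Iso E E τ ∧ ∃ β ∈ B, ∃ x ∈ E, ∃ v, v = τ (cm β x) ∧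
      ∀ g ∈ B, cm g v ∈ ⁅E, E⁆ → g ∈ E := by
  obtain ⟨b, h1, h2⟩ := SetLike.not_le_iff_exists.1 hb
  obtain ⟨τ, a1, β, a2, x, a3, v, a4, a5⟩ := qoU2 hF hE (B := B) hB hq h1 h2
  exact ⟨τ, a1, β, a2, x, a3, v, a4, fun g hg h => by
    simpa using a5 g hg 1 B.one_mem (by simpa [cm] using h)⟩

/-- `QO` on `U K`. -/
theorem qoU (hF : F.IsSaturated p) (hE : F.IsEssential p E) {B : Set (U K)}
    (hB : ∀ g ∈ B, ∀ x ∈ E, cm g x ∈ E) (hq : ∀ g ∈ B, ∀ h ∈ B, ∀ x ∈ E, cm h (cm g x) ∈ ⁅E, E⁆)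
    {b : U K} (hb : b ∈ B) (hbE : b ∉ E) {X Y : Type*} [Finite X] (f : U K → X)
    (hf : ∀ x ∈ E, ∀ y ∈ E, f x = f y → cm b (y⁻¹ * x) ∈ ⁅E, E⁆) (g : Y → U K) (hg : ∀ y, g y ∈ B)
    (hi : ∀ y y', (g y')⁻¹ * g y ∈ E → y = y') : Nat.card Y ≤ Nat.card X := by
  exact qo (B := B) hF (topP p) hE (fun g hg => ⟨trivial, norm_of_cm (hB g hg)⟩)
    (fun g hg h hh x hx => by rw [cm_def, cm_def]; exact hq g hg h hh x hx) hb hbE f
    (fun x hx y hy e => by rw [cm_def]; exact hf x hx y hy e) g hg hi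

end Cfsg.Agent.D3
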