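import Cfsg.Agent.D3.W
import Cfsg.Agent.H6.Basic

/-! The module `Q1/Z` in coordinates. -/

set_option autoImplicit false
set_option linter.unusedSectionVars false

namespace Cfsg.Agent.D3

open Polynomial

variable {K : Type*} [Field K] [TF K]

theorem exists_sqrt [Finite K] (h2 : (2 : K) = 0) {r : K} (hr : φ r = r) :
    ∃ l, φ l = l ∧ l * l = r := by
  have inj : Function.Injective fun x : K => x * x := fun x y (e : _ * _ = _ * _) =>
    sub_eq_zero.1 (pow_eq_zero_iff two_ne_zero |>.1 (by linear_combination e - (x * y - y * y) * h2))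
  obtain ⟨l, hl⟩ := Finite.injective_iff_surjective.1 inj r
  exact ⟨l, inj (by simp only [← map_mul]; rw [show l * l = r from hl, hr]), hl⟩

theorem exists_quad [Finite K] (h2 : (2 : K) ≠ 0) {a b c : K} (ha : φ a = a) (hb : φ b = b)
    (hc : φ c = c) (a0 : a ≠ 0) (b0 : b ≠ 0) :
    ∃ α β, φ α = α ∧ φ β = β ∧ a * α ^ 2 + b * β ^ 2 = c := by
  haveI := Fintype.ofFinite (Fx K)
  have h : ringChar (Fx K) ≠ 2 := fun h => h2 (by
    have := ringChar.Nat.cast_ringChar (R := Fx K)
    rw [h] at this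
    have := congrArg (Fx K).subtype this
    rwa [map_natCast, map_zero, Nat.cast_ofNat] at this)
  obtain ⟨α, β, e⟩ := FiniteField.exists_root_sum_quadratic
    (f := C (⟨a, ha⟩ : Fx K) * X ^ 2 + C 0 * X + C 0)
    (g := C (⟨b, hb⟩ : Fx K) * X ^ 2 + C 0 * X + C (-⟨c, hc⟩))
    (degree_quadratic fun e => a0 (congrArg Subtype.val e))
    (degree_quadratic fun e => b0 (congrArg Subtype.val e)) (FiniteField.odd_card_of_char_ne_two h)
  refine ⟨α, β, α.2, β.2, ?_⟩
  have := congrArg Subtype.val e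
  simp at this
  linear_combination this

theorem exists_s0 (h3 : (3 : K) ≠ 0) : ∃ s : K, tr s = 0 ∧ tr (ad s) ≠ 0 := by
  by_contra! h
  obtain ⟨θ, hθ⟩ := TF.ne (K := K)
  have t0 : tr (φ θ - θ) = 0 := by kunf; ring
  obtain ⟨l, hl, e⟩ := dep_of_perp (one_ne_zero (α := K)) (x := φ θ - θ) fun y hy => by
    rw [one_mul] at hy
    have e1 := h _ t0
    have e2 := h _ hy
    have e3 := h (φ θ - θ + y) (by rw [tr_add, t0, hy, add_zero])
    generalize φ θ - θ = s at *
    kunf at *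
    linear_combination e1 + e2 - e3 + (y + φ y + φ (φ y)) * t0
  rw [e, mul_one, tr_fix hl] at t0
  rw [(mul_eq_zero.1 t0).resolve_left h3, zero_mul, sub_eq_zero] at e
  exact hθ e

/-- the form `T(r#)` is universal on the trace zero plane -/
theorem exists_ad0 [Finite K] (h2 : (2 : K) ≠ 0) (h3 : (3 : K) ≠ 0) {d : K} (hd : φ d = d) :
    ∃ r : K, tr r = 0 ∧ tr (ad r) = d := by
  obtain ⟨s, h0, h1⟩ := exists_s0 h3
  obtain ⟨α, β, hα, hβ, e⟩ := exists_quad h2 (φ_tr (ad s)) (b := 3 * tr (ad s))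
    (by rw [map_mul, φ_tr, map_ofNat]) hd h1 (mul_ne_zero h3 h1)
  refine ⟨(α + β) * s + 2 * β * φ s, ?_, ?_⟩ <;> kunf at * <;> simp only [hα, hβ]
  · linear_combination (α + 3 * β) * h0
  · linear_combination e + 2 * β * (α + β) * (s + φ s + φ (φ s)) * h0

theorem exists_ad [Finite K] (h2 : (2 : K) ≠ 0) {d : K} (hd : φ d = d) : ∃ r : K, tr (ad r) = d := by
  by_cases h3 : (3 : K) = 0
  · obtain ⟨s, hs⟩ := exists_tr (one_ne_zero (α := K)) (map_one φ)
    have f : φ ((d - tr (ad s)) / 2) = (d - tr (ad s)) / 2 :=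
      fix_div (by rw [map_sub, hd, φ_tr]) (map_ofNat _ 2)
    have e : 2 * ((d - tr (ad s)) / 2) = d - tr (ad s) := by field_simp
    generalize (d - tr (ad s)) / 2 = α at f e
    refine ⟨α + s, ?_⟩
    kunf at *
    simp only [f]
    linear_combination e + 2 * α * hs + α ^ 2 * h3
  · exact (exists_ad0 h2 h3 hd).imp fun _ h => h.2

/-- the cubic `N t + T (t c)` has a nonzero root -/
theorem exists_root [Finite K] {c : K} (hc : c ≠ 0) : ∃ t, t ≠ 0 ∧ nm t + tr (t * c) = 0 := by
  by_cases h2 : (2 : K) = 0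
  · obtain ⟨t, ht⟩ := exists_tr hc (map_one φ)
    have t0 : t ≠ 0 := by rintro rfl; simp at ht
    obtain ⟨l, hl, e⟩ := exists_sqrt h2 (r := (nm t)⁻¹) (by rw [map_inv₀, φ_nm])
    have e' : l * l * nm t = 1 := by rw [e, inv_mul_cancel₀ (nm_ne_zero t0)]
    refine ⟨l * t, mul_ne_zero (by rintro rfl; simp at e') t0, ?_⟩
    rw [nm_smul hl, mul_assoc, tr_smul hl, mul_comm t, ht]
    linear_combination l * e' + l * h2
  · have N := nm_ne_zero hc
    obtain ⟨ρ, e⟩ := exists_ad h2 (d := -(nm c)⁻¹) (by rw [map_neg, map_inv₀, φ_nm])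
    have ρ0 : ρ ≠ 0 := by rintro rfl; simp [N] at e
    have r0 := mul_ne_zero hc ρ0
    have hl : φ (nm (c * ρ))⁻¹ = (nm (c * ρ))⁻¹ := by rw [map_inv₀, φ_nm]
    have N' := nm_ne_zero r0
    refine ⟨(nm (c * ρ))⁻¹ * ad (c * ρ), mul_ne_zero (inv_ne_zero N') (ad_ne_zero r0), ?_⟩
    rw [nm_smul hl, mul_assoc, tr_smul hl, ad_mul, show ad c * ad ρ * c = nm c * ad ρ by
      rw [← mul_ad c]; ring, tr_smul (φ_nm c), e, ← ad_mul,
      show nm (ad (c * ρ)) = nm (c * ρ) ^ 2 by kunf; ring]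
    field_simp
    ring

theorem aut_invol {γ : K ≃+* K} (hF : ∀ l, φ l = l → γ l = l) (h2 : ∀ t, γ (γ t) = t) (t : K) :
    γ t = t := by
  have e : (γ t - t) * (γ t - φ t) * (γ t - φ (φ t)) = 0 := by
    have := congrArg γ (show t ^ 3 - tr t * t ^ 2 + tr (ad t) * t - nm t = 0 by kunf; ring)
    simp only [map_sub, map_add, map_mul, map_pow, hF _ (φ_tr _), hF _ (φ_nm _), map_zero] at this
    kunf at this
    linear_combination this
  rcases mul_eq_zero.1 e with e | e
  · rcases mul_eq_zero.1 e with e | e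
    · exact sub_eq_zero.1 e
    · have e := sub_eq_zero.1 e
      have := h2 t
      rw [e, ← φ_aut, e] at this
      rw [e, fix_of_φφ this]
  · have e := sub_eq_zero.1 e
    have := h2 t
    rw [e, ← φ_aut, ← φ_aut, e, φφφ] at this
    rw [e, this, this]

@[simp] theorem one_ap (t : K) : (1 : K ≃+* K) t = t := rfl

/-- the module `Q1/Z` -/
@[ext] structure V (K : Type*) [Field K] [TF K] where
  (u x y z : K)
  hu : φ u = u
  hz : φ z = z

namespace V

instance instAdd : Add (V K) := ⟨fun v w => ⟨v.u + w.u, v.x + w.x, v.y + w.y, v.z + w.z,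
  by rw [map_add, v.hu, w.hu], by rw [map_add, v.hz, w.hz]⟩⟩
instance instZero : Zero (V K) := ⟨⟨0, 0, 0, 0, map_zero _, map_zero _⟩⟩
instance instNeg : Neg (V K) := ⟨fun v => ⟨-v.u, -v.x, -v.y, -v.z, by rw [map_neg, v.hu],
  by rw [map_neg, v.hz]⟩⟩
instance instSMul : SMul (Fx K) (V K) := ⟨fun l v => ⟨l * v.u, l * v.x, l * v.y, l * v.z,
  by rw [map_mul, v.hu, l.2], by rw [map_mul, v.hz, l.2]⟩⟩

variable (v w : V K) (l : Fx K)

@[simp] theorem add_u : (v + w).u = v.u + w.u := rfl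
@[simp] theorem add_x : (v + w).x = v.x + w.x := rfl
@[simp] theorem add_y : (v + w).y = v.y + w.y := rfl
@[simp] theorem add_z : (v + w).z = v.z + w.z := rfl
@[simp] theorem neg_u : (-v).u = -v.u := rfl
@[simp] theorem neg_x : (-v).x = -v.x := rfl
@[simp] theorem neg_y : (-v).y = -v.y := rfl
@[simp] theorem neg_z : (-v).z = -v.z := rfl
@[simp] theorem zero_u : (0 : V K).u = 0 := rfl
@[simp] theorem zero_x : (0 : V K).x = 0 := rfl
@[simp] theorem zero_y : (0 : V K).y = 0 := rfl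
@[simp] theorem zero_z : (0 : V K).z = 0 := rfl
@[simp] theorem sm_u : (l • v).u = l * v.u := rfl
@[simp] theorem sm_x : (l • v).x = l * v.x := rfl
@[simp] theorem sm_y : (l • v).y = l * v.y := rfl
@[simp] theorem sm_z : (l • v).z = l * v.z := rfl

instance instAddGroup : AddGroup (V K) := AddGroup.ofLeftAxioms
  (fun _ _ _ => by ext <;> simp [add_assoc]) (fun _ => by ext <;> simp) fun _ => by ext <;> simp
instance instAddCommGroup : AddCommGroup (V K) :=
  { instAddGroup with add_comm := fun _ _ => by ext <;> simp [add_comm] }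
instance instModule : Module (Fx K) (V K) where
  one_smul _ := by ext <;> simp
  mul_smul _ _ _ := by ext <;> simp [mul_assoc]
  smul_zero _ := by ext <;> simp
  smul_add _ _ _ := by ext <;> simp [mul_add]
  add_smul _ _ _ := by ext <;> simp [add_mul]
  zero_smul _ := by ext <;> simp

@[simp] theorem sub_u : (v - w).u = v.u - w.u := by rw [sub_eq_add_neg, sub_eq_add_neg]; rfl
@[simp] theorem sub_x : (v - w).x = v.x - w.x := by rw [sub_eq_add_neg, sub_eq_add_neg]; rfl
@[simp] theorem sub_y : (v - w).y = v.y - w.y := by rw [sub_eq_add_neg, sub_eq_add_neg]; rfl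
@[simp] theorem sub_z : (v - w).z = v.z - w.z := by rw [sub_eq_add_neg, sub_eq_add_neg]; rfl

/-- the action of `XA (-t)` -/
@[simps] def at' (t : K) (v : V K) : V K :=
  ⟨v.u, v.x + t * v.u, v.y + cr t v.x + ad t * v.u,
    v.z + tr (t * v.y) + tr (ad t * v.x) + nm t * v.u, v.hu,
    by simp only [map_add, map_mul, φ_tr, φ_nm, v.hu, v.hz]⟩

/-- the opposite root group -/
@[simps] def bt (r : K) (v : V K) : V K :=
  ⟨v.u + tr (r * v.x) + tr (ad r * v.y) + nm r * v.z, v.x + cr r v.y + ad r * v.z, v.y + r * v.z,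
    v.z, by simp only [map_add, map_mul, φ_tr, φ_nm, v.hu, v.hz], v.hz⟩

/-- torus and field automorphisms -/
@[simps] def lam (s u : K) (hu : φ u = u) (γ : K ≃+* K) (v : V K) : V K :=
  ⟨u * γ v.u, s * u * γ v.x, ad s * u * γ v.y, nm s * u * γ v.z,
    by rw [map_mul, hu, φ_aut, v.hu], by rw [map_mul, map_mul, hu, φ_nm, φ_aut, v.hz]⟩

/-- the Weyl element -/
@[simps] def wv (v : V K) : V K := ⟨v.z, -v.y, v.x, -v.u, v.hz, by rw [map_neg, v.hu]⟩

/-- the alternating form -/
def om (v w : V K) : K := v.u * w.z - v.z * w.u - tr (v.x * w.y) + tr (v.y * w.x)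
/-- the quadratic form (characteristic two) -/
def Qf (v : V K) : K := tr (v.x * v.y) - v.u * v.z

@[simps] def e0 : V K := ⟨0, 0, 0, 1, map_zero _, map_one _⟩
@[simps] def e1 : V K := ⟨1, 0, 0, 0, map_one _, map_zero _⟩
@[simps] def ex (x : K) : V K := ⟨0, x, 0, 0, map_zero _, map_zero _⟩
@[simps] def ey (y : K) : V K := ⟨0, 0, y, 0, map_zero _, map_zero _⟩

theorem φF : φ l.1 = l.1 := l.2

/-- unfold coordinates -/
macro "vs" : tactic => `(tactic| simp only [add_u, add_x, add_y, add_z, neg_u, neg_x, neg_y, neg_z,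
  zero_u, zero_x, zero_y, zero_z, sm_u, sm_x, sm_y, sm_z, sub_u, sub_x, sub_y, sub_z, at'_u, at'_x,
  at'_y, at'_z, bt_u, bt_x, bt_y, bt_z, lam_u, lam_x, lam_y, lam_z, wv_u, wv_x, wv_y, wv_z, e0_u,
  e0_x, e0_y, e0_z, e1_u, e1_x, e1_y, e1_z, ex_u, ex_x, ex_y, ex_z, ey_u, ey_x, ey_y, ey_z, om, Qf,
  tr, nm, ad, cr, map_add, map_sub, map_neg, map_mul, map_pow, map_zero, map_one, map_ofNat,
  map_inv₀, φφφ, V.hu, V.hz, φF])

theorem φ_om : φ (om v w) = om v w := by vs; ring
theorem om_add (v' : V K) : om (v + v') w = om v w + om v' w := by vs; ring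
theorem om_sub (v' : V K) : om (v - v') w = om v w - om v' w := by vs; ring
theorem om_swap : om w v = -om v w := by vs; ring
theorem om_sm : om (l • v) w = l * om v w := by vs; ring
theorem om_sm' : om v (l • w) = l * om v w := by rw [om_swap, om_sm, om_swap]; ring
theorem om_sub' (w' : V K) : om v (w - w') = om v w - om v w' := by vs; ring
@[simp] theorem om_e0 : om v e0 = v.u := by simp [om]
@[simp] theorem om_e1 : om v e1 = -v.z := by simp [om]
@[simp] theorem om_zero : om v 0 = 0 := by simp [om]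

theorem eq_zero_of_om {v : V K} (h : ∀ w, om v w = 0) : v = 0 := by
  ext
  · simpa using h e0
  · exact eq_zero_of_tr fun y => by simpa [om] using h (ey y)
  · exact eq_zero_of_tr fun y => by simpa [om] using h (ex y)
  · simpa using h e1

theorem exists_om {v : V K} (h : v ≠ 0) : ∃ w, om v w = 1 := by
  obtain ⟨w, hw⟩ : ∃ w, om v w ≠ 0 := by
    by_contra! h'
    exact h (eq_zero_of_om h')
  exact ⟨(⟨om v w, φ_om v w⟩ : Fx K)⁻¹ • w, by rw [om_sm']; exact inv_mul_cancel₀ hw⟩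

theorem at_at (s t : K) : at' s (at' t v) = at' (s + t) v := by ext <;> vs <;> ring
theorem at_zero : at' 0 v = v := by ext <;> simp
theorem at_sm (t : K) : at' t (l • v) = l • at' t v := by ext <;> vs <;> ring
theorem bt_sm (t : K) : bt t (l • v) = l • bt t v := by ext <;> vs <;> ring
theorem bt_add (t : K) : bt t (v + w) = bt t v + bt t w := by ext <;> vs <;> ring
theorem bt_bt (s t : K) : bt s (bt t v) = bt (s + t) v := by ext <;> vs <;> ring
theorem lam_at (s u : K) (hu : φ u = u) (γ : K ≃+* K) (t : K) :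
    lam s u hu γ (at' t v) = at' (s * γ t) (lam s u hu γ v) := by
  ext <;> vs <;> (try simp only [φ_aut γ, hu]) <;> ring

theorem word (k : K) (hk : k ≠ 0) : at' (-k) (bt k⁻¹ (at' (-k) v)) =
    lam (k * k) (nm k)⁻¹ (by rw [map_inv₀, φ_nm]) 1 (wv v) := by
  have h1 := φ_ne_zero hk
  have h2 := φ_ne_zero h1
  ext <;> vs <;> simp only [one_ap] <;> field_simp <;> ring

end V

end Cfsg.Agent.D3
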