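import Cfsg.Agent.D3.V1

/-! Groups acting on `Q1/Z`: the orbit of the root line. -/

set_option autoImplicit false
set_option linter.unusedSectionVars false

namespace Cfsg.Agent.D3

namespace V

variable {K : Type*} [Field K] [TF K]

/-- the line `L0` -/
def In0 (v : V K) : Prop := v.u = 0 ∧ v.x = 0 ∧ v.y = 0

theorem dep {v v' : V K} (hv : v ≠ 0) (h : ∀ w, om v w = 0 → om v' w = 0) :
    ∃ μ : Fx K, v' = μ • v := by
  obtain ⟨w₁, h1⟩ := exists_om hv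
  refine ⟨⟨om v' w₁, φ_om _ _⟩, sub_eq_zero.1 (eq_zero_of_om fun w => ?_)⟩
  have := h (w - (⟨om v w, φ_om _ _⟩ : Fx K) • w₁) (by rw [om_sub', om_sm', h1]; simp)
  rw [om_sub', om_sm'] at this
  rw [om_sub, om_sm]
  linear_combination this

theorem e0_ne : (e0 : V K) ≠ 0 := fun e => one_ne_zero (congrArg V.z e)
theorem in0_e0 : In0 (e0 : V K) := ⟨rfl, rfl, rfl⟩
theorem In0.sm {v : V K} (h : In0 v) (l : Fx K) : In0 (l • v) := by simp [In0, h.1, h.2.1, h.2.2]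
theorem In0.z_ne {v : V K} (h : In0 v) (h0 : v ≠ 0) : v.z ≠ 0 := fun e =>
  h0 (V.ext h.1 h.2.1 h.2.2 e)
theorem In0.fix {v : V K} (h : In0 v) (t : K) : at' t v = v := by
  ext <;> simp [h.1, h.2.1, h.2.2]
theorem In0.dep {v w : V K} (h : In0 v) (hw : In0 w) (h0 : w ≠ 0) : ∃ l : Fx K, v = l • w :=
  ⟨⟨v.z / w.z, fix_div v.hz w.hz⟩, by
    ext <;> simp [h.1, h.2.1, h.2.2, hw.1, hw.2.1, hw.2.2, hw.z_ne h0]⟩
theorem In0.u_of {v w : V K} (hw : In0 w) (h0 : w ≠ 0) (h : om v w = 0) : v.u = 0 := by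
  simpa [om, hw.1, hw.2.1, hw.2.2, hw.z_ne h0] using h

theorem fix_V2 {t : K} (ht : t ≠ 0) {v : V K} (h : at' t v = v) (hq : (2 : K) = 0 → Qf v = 0) :
    v.u = 0 ∧ v.x = 0 := by
  have hu : v.u = 0 := by simpa [ht] using congrArg V.x h
  have hy : cr t v.x = 0 := by simpa [hu] using congrArg V.y h
  have hz : tr (t * v.y) + tr (ad t * v.x) = 0 := by simpa [hu, add_assoc] using congrArg V.z h
  refine ⟨hu, ?_⟩
  by_cases h2 : (2 : K) = 0
  · obtain ⟨l, hl, e⟩ := cr_ker_two h2 ht hy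
    have q := hq h2
    rw [Qf, hu, e, mul_assoc, tr_smul hl] at q
    rw [e, mul_left_comm, tr_smul hl, mul_comm (ad t), mul_ad, tr_fix (φ_nm t)] at hz
    have : l ^ 2 * nm t = 0 := by linear_combination l * hz - q - l ^ 2 * nm t * h2
    rw [e, pow_eq_zero_iff two_ne_zero |>.1 ((mul_eq_zero.1 this).resolve_right (nm_ne_zero ht)),
      zero_mul]
  · exact cr_eq_zero h2 ht hy

variable {Γ : Type*} [Group Γ] [DistribMulAction Γ (V K)] {p : ℕ}

/-- the hypotheses on `Aut_F(Q1)` -/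
structure Cx (P : Sylow p Γ) (A : K → Γ) : Prop where
  fa : ∀ g : Γ, (∀ v : V K, g • v = v) → g = 1
  hA : ∀ t (v : V K), A t • v = at' t v
  hP : ∀ g, g ∈ (P : Subgroup Γ) ↔ ∃ t, g = A t
  om : ∀ g : Γ, ∃ ζ : K → K, ∀ v w : V K, om (g • v) (g • w) = ζ (om v w)
  qf : (2 : K) = 0 → ∀ (g : Γ) (v : V K), Qf v = 0 → Qf (g • v) = 0
  B : ∀ g : Γ, (∀ l : Fx K, In0 (g • l • (e0 : V K))) →
    ∃ t s u hu γ, s ≠ 0 ∧ u ≠ 0 ∧ ∀ v : V K, g • v = at' t (lam s u hu γ v)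
  h : ∀ (c : K) (hc : φ c = c), c ≠ 0 →
    ∃ g : Γ, ∀ v : V K, g • v = lam c⁻¹ (c * c) (by rw [map_mul, hc]) 1 v
  mv' : ∃ (g : Γ) (l : Fx K), ¬ In0 (g • l • (e0 : V K))

/-- linear elements -/
def Lin (K : Type*) [Field K] [TF K] [DistribMulAction Γ (V K)] (g : Γ) : Prop :=
  ∀ (l : Fx K) (v : V K), g • l • v = l • g • v

/-- the orbit of the line `L0` -/
def Om (Γ : Type*) [Group Γ] [DistribMulAction Γ (V K)] (v : V K) : Prop :=
  v ≠ 0 ∧ ∃ g : Γ, In0 (g • v)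

theorem Om.act {v : V K} (h : Om Γ v) (k : Γ) : Om Γ (k • v) :=
  ⟨(smul_ne_zero_iff_ne k).2 h.1, h.2.elim fun g hg => ⟨g * k⁻¹, by simpa [mul_smul] using hg⟩⟩

theorem Om.of_act {v : V K} (k : Γ) (h : Om Γ (k • v)) : Om Γ v := by simpa using h.act k⁻¹

theorem om_e0' : Om Γ (e0 : V K) := ⟨e0_ne, 1, by simpa using in0_e0⟩

namespace Cx

variable {P : Sylow p Γ} {A : K → Γ} (h : Cx P A)
include h

theorem ext' {g k : Γ} (e : ∀ v : V K, g • v = k • v) : g = k :=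
  inv_mul_eq_one.1 (h.fa _ fun v => by rw [mul_smul, ← e, inv_smul_smul])

theorem perp (g : Γ) {v w : V K} (e : V.om v w = 0) : V.om (g • v) (g • w) = 0 := by
  obtain ⟨ζ, hζ⟩ := h.om g
  rw [hζ, e, ← om_zero (0 : V K), ← hζ, smul_zero, om_zero]

theorem semi (g : Γ) : ∃ β : Fx K → Fx K, ∀ (l : Fx K) (v : V K), g • l • v = β l • g • v := by
  obtain ⟨ζ, hζ⟩ := h.om g
  have a0 : ζ 1 ≠ 0 := fun e => by
    have := h.perp g⁻¹ ((hζ e1 e0).trans (by simpa using e))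
    simp at this
  have fx : ∀ l : Fx K, φ (ζ l) = ζ l := fun l => by
    have := φ_om (g • l • (e1 : V K)) (g • e0)
    simpa [hζ] using this
  refine ⟨fun l => ⟨ζ l / ζ 1, fix_div (fx l) (fx 1)⟩, fun l v => ?_⟩
  by_cases hv : v = 0
  · simp [hv]
  obtain ⟨μ, e⟩ := dep ((smul_ne_zero_iff_ne g).2 hv) (v' := g • l • v) fun w hw => by
    have e1 := h.perp g⁻¹ hw
    rw [inv_smul_smul] at e1
    simpa using h.perp g (v := l • v) (w := g⁻¹ • w) (by rw [om_sm, e1, mul_zero])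
  obtain ⟨w, hw⟩ := exists_om hv
  have := hζ (l • v) w
  rw [e, om_sm, om_sm, hζ, hw, mul_one] at this
  rw [e]
  congr 1
  exact Subtype.ext (eq_div_of_mul_eq a0 this)

theorem lin_conj {k : Γ} (hk : Lin K k) (g : Γ) : Lin K (g * k * g⁻¹) := fun l v => by
  obtain ⟨β, e⟩ := h.semi g
  obtain ⟨β', e'⟩ := h.semi g⁻¹
  have : ∀ w : V K, β (β' l) • w = l • w := fun w => by
    rw [← smul_inv_smul g (l • w), e', e, smul_inv_smul]
  rw [mul_smul, mul_smul, e', hk, e, this, mul_smul, mul_smul]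

theorem lin_A (t : K) : Lin K (A t) := fun l v => by rw [h.hA, h.hA, at_sm]

theorem sm {v : V K} (hv : Om Γ v) {l : Fx K} (hl : l ≠ 0) : Om Γ (l • v) :=
  ⟨smul_ne_zero hl hv.1, hv.2.imp fun g hg => by
    obtain ⟨β, e⟩ := h.semi g
    exact e l v ▸ hg.sm _⟩

theorem at_om {v : V K} (hv : Om Γ v) (t : K) : Om Γ (at' t v) := h.hA t v ▸ hv.act _

theorem qf0 (h2 : (2 : K) = 0) {v : V K} (hv : Om Γ v) : Qf v = 0 := by
  obtain ⟨g, hg⟩ := hv.2
  simpa using h.qf h2 g⁻¹ (g • v) (by simp [Qf, hg.1, hg.2.1])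

theorem line {g : Γ} {v w : V K} (hv : In0 (g • v)) (hw : In0 (g • w)) (h0 : w ≠ 0) :
    ∃ l : Fx K, v = l • w := by
  obtain ⟨l, e⟩ := hv.dep hw ((smul_ne_zero_iff_ne g).2 h0)
  obtain ⟨β, e'⟩ := h.semi g⁻¹
  exact ⟨β l, by rw [← inv_smul_smul g v, e, e', inv_smul_smul]⟩

theorem in0_of {g : Γ} {v w : V K} (hw : In0 w) (h0 : w ≠ 0) (e : In0 (g • w)) (hv : In0 v) :
    In0 (g • v) := by
  obtain ⟨l, rfl⟩ := hv.dep hw h0
  obtain ⟨β, e'⟩ := h.semi g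
  exact e' l w ▸ e.sm _

theorem mv : ∃ g : Γ, ¬ In0 (g • (e0 : V K)) :=
  h.mv'.imp fun _ ⟨l, hl⟩ e => hl (h.in0_of in0_e0 e0_ne e (in0_e0.sm l))

theorem B' {g : Γ} (e : In0 (g • (e0 : V K))) :
    ∃ t s u hu γ, s ≠ 0 ∧ u ≠ 0 ∧ ∀ v : V K, g • v = at' t (lam s u hu γ v) :=
  h.B g fun l => h.in0_of in0_e0 e0_ne e (in0_e0.sm l)

theorem conjA {g : Γ} {t s u : K} {hu γ} (e : ∀ v : V K, g • v = at' t (lam s u hu γ v)) (r : K) :
    g * A r * g⁻¹ = A (s * γ r) :=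
  mul_inv_eq_of_eq_mul (h.ext' fun v => by
    rw [mul_smul, mul_smul, h.hA, h.hA, e, e, lam_at, at_at, at_at, add_comm])

theorem A_inj {s t : K} (e : A s = A t) : s = t := by
  simpa [h.hA] using congrArg (fun g : Γ => (g • (e1 : V K)).x) e

theorem A_zero : A 0 = 1 := h.fa _ fun v => by rw [h.hA, at_zero]

theorem A_mul (s t : K) : A s * A t = A (s + t) := h.ext' fun v => by
  rw [mul_smul, h.hA, h.hA, h.hA, at_at]

variable [Finite K] [Finite Γ] [Fact p.Prime]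

theorem pel {g : Γ} {k : ℕ} (hk : g ^ p ^ k = 1) (e : In0 (g • (e0 : V K))) : ∃ t, g = A t := by
  obtain ⟨t, s, u, hu, γ, hs, -, e⟩ := h.B' e
  have hn : g ∈ Subgroup.normalizer ((P : Subgroup Γ) : Set Γ) :=
    Subgroup.mem_normalizer_fintype fun x hx => by
      obtain ⟨r, rfl⟩ := (h.hP x).1 hx
      exact (h.hP _).2 ⟨_, h.conjA e r⟩
  have hp : IsPGroup p (Subgroup.zpowers g) := fun ⟨_, n, rfl⟩ =>
    ⟨k, Subtype.ext (show (g ^ n) ^ p ^ k = 1 by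
      rw [← zpow_natCast, ← zpow_mul, mul_comm n, zpow_mul, zpow_natCast, hk, one_zpow])⟩
  exact (h.hP g).1 ((hp.inf_normalizer_sylow P).le ⟨Subgroup.mem_zpowers g, hn⟩).2

theorem conj_fix {g : Γ} {v : V K} (h0 : v ≠ 0) (hg : In0 (g • v)) {r : K} (e : at' r v = v) :
    ∃ t, g * A r * g⁻¹ = A t := by
  obtain ⟨k, hk⟩ := H4.Sp.sylow_pow P ((h.hP _).2 ⟨r, rfl⟩) g⁻¹
  rw [inv_inv] at hk
  exact h.pel hk (h.in0_of hg ((smul_ne_zero_iff_ne g).2 h0)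
    (by rwa [mul_smul, inv_smul_smul, mul_smul, h.hA, e]) in0_e0)

theorem st1 {v : V K} (hv : Om Γ v) (hu : v.u = 0) (hx : v.x = 0) : In0 v := by
  refine ⟨hu, hx, by_contra fun hy => ?_⟩
  obtain ⟨h0, g, hg⟩ := hv
  obtain ⟨m, hm⟩ := exists_indep hy
  obtain ⟨t, t0, h1, h2⟩ := perp2 v.y m
  obtain ⟨s, h3, h4⟩ := exists_tr2 hm (map_zero φ) (map_one φ)
  have key : ∀ r, tr (v.y * r) = 0 → ∃ r', g * A r * g⁻¹ = A r' := fun r hr =>
    h.conj_fix h0 hg (by ext <;> simp [hu, hx, mul_comm r, hr])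
  obtain ⟨t', e1⟩ := key t h1
  obtain ⟨s', e2⟩ := key s h3
  have t0' : t' ≠ 0 := by
    rintro rfl
    rw [h.A_zero, mul_inv_eq_one, mul_eq_left, ← h.A_zero] at e1
    exact t0 (h.A_inj e1)
  obtain ⟨a, b⟩ := fix_V2 t0' (v := g • ey m) (by
    rw [← h.hA, ← e1, mul_smul, inv_smul_smul, mul_smul, h.hA]
    congr 1
    ext <;> simp [mul_comm t, h2]) fun h2 => h.qf h2 _ _ (by simp [Qf])
  have e3 : at' s' (g • ey m) - g • ey m = g • e0 := by
    rw [← h.hA, ← e2, mul_smul, inv_smul_smul, mul_smul, h.hA, ← smul_sub]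
    congr 1
    ext <;> simp [mul_comm s, h4]
  obtain ⟨l, e⟩ := h.line hg (w := e0) (by rw [← e3]; simp [In0, a, b]) e0_ne
  exact hy (by simp [e])

theorem fixO {v : V K} (hv : Om Γ v) {t : K} (ht : t ≠ 0) (e : at' t v = v) : In0 v :=
  (fix_V2 ht e fun h2 => h.qf0 h2 hv).elim (h.st1 hv)

theorem st3_two (h2 : (2 : K) = 0) {v : V K} (hv : Om Γ v) (hu : v.u = 0) : v.x = 0 := by
  have ln : ∀ v : V K, Om Γ v → v.u = 0 → v.x ≠ 0 → ∀ w, In0 w → Om Γ (v + w) := fun v hv hu hx w hw => by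
    have N := nm_ne_zero hx
    obtain ⟨l, hl, e⟩ := exists_sqrt h2 (fix_div w.hz (φ_nm v.x))
    have q := h.qf0 h2 hv
    rw [Qf, hu, zero_mul, sub_zero] at q
    convert h.at_om hv (l * v.x) using 1
    ext
    · simp [hw.1]
    · simp [hw.2.1, hu]
    · simp [hw.2.2, hu, smul_cr hl, cr_self, h2]
    · simp only [add_z, at'_z, mul_assoc, tr_smul hl, q, hu, ad_smul hl,
        tr_smul (show φ (l ^ 2) = l ^ 2 by rw [map_pow, hl]), mul_comm (ad v.x), mul_ad,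
        tr_fix (φ_nm _)]
      rw [eq_div_iff N] at e
      linear_combination -e - l ^ 2 * nm v.x * h2
  by_contra hx
  obtain ⟨y, y0, h1, -⟩ := perp2 v.x v.x
  obtain ⟨t, ht⟩ := cr_surj_two h2 hx h1
  have o := h.at_om hv t
  obtain ⟨h0, g, hg⟩ := id hv
  have g0 := (smul_ne_zero_iff_ne g).2 h0
  have a := hg.u_of g0 (h.perp g (v := at' t v) (by
    simp only [V.om, at'_u, at'_x, at'_y, hu, cr_comm t, ht, mul_zero, add_zero, add_mul, tr_add,
      mul_comm y, h1, mul_comm v.y]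
    ring))
  by_cases b : (g • at' t v).x = 0
  · obtain ⟨l, e⟩ := h.line (h.st1 (o.act g) a b) hg h0
    have e1 : (l : K) = 1 := by simpa [hu, hx] using (congrArg V.x e).symm
    exact y0 (by simpa [hu, e1, cr_comm t, ht] using congrArg V.y e)
  · have o' := ln _ (o.act g) a b _ hg
    rw [← smul_add] at o'
    have := (h.st1 (o'.of_act g) (by simp [hu]) (by simp [hu, ← two_mul, h2])).2.2
    simp only [add_y, at'_y, hu, cr_comm t, ht] at this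
    exact y0 (by linear_combination this - v.y * h2)

end Cx

end V

end Cfsg.Agent.D3
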