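import Cfsg.Agent.D3.V2

/-! Groups acting on `Q1/Z`: odd characteristic. -/

set_option autoImplicit false
set_option linter.unusedSectionVars false

namespace Cfsg.Agent.D3

namespace V

variable {K : Type*} [Field K] [TF K]

/-- the central involution of the Levi factor `L₂(q)` -/
@[simps] def iv (v : V K) : V K := ⟨v.u, -v.x, v.y, -v.z, v.hu, by rw [map_neg, v.hz]⟩

theorem iv_at (t : K) (v : V K) : iv (at' t v) = at' (-t) (iv v) := by
  ext <;> simp only [iv_u, iv_x, iv_y, iv_z] <;> vs <;> simp only [iv_u, iv_x, iv_y, iv_z, map_neg] <;> ring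

namespace Cx

variable {Γ : Type*} [Group Γ] [DistribMulAction Γ (V K)] {p : ℕ} {P : Sylow p Γ} {A : K → Γ}
  (h : Cx P A) [Finite K] [Finite Γ] [Fact p.Prime]
include h

theorem exists_i : ∃ i : Γ, ∀ v : V K, i • v = iv v :=
  (h.h (-1) (by simp) (by simp)).imp fun g hg v => by
    rw [hg]; ext <;> simp [nm, ad]

theorem conj_i (h2 : (2 : K) ≠ 0) {i : Γ} (hi : ∀ v : V K, i • v = iv v) (g : Γ)
    (e : In0 ((g * i * g⁻¹) • (e0 : V K))) : ∃ t, (∀ v : V K, (g * i * g⁻¹) • v = at' t (iv v)) ∨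
      ∀ v : V K, (g * i * g⁻¹) • v = at' t (-iv v) := by
  have lin := h.lin_conj (k := i) (fun l v => by rw [hi, hi]; ext <;> simp) g
  have sq : ∀ v : V K, (g * i * g⁻¹) • (g * i * g⁻¹) • v = v := fun v => by
    simp only [mul_smul, inv_smul_smul, hi]
    rw [show iv (iv (g⁻¹ • v)) = g⁻¹ • v by ext <;> simp, smul_inv_smul]
  have no : ∀ (ε : ℤ) (t : K), ε * ε = 1 → ¬ ∀ v : V K, (g * i * g⁻¹) • v = ε • at' t v :=
    fun ε t hε e => by
      have cs : ε = 1 ∨ ε = -1 := Int.eq_one_or_neg_one_of_mul_eq_one hε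
      have t0 : t = 0 := by
        have := congrArg V.x (sq e1)
        rw [e, e] at this
        rcases cs with rfl | rfl <;> simpa [← two_mul, h2, ← neg_add] using this
      have e' : ∀ v : V K, iv v = ε • v := fun v => by
        have := e (g • v)
        rw [mul_smul, inv_smul_smul, mul_smul, t0, at_zero, ← smul_comm g ε, hi] at this
        exact MulAction.injective g this
      have a := congrArg V.u (e' e1)
      have b := congrArg V.z (e' e0)
      rcases cs with rfl | rfl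
      · exact h2 (by simp only [one_smul, iv_z, e0_z] at b; linear_combination -b)
      · exact h2 (by simp only [neg_smul, one_smul, iv_u, e1_u, neg_u] at a; linear_combination a)
  obtain ⟨t, s, u, hu, γ, hs, hu0, e⟩ := h.B' e
  generalize g * i * g⁻¹ = j at *
  have hF : ∀ l, φ l = l → γ l = l := fun l hl => by
    have := congrArg V.u (lin ⟨l, hl⟩ e1)
    simp only [e, at'_u, lam_u, sm_u, e1_u, mul_one, map_one] at this
    exact mul_left_cancel₀ hu0 (this.trans (mul_comm _ _))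
  have u2 : u * u = 1 := by simpa [e, hF u hu] using congrArg V.u (sq e1)
  have x2 : ∀ x, s * u * γ (s * u) * γ (γ x) = x := fun x => by
    simpa [e, mul_assoc] using congrArg V.x (sq (ex x))
  have c1 : s * u * γ (s * u) = 1 := by simpa using x2 1
  have γ1 := aut_invol hF fun x => by simpa only [c1, one_mul] using x2 x
  have s2 : s * s = 1 := by rw [γ1] at c1; linear_combination c1 - s * s * u2
  rcases mul_self_eq_one_iff.1 s2 with rfl | rfl <;> rcases mul_self_eq_one_iff.1 u2 with rfl | rfl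
  · exact (no 1 t rfl fun v => by rw [e, one_smul]; congr 1; ext <;> simp [γ1]).elim
  · exact (no (-1) t rfl fun v => by rw [e]; ext <;> simp [γ1, cr_neg, tr_neg] <;> ring).elim
  · exact ⟨t, Or.inl fun v => by rw [e]; congr 1; ext <;> simp [γ1, nm, ad]⟩
  · exact ⟨t, Or.inr fun v => by rw [e]; congr 1; ext <;> simp [γ1, nm, ad]⟩

theorem st3_odd (h2 : (2 : K) ≠ 0) {v₀ : V K} (hv₀ : Om Γ v₀) (hu₀ : v₀.u = 0) : v₀.x = 0 := by
  by_contra hx₀
  obtain ⟨t₀, ht₀⟩ := cr_surj h2 hx₀ (-v₀.y)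
  obtain ⟨v, hv, hu, hx, hy⟩ : ∃ v : V K, Om Γ v ∧ v.u = 0 ∧ v.x ≠ 0 ∧ v.y = 0 :=
    ⟨_, h.at_om hv₀ t₀, hu₀, by simpa [hu₀] using hx₀, by simp [hu₀, cr_comm t₀, ht₀]⟩
  clear ht₀ hx₀ hu₀ hv₀
  obtain ⟨i, hi⟩ := h.exists_i
  have ivv : iv v = -v := by ext <;> simp [hu, hy]
  obtain ⟨g, hg, cm⟩ : ∃ g : Γ, In0 (g • v) ∧ ∀ w : V K, g • iv w = iv (g • w) := by
    obtain ⟨h0, g, hg⟩ := hv
    have g0 := (smul_ne_zero_iff_ne g).2 h0
    have e : (g * i * g⁻¹) • g • v = -(g • v) := by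
      rw [mul_smul, inv_smul_smul, mul_smul, hi, ivv, smul_neg]
    obtain ⟨t, e' | e'⟩ := h.conj_i h2 hi g (h.in0_of hg g0 (by
      rw [e]; simp [In0, hg.1, hg.2.1, hg.2.2]) in0_e0)
    · refine ⟨A (-(t / 2)) * g, by rwa [mul_smul, h.hA, hg.fix], fun w => ?_⟩
      have := e' (g • w)
      rw [mul_smul, inv_smul_smul, mul_smul, hi] at this
      rw [mul_smul, mul_smul, this, h.hA, h.hA, at_at, iv_at]
      congr 1
      field_simp; ring
    · have := congrArg V.z (e.symm.trans (e' _))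
      simp only [neg_z, at'_z, neg_y, neg_x, neg_u, iv_x, iv_y, iv_z, iv_u, hg.1, hg.2.1, hg.2.2,
        neg_zero, mul_zero, tr_zero, add_zero] at this
      exact (mul_ne_zero h2 (hg.z_ne g0) (by linear_combination -this)).elim
  have g0 := (smul_ne_zero_iff_ne g).2 hv.1
  have K1 : ∀ w : V K, w.x = 0 → w.z = 0 → V.om w v = 0 →
      (g • w).u = 0 ∧ (g • w).x = 0 ∧ (g • w).z = 0 := fun w a b c => by
    have e := cm w
    rw [show iv w = w by ext <;> simp [a, b]] at e
    refine ⟨hg.u_of g0 (h.perp g c), ?_, ?_⟩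
    · exact (mul_eq_zero.1 (by linear_combination congrArg V.x e - iv_x (g • w) * 0 + iv_x (g • w) :
        2 * (g • w).x = 0)).resolve_left h2
    · exact (mul_eq_zero.1 (by linear_combination congrArg V.z e + iv_z (g • w) :
        2 * (g • w).z = 0)).resolve_left h2
  have omy : ∀ y, V.om (ey y) v = tr (y * v.x) := fun y => by simp [V.om]
  have N := nm_ne_zero hx
  by_cases h3 : (3 : K) = 0
  · have e : at' v.x v = v + ey (2 * ad v.x) := by
      ext <;> simp [hu, hy, cr_self, mul_comm (ad v.x), mul_ad, tr_fix (φ_nm _), h3]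
    obtain ⟨a, b, -⟩ := K1 (ey (2 * ad v.x)) rfl rfl (by
      rw [omy]; kunf; linear_combination 2 * v.x * φ v.x * φ (φ v.x) * h3)
    have o := (h.at_om hv v.x).act g
    obtain ⟨l, e'⟩ := h.line (h.st1 o (by simp [e, smul_add, a, hg.1])
      (by simp [e, smul_add, b, hg.2.1])) hg hv.1
    rw [e] at e'
    exact mul_ne_zero h2 (ad_ne_zero hx) (by simpa [hy] using congrArg V.y e')
  obtain ⟨k, hk⟩ := h.h 2 (map_ofNat _ 2) h2
  have f2 : φ (2 : K) = 2 := map_ofNat _ 2
  have hk' : ∀ w : V K, (k • w).x = 2 * w.x ∧ (k • w).y = w.y ∧ 2 * (k • w).z = w.z ∧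
      (k • w).u = 4 * w.u := fun w => by
    rw [hk]; vs; simp only [one_ap]; refine ⟨?_, ?_, ?_, ?_⟩ <;> field_simp
    ring
  have lin := h.lin_conj (k := k) (fun l w => by rw [hk, hk]; ext <;> simp <;> ring) g⁻¹
  rw [inv_inv] at lin
  have ap : ∀ w : V K, (g⁻¹ * k * g) • w = g⁻¹ • k • g • w := fun w => by rw [mul_smul, mul_smul]
  have H1 : ∀ w : V K, w.x = 0 → w.z = 0 → V.om w v = 0 → (g⁻¹ * k * g) • w = w := fun w a b c => by
    obtain ⟨a, b, c⟩ := K1 w a b c
    obtain ⟨a', b', c', d'⟩ := hk' (g • w)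
    rw [ap, inv_smul_eq_iff]
    exact V.ext (by simp [d', a]) (by simp [a', b]) b' (by simpa [c, h2] using c')
  have H2 : (g⁻¹ * k * g) • v + (g⁻¹ * k * g) • v = v := by
    obtain ⟨a', b', c', d'⟩ := hk' (g • v)
    rw [ap, ← smul_add, inv_smul_eq_iff]
    exact V.ext (by simp [d', hg.1]) (by simp [a', hg.2.1]) (by simp [b', hg.2.2])
      (by rw [add_z, ← two_mul, c'])
  obtain ⟨m, H3⟩ : ∃ m : Fx K, (g⁻¹ * k * g) • e0 = e0 + e0 + m • v := by
    obtain ⟨a', b', c', d'⟩ := hk' (g • e0)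
    have e := cm e0
    rw [show iv (e0 : V K) = -e0 by ext <;> simp, smul_neg] at e
    have a : (g • (e0 : V K)).u = 0 := (mul_eq_zero.1 (by
      linear_combination -congrArg V.u e - iv_u (g • (e0 : V K)) + neg_u (g • (e0 : V K)) :
        2 * (g • (e0 : V K)).u = 0)).resolve_left h2
    have b : (g • (e0 : V K)).y = 0 := (mul_eq_zero.1 (by
      linear_combination -congrArg V.y e - iv_y (g • (e0 : V K)) + neg_y (g • (e0 : V K)) :
        2 * (g • (e0 : V K)).y = 0)).resolve_left h2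
    obtain ⟨m, e'⟩ := h.line (g := g) (v := (g⁻¹ * k * g) • e0 - (e0 + e0)) (by
      rw [smul_sub, ap, smul_inv_smul, smul_add]; simp [In0, a', b', d', a, b, two_mul]) hg hv.1
    exact ⟨m, by rw [← e']; abel⟩
  generalize g⁻¹ * k * g = κ at *
  by_cases hm : m = 0
  · rw [hm, zero_smul, add_zero] at H3
    obtain ⟨t, s, u, hu', γ, -, -, e⟩ := h.B' (g := κ) (by simp [H3, In0])
    obtain ⟨y₁, hy₁⟩ := exists_tr hx (r := -v.z) (by rw [map_neg, v.hz])
    have fx : ∀ l, φ l = l → u * γ l = l := fun l hl => by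
      have := congrArg V.u (H1 ((⟨l, hl⟩ : Fx K) • (e1 + ey y₁)) (by simp) (by simp)
        (by rw [om_sm]; simp [V.om, mul_comm y₁, hy₁]))
      rw [e] at this
      simpa using this
    have u1 : u = 1 := by simpa using fx 1 (map_one _)
    obtain ⟨y₀, y0, hy₀, -⟩ := perp2 v.x v.x
    have a := congrArg (fun w => nm (V.y w)) (H1 (ey y₀) rfl rfl (by rw [omy, mul_comm, hy₀]))
    have b := congrArg V.z H3
    have c := fx _ (φ_nm y₀)
    simp only [e, u1, at'_y, lam_y, lam_x, lam_u, ey_y, ey_x, ey_u, map_zero, mul_zero, cr_zero,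
      add_zero, mul_one, nm_mul, ← aut_nm, at'_z, lam_z, e0_z, e0_y, e0_x, e0_u, map_one, tr_zero,
      add_z, one_mul] at a b c
    rw [c, show nm (ad s) = nm s ^ 2 by kunf; ring, b] at a
    exact mul_ne_zero h3 (nm_ne_zero y0) (by linear_combination a)
  · have m0 : (m : K) ≠ 0 := fun e => hm (Subtype.ext e)
    have fq : φ (-(2 * m : K)⁻¹) = -(2 * m : K)⁻¹ := by rw [map_neg, map_inv₀, map_mul, f2, φF]
    obtain ⟨r, r1, r2⟩ := exists_ad0 h2 h3 (fix_div fq (φ_nm v.x))
    have e : at' (v.x * r) v = v + ey (cr (v.x * r) v.x) + (⟨_, fq⟩ : Fx K) • e0 := by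
      ext <;> simp only [at'_u, at'_x, at'_y, at'_z, add_u, add_x, add_y, add_z, sm_u, sm_x, sm_y,
        sm_z, e0_u, e0_x, e0_y, e0_z, ey_u, ey_x, ey_y, ey_z, hu, hy, mul_zero, add_zero, tr_zero]
      rw [ad_mul, show ad v.x * ad r * v.x = nm v.x * ad r by rw [← mul_ad]; ring, tr_smul (φ_nm _),
        r2]
      field_simp
    have o := (h.at_om hv (v.x * r)).act κ
    rw [e, smul_add, smul_add, lin, H3, H1 (ey _) rfl rfl (by
      rw [omy]; kunf at r1 ⊢; linear_combination 2 * v.x * φ v.x * φ (φ v.x) * r1)] at o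
    have a1 := congrArg V.u H2
    have a2 := congrArg V.x H2
    have a3 := congrArg V.y H2
    simp only [add_u, add_x, add_y, ← two_mul, hu, hy, mul_eq_zero, h2, false_or] at a1 a2 a3
    have := (h.st1 o (by simp [a1, hu]) (by simp [← a2]; field_simp; ring)).2.2
    have r0 : r = 0 := by simpa [hx] using cr_eq_zero h2 hx (b := v.x * r) (by
      simpa [a3, hy, cr_comm v.x] using this)
    simp [r0, eq_comm (a := (0 : K)), N, h2, m0] at r2

end Cx

end V

end Cfsg.Agent.D3
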