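import Cfsg.Agent.D3.V3

/-! Groups acting on `Q1/Z`: double transitivity. -/

set_option autoImplicit false
set_option linter.unusedSectionVars false

namespace Cfsg.Agent.D3

namespace V

namespace Cx

variable {K : Type*} [Field K] [TF K] {Γ : Type*} [Group Γ] [DistribMulAction Γ (V K)] {p : ℕ}
  {P : Sylow p Γ} {A : K → Γ} (h : Cx P A) [Finite K] [Finite Γ] [Fact p.Prime] [CharP K p]
include h

theorem st3 {v : V K} (hv : Om Γ v) (hu : v.u = 0) : In0 v :=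
  h.st1 hv hu ((em ((2 : K) = 0)).elim (fun h2 => h.st3_two h2 hv hu) fun h2 => h.st3_odd h2 hv hu)

theorem opp1 {v w : V K} (hv : Om Γ v) (hw : Om Γ w) (a : v.u = 1) (b : v.x = 0) (c : w.u = 1)
    (d : w.x = 0) {t : K} (e : nm t + tr (t * (v.y + w.y)) + w.z - v.z = 0) : t = 0 := by
  obtain ⟨h0, g, hg⟩ := hv
  obtain ⟨l, e'⟩ := h.line (h.st3 ((h.at_om hw t).act g) (hg.u_of ((smul_ne_zero_iff_ne g).2 h0)
    (h.perp g (by
      rw [mul_add, tr_add] at e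
      simp only [V.om, at'_u, at'_x, at'_z, a, b, c, d, mul_zero, tr_zero, zero_add, mul_one]
      linear_combination -e)))) hg h0
  simpa [b, c, d] using congrArg V.x e'

theorem p2 (h2 : (2 : K) = 0) : p = 2 :=
  (Nat.prime_dvd_prime_iff_eq Fact.out Nat.prime_two).1 ((CharP.cast_eq_zero_iff K p 2).1 h2)

theorem fix_of_comm {z : Γ} {t : K} (ht : t ≠ 0) (e : Commute z (A t)) : In0 (z • (e0 : V K)) :=
  h.fixO (om_e0'.act z) ht (by rw [← h.hA, ← mul_smul, ← e.eq, mul_smul, h.hA, in0_e0.fix])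

theorem trans (h2 : (2 : K) = 0) {t t' : K} (ht : t ≠ 0) (ht' : t' ≠ 0) :
    ∃ (g : Γ) (s u : K) (hu : φ u = u) (γ : K ≃+* K), s ≠ 0 ∧ u ≠ 0 ∧ s * γ t = t' ∧
      ∀ v : V K, g • v = lam s u hu γ v := by
  obtain ⟨g, hg⟩ := h.mv
  have sq : ∀ t, A t * A t = 1 := fun t => by rw [h.A_mul, ← two_mul, h2, zero_mul, h.A_zero]
  have sq' : g * A 1 * g⁻¹ * (g * A 1 * g⁻¹) = 1 := by
    rw [conj_mul, sq]; simp
  have key : ∀ t, t ≠ 0 → ∃ d, d * A t * d⁻¹ = g * A 1 * g⁻¹ := fun t ht => by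
    rcases Nat.even_or_odd (orderOf (A t * (g * A 1 * g⁻¹))) with e | e
    · obtain ⟨z, -, o, c1, c2, -⟩ := H6.exists_central_involution_of_even (sq t) sq' e
      have z2 : z ^ p ^ 1 = 1 := by rw [h.p2 h2, pow_one, ← o, pow_orderOf_eq_one]
      obtain ⟨r, rfl⟩ := h.pel z2 (h.fix_of_comm ht c1)
      have r0 : r ≠ 0 := by rintro rfl; simp [h.A_zero] at o
      obtain ⟨r', e'⟩ := h.pel (g := g⁻¹ * A r * g) (k := 1) (by
        rw [← inv_inv g, inv_inv g⁻¹, conj_pow, z2]; simp) (h.fix_of_comm one_ne_zero (by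
          have := c2.eq
          rw [Commute, SemiconjBy]
          calc g⁻¹ * A r * g * A 1 = g⁻¹ * (A r * (g * A 1 * g⁻¹)) * g := by group
            _ = A 1 * (g⁻¹ * A r * g) := by rw [this]; group))
      refine (hg (h.fixO (om_e0'.act g) r0 ?_)).elim
      rw [← h.hA, ← mul_smul, show A r * g = g * A r' by rw [← e']; group, mul_smul, h.hA,
        in0_e0.fix]
    · exact (H6.exists_conj_of_odd (sq t) sq' e).imp fun _ h => h.2
  obtain ⟨d, hd⟩ := key t ht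
  obtain ⟨d', hd'⟩ := key t' ht'
  have e : d'⁻¹ * d * A t * (d'⁻¹ * d)⁻¹ = A t' := by
    calc _ = d'⁻¹ * (d * A t * d⁻¹) * d' := by group
      _ = _ := by rw [hd, ← hd']; group
  generalize d'⁻¹ * d = k at e
  obtain ⟨r, s, u, hu, γ, hs, hu0, e'⟩ := h.B' (g := k) (h.fixO (om_e0'.act k) ht' (by
    rw [← h.hA, ← e, mul_smul, inv_smul_smul, mul_smul, h.hA, in0_e0.fix]))
  exact ⟨A (-r) * k, s, u, hu, γ, hs, hu0, h.A_inj ((h.conjA e' t).symm.trans e), fun v => by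
    rw [mul_smul, e', h.hA, at_at, neg_add_cancel, at_zero]⟩

theorem pt {v : V K} (hv : Om Γ v) (a : v.u = 1) (b : v.x = 0) : v = e1 := by
  by_cases h2 : (2 : K) = 0
  · have z0 : ∀ v : V K, Om Γ v → v.u = 1 → v.x = 0 → v.z = 0 := fun v hv a b => by
      simpa [Qf, a, b] using h.qf0 h2 hv
    refine V.ext a b (by_contra fun hy => ?_) (z0 v hv a b)
    have hy : v.y ≠ 0 := hy
    obtain ⟨m, hm⟩ := exists_indep (ad_ne_zero hy)
    obtain ⟨g, s, u, hu, γ, hs, hu0, e, hg⟩ := h.trans h2 (ad_ne_zero hy) (t' := m)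
      (by rintro rfl; exact hm (by kunf; ring))
    have o := h.sm (hv.act g) (l := ⟨u⁻¹, by rw [mem_Fx, map_inv₀, hu]⟩)
      fun e => inv_ne_zero hu0 (congrArg Subtype.val e)
    rw [hg] at o
    have c : v.y + ad s * γ v.y = 0 := by
      by_contra hc
      obtain ⟨t, t0, ht⟩ := exists_root hc
      refine t0 (h.opp1 hv o a b (by simp [a, hu0]) (by simp [b]) ?_)
      rw [← ht]
      simp only [sm_y, sm_z, lam_y, lam_z, z0 v hv a b, map_zero, mul_zero, add_zero, sub_zero]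
      congr 3
      field_simp
    have c' : ad v.y = nm s * m := by
      rw [← e, aut_ad, ← mul_assoc, ← ad_ad, ← ad_mul]
      congr 1
      linear_combination c - ad s * γ v.y * h2
    have N := nm_ne_zero hs
    refine hm ?_
    rw [show m = (nm s)⁻¹ * ad v.y by rw [c']; field_simp]
    exact wg_smul (by rw [map_inv₀, φ_nm]) _
  · have y0 : v.y = 0 := by
      by_contra hy
      obtain ⟨t, t0, ht⟩ := exists_root (mul_ne_zero h2 hy)
      exact t0 (h.opp1 hv hv a b a b (by rw [← ht, two_mul]; ring))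
    obtain ⟨i, hi⟩ := h.exists_i
    obtain ⟨t, ht⟩ := nm_surj (t := 2 * v.z) (by rw [map_mul, map_ofNat, v.hz])
    have := h.opp1 hv (w := iv v) (hi v ▸ hv.act i) a b a (by simp [b]) (t := t)
      (by simp [y0, ht]; ring)
    exact V.ext a b y0 (by simpa [this, h2, eq_comm (a := (0 : K))] using ht)

theorem orbit' {v : V K} (hv : Om Γ v) (hu : v.u ≠ 0) :
    at' (-(v.x / v.u)) ((⟨v.u, v.hu⟩ : Fx K)⁻¹ • v) = e1 ∧ Om Γ (e1 : V K) := by
  have o := h.at_om (h.sm hv (l := (⟨v.u, v.hu⟩ : Fx K)⁻¹)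
    (inv_ne_zero fun e => hu (congrArg Subtype.val e))) (-(v.x / v.u))
  have e := h.pt o (by simp [hu]) (by simp [hu]; field_simp; ring)
  exact ⟨e, e ▸ o⟩

theorem orbit {v : V K} (hv : Om Γ v) : In0 v ∨ ∃ (l : Fx K) (t : K), l ≠ 0 ∧ v = l • at' t e1 := by
  by_cases hu : v.u = 0
  · exact Or.inl (h.st3 hv hu)
  · have l0 : (⟨v.u, v.hu⟩ : Fx K) ≠ 0 := fun e => hu (congrArg Subtype.val e)
    refine Or.inr ⟨_, v.x / v.u, l0, ?_⟩
    rw [← (h.orbit' hv hu).1, at_at, add_neg_cancel, at_zero, smul_inv_smul₀ l0]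

theorem om_e1' : Om Γ (e1 : V K) := by
  obtain ⟨g, hg⟩ := h.mv
  exact (h.orbit' (om_e0'.act g) fun e => hg (h.st3 (om_e0'.act g) e)).2

theorem keepV2 {g : Γ} (e : In0 (g • (e0 : V K))) {v : V K} (a : v.u = 0) (b : v.x = 0) :
    (g • v).u = 0 ∧ (g • v).x = 0 := by
  obtain ⟨t, s, u, hu, γ, -, -, e⟩ := h.B' e
  simp [e, a, b]

theorem Yz {g : Γ} (hg : In0 (g • (e1 : V K))) {w : V K} : (g • w).u = 0 ↔ w.z = 0 := by
  have g0 := (smul_ne_zero_iff_ne g).2 h.om_e1'.1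
  refine ⟨fun e => ?_, fun e => hg.u_of g0 (h.perp g (by simp [e]))⟩
  have := h.perp g⁻¹ (v := g • w) (w := g • e1) (by simp [V.om, e, hg.1, hg.2.1, hg.2.2])
  rw [inv_smul_smul, inv_smul_smul] at this
  simpa using this

theorem Y_two (h2 : (2 : K) = 0) {g : Γ} (hg : In0 (g • (e1 : V K))) {w₁ : V K}
    (a₁ : (g • w₁).u = 0) (b₁ : (g • w₁).x = 0) : w₁.y = 0 := by
  by_contra hy₁
  obtain ⟨β, hβ⟩ := h.semi g
  let Y : V K → Prop := fun w => (g • w).u = 0 ∧ (g • w).x = 0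
  have e10 := h.om_e1'.1
  have g0 := (smul_ne_zero_iff_ne g).2 e10
  have Ysm : ∀ (l : Fx K) w, Y w → Y (l • w) := fun l w hw => by simp [Y, hβ, hw.1, hw.2]
  have Yk : ∀ k : Γ, In0 (g • k • (e1 : V K)) → ∀ w, Y w → Y (k • w) := fun k hk w hw => by
    simpa [mul_smul] using h.keepV2 (g := g * k * g⁻¹) (h.in0_of hg g0
      (by simpa [mul_smul] using hk) in0_e0) hw.1 hw.2
  have iso : ∀ w w', Y w → Y w' → tr (w.x * w'.y) = tr (w'.x * w.y) := fun w w' hw hw' => by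
    have := h.perp g⁻¹ (v := g • w) (w := g • w') (by simp [V.om, hw.1, hw.2, hw'.1, hw'.2])
    simp only [inv_smul_smul, V.om, (h.Yz hg).1 hw.1, (h.Yz hg).1 hw'.1] at this
    rw [mul_comm w'.x]
    linear_combination -this
  have sg : ∀ w, Y w → tr (w.x * w.y) = 0 := fun w hw => by
    simpa [Qf, (h.Yz hg).1 hw.1] using h.qf h2 g⁻¹ (g • w) (by simp [Qf, hw.1, hw.2])
  have onto : ∀ w, Y w → w.y ≠ 0 → ∀ y, y ≠ 0 → ∃ w', Y w' ∧ w'.y = y ∧ (w.x = 0 → w'.x = 0) :=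
    fun w hw hy y y0 => by
      obtain ⟨k, s, u, hu, γ, hs, hu0, e, hk⟩ := h.trans h2 (ad_ne_zero hy) (ad_ne_zero y0)
      have e' := congrArg ad e
      rw [ad_mul, ← aut_ad, ad_ad, ad_ad, map_mul] at e'
      have N := nm_ne_zero y0
      refine ⟨(⟨γ (nm w.y) / (u * nm y), fix_div (by rw [φ_aut, φ_nm])
        (by rw [map_mul, hu, φ_nm])⟩ : Fx K) • k • w, Ysm _ _ (Yk k (by
          rw [hk, show lam s u hu γ e1 = (⟨u, hu⟩ : Fx K) • e1 by ext <;> simp, hβ]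
          exact hg.sm _) w hw), ?_, fun hx => by simp [hk, hx]⟩
      simp only [hk, sm_y, lam_y]
      field_simp
      linear_combination e'
  obtain ⟨w₀, Y₀, x₀, y₀⟩ : ∃ w, Y w ∧ w.x = 0 ∧ w.y ≠ 0 := by
    by_contra! hn
    have x1 : w₁.x ≠ 0 := fun e => hy₁ (hn _ ⟨a₁, b₁⟩ e)
    obtain ⟨y₂, e₂⟩ := exists_tr x1 (map_one φ)
    obtain ⟨w₂, Y₂, rfl, -⟩ := onto _ ⟨a₁, b₁⟩ hy₁ y₂ (by rintro rfl; simp at e₂)
    obtain ⟨y₃, n₃, e₃, e₃'⟩ := perp2 w₁.x w₂.x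
    obtain ⟨w₃, Y₃, rfl, -⟩ := onto _ ⟨a₁, b₁⟩ hy₁ y₃ n₃
    have s1 := sg _ ⟨a₁, b₁⟩
    have s2 := sg _ Y₂
    have i12 := (iso _ _ Y₂ ⟨a₁, b₁⟩).trans e₂
    have ind : wg w₁.x w₂.x ≠ 0 := fun e => by
      obtain ⟨l, hl, e⟩ := dep_of_wg x1 e
      rw [e, mul_assoc, tr_smul hl, s1] at i12
      simp at i12
    obtain ⟨l₃, hl₃, c₃⟩ := perp_wg ind e₃ e₃'
    refine n₃ (hn _ Y₃ (eq_zero_of_tr fun y => ?_))
    obtain ⟨l, hl, c⟩ := perp_wg ind (y := y - tr (w₂.x * y) * w₁.y - tr (w₁.x * y) * w₂.y)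
      (by rw [mul_sub, mul_sub, tr_sub, tr_sub, mul_left_comm, tr_smul (φ_tr _), mul_left_comm,
        tr_smul (φ_tr _), s1, e₂]; ring)
      (by rw [mul_sub, mul_sub, tr_sub, tr_sub, mul_left_comm, tr_smul (φ_tr _), mul_left_comm,
        tr_smul (φ_tr _), s2, i12]; ring)
    have l0 : l₃ ≠ 0 := by rintro rfl; exact n₃ (by simpa using c₃)
    have s3 := sg _ Y₃
    rw [c₃, mul_left_comm, tr_smul hl₃] at s3
    rw [show y = l * wg w₁.x w₂.x + tr (w₂.x * y) * w₁.y + tr (w₁.x * y) * w₂.y by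
      rw [← c]; ring, mul_add, mul_add, tr_add, tr_add, mul_left_comm, tr_smul hl, mul_left_comm,
      tr_smul (φ_tr _), mul_left_comm, tr_smul (φ_tr _), iso _ _ Y₃ ⟨a₁, b₁⟩, iso _ _ Y₃ Y₂, e₃, e₃',
      (mul_eq_zero.1 s3).resolve_left l0]
    ring
  have Yy : ∀ y, Y (ey y) := fun y => by
    by_cases y0 : y = 0
    · rw [show ey y = 0 by ext <;> simp [y0]]; simp [Y]
    obtain ⟨w, hw, rfl, hx⟩ := onto _ Y₀ y₀ y y0
    rw [show ey w.y = w - (⟨w.u, w.hu⟩ : Fx K) • e1 by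
      ext <;> simp [hx x₀, (h.Yz hg).1 hw.1]]
    simp [Y, smul_sub, hβ, hw.1, hw.2, hg.1, hg.2.1]
  have Yx : ∀ w, Y w → w.x = 0 := fun w hw =>
    eq_zero_of_tr fun y => by simpa using iso _ _ hw (Yy y)
  have ap : ∀ w : V K, g • (g⁻¹ * A 1 * g) • w = at' 1 (g • w) := fun w => by
    rw [mul_smul, mul_smul, smul_inv_smul, h.hA]
  have f1 : ∀ l : Fx K, (g⁻¹ * A 1 * g) • l • (e1 : V K) = l • e1 := fun l =>
    MulAction.injective g (by simp only [ap, hβ, (hg.sm _).fix])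
  obtain ⟨n, hn⟩ := H4.Sp.sylow_pow P ((h.hP _).2 ⟨1, rfl⟩) g
  have f2 : ∀ y : K, ∃ c : Fx K, (g⁻¹ * A 1 * g) • ey y - ey y = c • e1 := fun y =>
    h.line (by rw [smul_sub, ap]; simp [In0, (Yy y).1, (Yy y).2]) hg e10
  have ne : g⁻¹ * A 1 * g ≠ 1 := fun e => by
    have : A 1 = A 0 := by
      rw [h.A_zero, show A 1 = g * (g⁻¹ * A 1 * g) * g⁻¹ by group, e]; group
    exact one_ne_zero (h.A_inj this)
  generalize g⁻¹ * A 1 * g = a at *
  rcases h.orbit (om_e0'.act a) with e | ⟨l, t, l0, e⟩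
  · obtain ⟨r, rfl⟩ := h.pel hn e
    have := congrArg V.x (f1 1)
    simp only [h.hA, one_smul, at'_x, e1_x, e1_u, mul_one, zero_add] at this
    exact ne (this ▸ h.A_zero)
  have t0 : t = 0 := eq_zero_of_tr fun y => by
    obtain ⟨c, hc⟩ := f2 y
    have k := h.keepV2 (g := g * A (-t) * a) (by
      rw [mul_smul, mul_smul, e, h.hA, at_sm, at_at, neg_add_cancel, at_zero, hβ]
      exact hg.sm _) (v := ey y) rfl rfl
    rw [mul_smul, mul_smul, h.hA, sub_eq_iff_eq_add.1 hc] at k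
    have k1 := Yx _ k
    have k2 := (h.Yz hg).1 k.1
    simp only [at'_x, at'_z, add_x, add_y, add_z, add_u, sm_x, sm_y, sm_z, sm_u, e1_x, e1_y, e1_z,
      e1_u, ey_x, ey_y, ey_z, ey_u, mul_zero, add_zero, zero_add, mul_one, tr_zero, neg_mul,
      tr_neg] at k1 k2
    rw [← mul_ad] at k2
    linear_combination -k2 + ad (-t) * k1
  rw [t0, at_zero, ← f1] at e
  simpa using congrArg V.z (MulAction.injective a e)

theorem Y {g : Γ} (hg : In0 (g • (e1 : V K))) {w : V K} (a : (g • w).u = 0) (b : (g • w).x = 0) :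
    w.y = 0 := by
  by_cases h2 : (2 : K) = 0
  · exact h.Y_two h2 hg a b
  obtain ⟨i, hi⟩ := h.exists_i
  have e10 := h.om_e1'.1
  have g0 := (smul_ne_zero_iff_ne g).2 e10
  have ap : ∀ w : V K, (g * i * g⁻¹) • g • w = g • iv w := fun w => by
    rw [mul_smul, inv_smul_smul, mul_smul, hi]
  have e : (g * i * g⁻¹) • g • (e1 : V K) = g • e1 := by rw [ap]; congr 1; ext <;> simp
  obtain ⟨t, e' | e'⟩ := h.conj_i h2 hi g (h.in0_of hg g0 (e.symm ▸ hg) in0_e0)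
  · have := congrArg V.z (e.symm.trans (e' _))
    simp only [at'_z, iv_x, iv_y, iv_z, iv_u, hg.1, hg.2.1, hg.2.2, neg_zero, mul_zero, tr_zero,
      add_zero] at this
    exact (mul_ne_zero h2 (hg.z_ne g0) (by linear_combination this)).elim
  · obtain ⟨l, e''⟩ := h.line (g := g) (v := iv w + w)
      (by rw [smul_add, ← ap, e']; simp [In0, a, b]) hg e10
    simpa [← two_mul, h2] using congrArg V.y e''

end Cx

end V

end Cfsg.Agent.D3
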