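import Cfsg.Agent.D3.V4

/-! Groups acting on `Q1/Z`: the opposite root group and the Weyl elements. -/

set_option autoImplicit false
set_option linter.unusedSectionVars false

namespace Cfsg.Agent.D3

namespace V

namespace Cx

variable {K : Type*} [Field K] [TF K] {Γ : Type*} [Group Γ] [DistribMulAction Γ (V K)] {p : ℕ}
  {P : Sylow p Γ} {A : K → Γ} (h : Cx P A) [Finite K] [Finite Γ] [Fact p.Prime] [CharP K p]
include h

theorem om_R (r : K) : Om Γ (bt r (e0 : V K)) := by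
  by_cases r0 : r = 0
  · rw [show bt r (e0 : V K) = e0 by ext <;> simp [r0]]; exact om_e0'
  have h1 := φ_ne_zero r0
  have h2 := φ_ne_zero h1
  convert h.sm (h.at_om h.om_e1' r⁻¹) (l := ⟨nm r, φ_nm r⟩)
    fun e => nm_ne_zero r0 (congrArg Subtype.val e) using 1
  ext <;> vs <;> field_simp <;> ring

theorem eq_R {w : V K} (hw : Om Γ w) (hz : w.z = 1) : w = bt w.y e0 := by
  rcases h.orbit hw with e | ⟨l, t, -, rfl⟩
  · ext <;> simp [e.1, e.2.1, e.2.2, hz]
  · have : (l : K) * nm t = 1 := by simpa using hz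
    ext
    · simp only [sm_u, at'_u, e1_u, bt_u, e0_u, e0_x, e0_y, e0_z, sm_y, at'_y, e1_y, e1_x, cr_zero,
        mul_zero, tr_zero, add_zero, zero_add, mul_one, nm_smul (φF l),
        show nm (ad t) = nm t ^ 2 by kunf; ring]
      linear_combination -l * (l * nm t + 1) * this
    · simp only [sm_x, at'_x, e1_u, bt_x, e0_x, e0_y, e0_z, sm_y, at'_y, e1_y, e1_x, cr_zero,
        add_zero, zero_add, mul_one, ad_smul (φF l), ad_ad]
      linear_combination -l * t * this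
    · simp
    · simpa using hz

theorem std {g : Γ} (hg : In0 (g • (e1 : V K))) (t : K) (v : V K) :
    (g⁻¹ * A t * g) • v = bt ((g⁻¹ * A t * g) • (e0 : V K)).y v := by
  have ap : ∀ w : V K, g • ((g⁻¹ * A t * g) • w - w) = at' t (g • w) - g • w := fun w => by
    rw [smul_sub, mul_smul, mul_smul, smul_inv_smul, h.hA]
  have lin := h.lin_conj (h.lin_A t) g⁻¹
  rw [inv_inv] at lin
  have f1 : (g⁻¹ * A t * g) • (e1 : V K) = e1 :=
    sub_eq_zero.1 ((smul_eq_zero_iff_eq g).1 (by rw [ap, hg.fix, sub_self]))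
  have f2 : ∀ w : V K, ((g⁻¹ * A t * g) • w).z = w.z := fun w =>
    sub_eq_zero.1 (sub_z _ w ▸ (h.Yz hg).1 (by simp [ap]))
  have f3 : ∀ w : V K, w.z = 0 → ((g⁻¹ * A t * g) • w).y = w.y := fun w hw =>
    sub_eq_zero.1 (sub_y _ w ▸ h.Y hg (by simp [ap]) (by simp [ap, (h.Yz hg).2 hw]))
  generalize g⁻¹ * A t * g = a at *
  generalize hr : (a • (e0 : V K)).y = r
  have R : ∀ s, a • bt s (e0 : V K) = bt r (bt s e0) := fun s => by
    rw [h.eq_R ((h.om_R s).act a) (by simp [f2]), bt_bt]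
    congr 1
    rw [← add_sub_cancel e0 (bt s e0), smul_add, add_y, hr, f3 _ (by simp)]
    simp
  let S : Submodule (Fx K) (V K) :=
    { carrier := {v | a • v = bt r v}
      add_mem' := fun {v w} (hv : _ = _) (hw : _ = _) => show _ = _ by rw [smul_add, bt_add, hv, hw]
      zero_mem' := show _ = _ by rw [smul_zero]; ext <;> simp
      smul_mem' := fun l v (hv : _ = _) => show _ = _ by rw [lin, bt_sm, hv] }
  have m1 : ∀ s, bt s e0 ∈ S := R
  have m0 : e0 ∈ S := by simpa [show bt 0 (e0 : V K) = e0 by ext <;> simp] using m1 0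
  have m2 : ∀ w : V K, w.x = 0 → w.y = 0 → w.z = 0 → w ∈ S := fun w a b c => by
    rw [show w = (⟨w.u, w.hu⟩ : Fx K) • e1 by ext <;> simp [a, b, c]]
    exact S.smul_mem _ (f1.trans (by ext <;> simp))
  obtain ⟨m, hm⟩ := exists_indep (one_ne_zero (α := K))
  obtain ⟨s₁, s₂, e⟩ := cr_add_cr hm (v.x - ad v.y)
  have := m2 (v - ((⟨v.z, v.hz⟩ : Fx K) • e0 + (bt v.y e0 - e0) +
    (bt (1 + s₁) e0 - bt 1 e0 - bt s₁ e0 + e0) + (bt (m + s₂) e0 - bt m e0 - bt s₂ e0 + e0)))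
    (by simp [ad_add]; linear_combination e) (by simp) (by simp)
  exact (S.sub_mem_iff_left (by
    refine add_mem (add_mem (add_mem (S.smul_mem _ m0) (sub_mem (m1 _) m0)) ?_) ?_ <;>
      exact add_mem (sub_mem (sub_mem (m1 _) (m1 _)) (m1 _)) m0)).1 this

theorem exists_bt (r : K) : ∃ b : Γ, ∀ v : V K, b • v = bt r v := by
  obtain ⟨g, hg⟩ := h.om_e1'.2
  obtain ⟨t, rfl⟩ := (Finite.injective_iff_surjective (f := fun t => ((g⁻¹ * A t * g) • (e0 : V K)).y)).1
    (fun s t (e : _ = _) => h.A_inj (mul_left_cancel (mul_right_cancel (h.ext' fun v => by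
      rw [h.std hg, h.std hg t v]; exact congrArg (bt · v) e : g⁻¹ * A s * g = g⁻¹ * A t * g)))) r
  exact ⟨_, h.std hg t⟩

theorem exists_n {k : K} (hk : k ≠ 0) : ∃ n : Γ, ∀ v : V K,
    n • v = lam (k * k) (nm k)⁻¹ (by rw [map_inv₀, φ_nm]) 1 (wv v) := by
  obtain ⟨b, hb⟩ := h.exists_bt k⁻¹
  exact ⟨A (-k) * b * A (-k), fun v => by rw [mul_smul, mul_smul, h.hA, hb, h.hA, word _ k hk]⟩

theorem exists_w : ∃ n : Γ, ∀ v : V K, n • v = wv v :=
  (h.exists_n one_ne_zero).imp fun n hn v => by rw [hn]; ext <;> simp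

theorem exists_tor {k : K} (hk : k ≠ 0) : ∃ n : Γ, ∀ v : V K,
    n • v = lam (k * k) (nm k)⁻¹ (by rw [map_inv₀, φ_nm]) 1 v := by
  obtain ⟨n, hn⟩ := h.exists_n hk
  obtain ⟨w, hw⟩ := h.exists_w
  exact ⟨n * w⁻¹, fun v => by rw [mul_smul, hn, ← hw, smul_inv_smul]⟩

end Cx

end V

end Cfsg.Agent.D3
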