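import Cfsg.Agent.D3.V5

/-! The slice `L1`. -/

set_option autoImplicit false
set_option linter.unusedSectionVars false
set_option linter.style.haveILetI false

open Equiv

namespace Cfsg.Agent.D3

open Cfsg.Fus Cfsg.FusionSystem U H4.Sp V

variable {K : Type} [Field K] [TF K] [Finite K] {F : FusionSystem (⊤ : Subgroup (U K))}
  {p : ℕ} [Fact p.Prime] [CharP K p] {τ : Perm (U K)}

theorem inv_Z_Q1 : Inv F Q1 (sZ K) := fun τ hτ x hx =>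
  mem_Z_of_comm fun w hw => by
    simpa using map_comm hτ hx.1 (hτ.inv_mem hw) (comm_Z _ hx).symm

theorem keepD (hτ : F.Iso Q1 Q1 τ) (h : ∀ x ∈ sZ2 K, τ x ∈ sZ2 K) : ∀ x ∈ sD K, τ x ∈ sD K :=
  fun x hx => ⟨hτ.mem hx.1, mem_Q2_of_comm (by
    have m := Uf.Ea.inv_maps h _ (XE_mem 1 (map_one _))
    simpa using map_comm hτ hx.1 m.1 (comm_Z2 hx.2 m))⟩

theorem l1d (hF : F.IsSaturated p) (hτ : F.Iso Q1 Q1 τ) (h : ∀ x ∈ sZ2 K, τ x ∈ sZ2 K) :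
    ∃ α, F.Iso ⊤ ⊤ α ∧ ∀ x ∈ Q1, α x = τ x :=
  ext_top hF D_Q1 hτ (inv_Z_Q1 τ hτ) h
    (wd hF τ ((hτ.isMap.mono D_Q1).iso_self (keepD hτ h))) (keepD hτ h)

/-- the projection `Q1 → Q1/Z` -/
@[simps] def pv (x : U K) : V K := ⟨x.b, x.c, x.d, x.e, x.hb, x.he⟩

theorem pv_surj (v : V K) : ∃ x ∈ (Q1 : Subgroup (U K)), pv x = v :=
  ⟨⟨0, v.u, v.x, v.y, v.z, 0, v.hu, v.hz, map_zero _⟩, rfl, rfl⟩

theorem pv_cj (g : U K) {x : U K} (hx : x ∈ Q1) : pv (g * x * g⁻¹) = at' (-g.a) (pv x) := by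
  ext
  · exact cj_b g x
  · rw [pv_x, cj_c, mem_Q1.1 hx]; simp [sub_eq_add_neg]
  · rw [pv_y, cj_d g hx]; vs; simp only [pv_u, pv_x, pv_y]; ring
  · rw [pv_z, cj_e g hx]; vs; simp only [pv_u, pv_x, pv_y, pv_z]; ring

theorem pv_au (s u : K) (hu : φ u = u) (γ : K ≃+* K) (x : U K) :
    pv (au s u hu γ x) = lam s u hu γ (pv x) := rfl

theorem au_Q1 (s u : K) (hu : φ u = u) (γ : K ≃+* K) {x : U K} (hx : x ∈ Q1) : au s u hu γ x ∈ Q1 :=
  show s * γ x.a = 0 by rw [mem_Q1.1 hx, map_zero, mul_zero]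

theorem om_pv {x y : U K} (hx : x ∈ Q1) (hy : y ∈ Q1) : om (pv x) (pv y) = (cm x y).f := by
  rw [cm_f_Q1 hx hy, V.om]; simp only [pv_u, pv_x, pv_y, pv_z, mul_comm x.d]; ring

theorem pv_Z2 {x : U K} (hx : x ∈ sZ2 K) : (⟨x.e, x.he⟩ : Fx K) • (e0 : V K) = pv x := by
  ext <;> simp [hx.2.1, hx.2.2.1, hx.2.2.2]

theorem exists_cx [L2] (h : Std p F) : ∃ (Γ : Type) (_ : Group Γ) (_ : Finite Γ)
    (_ : DistribMulAction Γ (V K)) (P : Sylow p Γ) (A : K → Γ), Cx P A ∧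
    (∀ g : Γ, ∃ τ, F.Iso Q1 Q1 τ ∧ ∀ x ∈ Q1, g • pv x = pv (τ x)) ∧
    ∀ τ, F.Iso Q1 Q1 τ → ∃ g : Γ, ∀ x ∈ Q1, g • pv x = pv (τ x) := by
  obtain ⟨Γ, _, _, _, P, ρ, r1, r2, -, r4, r5⟩ :=
    exists_setup ((fn_of_D D_Q1).isFullyAutomized h.sat (topP p)) (pv (K := K))
    (fun x hx y hy => by ext <;> simp [mul_d', mul_e', mem_Q1.1 hy]) pv_surj
    (fun τ hτ x hx h0 => by
      have := inv_Z_Q1 τ hτ x ⟨hx, congrArg V.u h0, congrArg V.x h0, congrArg V.y h0, congrArg V.z h0⟩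
      exact V.ext this.2.1 this.2.2.1 this.2.2.2.1 this.2.2.2.2)
  let f : Γ →* V K ≃ₗ[ℕ] V K := DistribMulAction.toModuleAut ℕ (V K)
  have sj := f.rangeRestrict_surjective
  haveI : Finite f.range := Finite.of_surjective _ sj
  have ap : ∀ (g : Γ) (v : V K), f.rangeRestrict g • v = g • v := fun _ _ => rfl
  have k1 : ∀ g : f.range, ∃ τ, F.Iso Q1 Q1 τ ∧ ∀ x ∈ Q1, g • pv x = pv (τ x) := fun g => by
    obtain ⟨g, rfl⟩ := sj g
    exact ⟨_, r1 g, r5 g⟩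
  have k2 : ∀ τ, F.Iso Q1 Q1 τ → ∃ g : f.range, ∀ x ∈ Q1, g • pv x = pv (τ x) := fun τ hτ => by
    obtain ⟨g, e⟩ := r2 τ hτ
    exact ⟨f.rangeRestrict g, fun x hx => by rw [ap, r5 g x hx, e x hx]⟩
  choose a ha using fun t : K => r2 _ (iso_cj_of_D (F := F) D_Q1 (XA (-t)))
  have act : ∀ (s : Γ) (g : U K), (∀ x ∈ Q1, ρ s x = cj g x) → ∀ v : V K, s • v = at' (-g.a) v :=
    fun s g e v => by
      obtain ⟨x, hx, rfl⟩ := pv_surj v
      rw [r5 s x hx, e x hx, cj_apply, pv_cj g hx]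
  have hA : ∀ t (v : V K), a t • v = at' t v := fun t v => by simpa [XA] using act _ _ (ha t) v
  have fa : ∀ g k : f.range, (∀ v : V K, g • v = k • v) → g = k := fun g k e =>
    Subtype.ext (LinearEquiv.ext e)
  refine ⟨f.range, inferInstance, inferInstance, inferInstance, P.mapSurjective sj,
    fun t => f.rangeRestrict (a t), ⟨fun g e => fa g 1 e, hA, fun g => ⟨?_, ?_⟩, fun g => ?_,
    fun h2 g v hv => ?_, fun g e => ?_, fun c hc c0 => ?_, ?_⟩, k1, k2⟩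
  · rintro ⟨s, hs, rfl⟩
    obtain ⟨g, -, -, e⟩ := mem_innS.1 ((r4 s).1 hs)
    exact ⟨-g.a, fa _ _ fun v => by rw [ap, ap, hA, act s g e]⟩
  · rintro ⟨t, rfl⟩
    exact ⟨a t, (r4 _).2 (mem_innS.2 ⟨_, trivial, norm_of_D D_Q1 _, ha t⟩), rfl⟩
  · classical
    obtain ⟨τ, hτ, e⟩ := k1 g
    refine ⟨fun r => if h : φ r = r then (τ (XF r h)).f else 0, fun v w => ?_⟩
    obtain ⟨x, hx, rfl⟩ := pv_surj v
    obtain ⟨y, hy, rfl⟩ := pv_surj w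
    rw [e x hx, e y hy, om_pv (hτ.mem hx) (hτ.mem hy), ← map_cm hτ hx hy]
    simp only [dif_pos (φ_om _ _)]
    rw [eq_of_Z (cm_Q1 hx hy) (XF_mem _ (φ_om (pv x) (pv y))) (om_pv hx hy).symm]
  · obtain ⟨τ, hτ, e⟩ := k1 g
    obtain ⟨x, hx, rfl⟩ := pv_surj v
    have q : ∀ x ∈ (Q1 : Subgroup (U K)), (x * x).f = Qf (pv x) := fun x hx => by
      rw [sq_f_Q1 hx, h2, Qf]; simp only [pv_u, pv_x, pv_y, pv_z]; ring
    have e1 : x * x = 1 := by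
      refine eq_of_Z ?_ (one_mem _) ((q x hx).trans hv)
      simp [mem_sZ, mul_d', mul_e', mem_Q1.1 hx, ← two_mul, h2]
    rw [e x hx, ← q _ (hτ.mem hx), ← hτ.homOn hx hx, e1, hτ.homOn.map_one]
    rfl
  · obtain ⟨τ, hτ, e'⟩ := k1 g
    obtain ⟨α, hα, e1⟩ := l1d h.sat hτ fun x hx => by
      have := e ⟨x.e, x.he⟩
      rw [pv_Z2 hx, e' x hx.1] at this
      exact ⟨hτ.mem hx.1, this⟩
    obtain ⟨k, s, u, hu, γ, hs, hu0, e2⟩ := h.aut α hα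
    refine ⟨-k.a, s, u, hu, γ, hs, hu0, fun v => ?_⟩
    obtain ⟨x, hx, rfl⟩ := pv_surj v
    rw [e' x hx, ← e1 x hx, e2, pv_cj k (au_Q1 s u hu γ hx), pv_au]
  · obtain ⟨σ, h1, h2⟩ := ((L2.b h c hc c0).mono (le_top (a := Q1))).exists_perm
    obtain ⟨g, e⟩ := k2 σ (h1.iso_self fun x hx => h2 x hx ▸ au_Q1 _ _ _ _ hx)
    refine ⟨g, fun v => ?_⟩
    obtain ⟨x, hx, rfl⟩ := pv_surj v
    rw [e x hx, h2 x hx, pv_au]
  · by_contra! H
    have i2 : Inv F Q1 (sZ2 K) := fun τ hτ x hx => by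
      obtain ⟨g, e⟩ := k2 τ hτ
      have := H g ⟨x.e, x.he⟩
      rw [pv_Z2 hx, e x hx.1] at this
      exact ⟨hτ.mem hx.1, this⟩
    have i4 : Inv F Q1 (sD K) := fun τ hτ => keepD hτ (i2 τ hτ)
    exact one_ne_zero (mem_of_chain h.e1 (Z_Z2.trans (Z2_W.trans (W_D.trans D_Q1)))
      (Z2_W.trans (W_D.trans D_Q1)) (W_D.trans D_Q1) D_Q1 inv_Z_Q1 i2
      (fun τ hτ => wd h.sat τ ((hτ.isMap.mono D_Q1).iso_self (i4 τ hτ))) i4 (g := XA 1)
      (fun x hx => comm_Z _ hx) (fun x hx => cm_Z' _ hx) (fun x hx => cm_Z2' _ hx)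
      (fun x hx => cm_W' _ hx) fun x _ => cm_D _ x)

theorem isMap_au {g s u : _} {hu γ} {α : Perm (U K)} (hα : F.Iso ⊤ ⊤ α)
    (e : ∀ x, α x = g * au s u hu γ x * g⁻¹) : F.IsMap ⊤ (au s u hu γ) :=
  (hα.trans (iso_cj_of_D le_top g⁻¹)).isMap.congr fun x _ => by
    rw [Perm.mul_apply, e, cj_apply]; group

instance instL1 [L2] : L1 where
  a h := by
    obtain ⟨Γ, _, _, _, P, A, c, k1, -⟩ := exists_cx h
    obtain ⟨g, e⟩ := c.exists_w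
    obtain ⟨τ, hτ, e'⟩ := k1 g
    refine ⟨τ, hτ, fun x hx => ?_⟩
    have := (e' x hx).symm.trans (e _)
    exact ⟨congrArg V.u this, congrArg V.x this, congrArg V.y this, congrArg V.z this⟩
  b {K} _ _ _ _ _ _ _ h k hk := by
    obtain ⟨Γ, _, _, _, P, A, c, k1, -⟩ := exists_cx h
    obtain ⟨g, e⟩ := c.exists_tor hk
    obtain ⟨τ, hτ, e'⟩ := k1 g
    obtain ⟨α, hα, e1⟩ := l1d h.sat hτ fun x hx => by
      have := (e' x hx.1).symm.trans (e _)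
      exact ⟨hτ.mem hx.1, by simpa [hx.2.1] using congrArg V.u this,
        by simpa [hx.2.2.1] using congrArg V.x this, by simpa [hx.2.2.2] using congrArg V.y this⟩
    obtain ⟨g', s, u, hu, γ, hs, hu0, e2⟩ := h.aut α hα
    have e3 : ∀ v : V K, at' (-g'.a) (lam s u hu γ v) = lam (k * k) (nm k)⁻¹ _ 1 v := fun v => by
      obtain ⟨x, hx, rfl⟩ := pv_surj v
      rw [← e, e' x hx, ← e1 x hx, e2, pv_cj g' (au_Q1 s u hu γ hx), pv_au]
    obtain rfl : u = (nm k)⁻¹ := by simpa using congrArg V.u (e3 V.e1)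
    have e4 : ∀ x, s * γ x = k * k * x := fun x => mul_left_cancel₀ hu0 (by
      have := congrArg V.x (e3 (ex x))
      simp only [at'_x, lam_x, lam_u, ex_x, ex_u, map_zero, mul_zero, add_zero, one_ap] at this
      linear_combination this)
    obtain rfl : s = k * k := by simpa using e4 1
    obtain rfl : γ = 1 := RingEquiv.ext fun x => mul_left_cancel₀ hs (e4 x)
    exact isMap_au hα e2
  c {K} _ _ _ _ _ _ _ h τ hτ := by
    obtain ⟨Γ, _, _, _, P, A, c, -, k2⟩ := exists_cx h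
    obtain ⟨g, e⟩ := k2 τ hτ
    obtain ⟨β, hβ⟩ := c.semi g
    have e' : ∀ x ∈ sZ2 K, ∃ l : Fx K, pv (τ x) = l • g • e0 := fun x hx =>
      ⟨_, by rw [← e x hx.1, ← pv_Z2 hx, hβ]⟩
    rcases c.orbit (om_e0'.act g) with e0 | ⟨l, t, -, e0⟩
    · refine Or.inl fun x hx => ?_
      obtain ⟨l, e1⟩ := e' x hx
      have := e1 ▸ e0.sm l
      exact ⟨hτ.mem hx.1, this⟩
    · refine Or.inr ⟨XA t, fun x hx => ?_⟩
      obtain ⟨l', e1⟩ := e' x hx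
      have := pv_cj (XA t) (hτ.mem hx.1)
      rw [e1, e0, at_sm, at_sm, at_at, show -(XA t).a + t = 0 from neg_add_cancel t, at_zero] at this
      exact ⟨by simpa using congrArg V.x this, by simpa using congrArg V.y this,
        by simpa using congrArg V.z this⟩
  d hF _ hτ h := l1d hF hτ h

end Cfsg.Agent.D3
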