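import Cfsg.Agent.D3.V6
import Cfsg.Agent.D3.L2
import Cfsg.Agent.D3.W
import Cfsg.Agent.D3.B1b
import Cfsg.Agent.D3.B2b
import Cfsg.Agent.D3.B5b
import Cfsg.Agent.L.Transport2
import Cfsg.Agent.H6.RealQ
import Cfsg.Agent.H5.Flag
import Cfsg.Agent.H9.PL

/-! Assembly of `S5261` from the slices. -/

set_option autoImplicit false
set_option linter.unusedSectionVars false

open Equiv

namespace Cfsg.Agent.D3.Zf

open Cfsg.Fus Cfsg.FusionSystem U

variable {K : Type} [Field K] [TF K] [Finite K] {p : ℕ} [Fact p.Prime] [CharP K p]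
  {F G : FusionSystem (⊤ : Subgroup (U K))} {E : Subgroup (U K)} {σ : Perm (U K)}

theorem ess (hF : F.IsSaturated p) (hE : F.IsEssential p E) : E = Q1 ∨ E = Q2 := by
  by_cases h1 : E ≤ Q1
  · exact .inl (B14.b1 hF E hE h1)
  · exact .inr (B14.b4 hF E hE (by_contra fun h2 => B57.out hF E hE (B2.out hF E hE h1) h1 h2))

theorem keep2 (hσ : F.Iso ⊤ ⊤ σ) {x : U K} (hx : x ∈ Q2) : σ x ∈ Q2 := by
  have z : ∀ τ, F.Iso ⊤ ⊤ τ → ∀ x ∈ sZ K, τ x ∈ sZ K := fun τ hτ x hx => mem_Z_of_comm fun w _ => by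
    simpa using map_comm hτ trivial (x := τ⁻¹ w) trivial (comm_Z _ hx).symm
  have z2 : σ⁻¹ (XE 1 (map_one _)) ∈ sZ2 K := by
    have k : ∀ g, cm g (σ⁻¹ (XE 1 (map_one _))) ∈ sZ K := fun g => by
      rw [cm_left hσ.symm trivial trivial]
      exact z _ hσ.symm _ (cm_Z' _ (XE_mem _ _))
    generalize σ⁻¹ (XE 1 (map_one _)) = v at k ⊢
    have a : v.a = 0 := by simpa [cm_c, XB] using (k (XB 1 (map_one _))).2.2.1
    have b : v.b = 0 := by simpa [cm_c, XA] using (k (XA 1)).2.2.1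
    have c : v.c = 0 := eq_zero_of_cr fun y => by
      simpa [XA, cr_comm] using (cm_d_Q2 (g := XA y) rfl b).symm.trans (k (XA y)).2.2.2.1
    exact ⟨a, b, c, eq_zero_of_tr fun y => by
      simpa [XA, mul_comm] using (cm_e_W _ a b c).symm.trans (k (XA y)).2.2.2.2⟩
  exact mem_Q2_of_comm (by simpa using map_comm hσ trivial trivial (comm_Z2 hx z2))

theorem stab (hF : F.IsSaturated p) (hE : F.IsEssential p E) (hσ : F.Iso ⊤ ⊤ σ) {x : U K} (hx : x ∈ E) :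
    σ x ∈ E := by
  have h := hσ.restrict (R := E) le_top
  rcases ess hF hE with rfl | rfl
  · rcases ess hF (H4.Sp.essential_img hE hσ) with e | e <;> rw [e] at h
    · exact h.mem hx
    · simpa [XB, mem_Q2] using keep2 hσ.symm (h.mem (XB_mem 1 (map_one _)))
  · exact keep2 hσ hx

theorem ess_cases (hF : F.IsSaturated p) : (F.IsEssential p Q1 ∧ F.IsEssential p Q2) ∨
    ∃ Q, (Q = Q1 ∨ Q = Q2 ∨ Q = ⊤) ∧ F.IsNormal Q ∧ F.IsCentric Q := by
  have key : ∀ Q, F.IsEssential p Q → (∀ E, F.IsEssential p E → E = Q) → F.IsNormal Q := fun Q hQ H =>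
    hF.isNormal_of_essential (topP p) fun R hR => by
      rcases hR with rfl | hR
      · exact ⟨le_top, fun τ hτ x hx => stab hF hQ hτ hx⟩
      · exact H R hR ▸ ⟨le_rfl, fun τ hτ x hx => hτ.mem hx⟩
  by_cases h1 : F.IsEssential p Q1 <;> by_cases h2 : F.IsEssential p Q2
  · exact .inl ⟨h1, h2⟩
  · exact .inr ⟨_, .inl rfl, key _ h1 fun E hE => (ess hF hE).resolve_right fun e => h2 (e ▸ hE), h1.isCentric⟩
  · exact .inr ⟨_, .inr (.inl rfl), key _ h2 fun E hE => (ess hF hE).resolve_left fun e => h1 (e ▸ hE),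
      h2.isCentric⟩
  · exact .inr ⟨_, .inr (.inr rfl), hF.isNormal_top (topP p) fun R hR =>
      (ess hF hR).elim (fun e => h1 (e ▸ hR)) fun e => h2 (e ▸ hR), F.isCentric_top⟩

theorem le_step {Q A : Subgroup (U K)} (hA : A ≤ Q) (hn : sD K ≤ Q)
    {w : U K → U K} (hw : ∀ x, w x ∈ Q) (w1 : F.IsMap Q w) (w2 : G.IsMap Q w)
    (h1 : ∀ τ, F.Iso Q Q τ → (∀ x ∈ A, τ x ∈ A) → G.IsMap Q τ)
    (hσ : F.Iso Q Q σ) (h2 : (∀ x ∈ A, σ x ∈ A) ∨ ∃ g, ∀ x ∈ A, w (g * σ x * g⁻¹) ∈ A) :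
    G.IsMap Q σ := by
  rcases h2 with h2 | ⟨g, h2⟩
  · exact h1 σ hσ h2
  obtain ⟨ω, a1, a2⟩ := w1.exists_perm
  obtain ⟨ω', b1, b2⟩ := w2.exists_perm
  have a3 := a1.iso_self fun x hx => by rw [a2 x hx]; exact hw x
  have b3 := b1.iso_self fun x hx => by rw [b2 x hx]; exact hw x
  have c1 := hσ.trans (iso_cj_of_D hn g)
  have c2 := (h1 _ (c1.trans a3) fun x hx => by
    rw [Perm.mul_apply, a2 _ (c1.mem (hA hx))]; exact h2 x hx).iso_self fun _ => (c1.trans a3).mem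
  refine ((c2.trans b3.symm).trans (iso_cj_of_D hn g⁻¹)).isMap.congr fun x hx => ?_
  rw [Perm.mul_apply, Perm.mul_apply, Perm.mul_apply, a2 _ (c1.mem hx), ← b2 _ (c1.mem hx),
    perm_inv_apply_self, Perm.mul_apply, cj_apply, cj_apply]
  group

theorem std_le (h : Std p F) (hA : ∀ α, F.Iso ⊤ ⊤ α → G.IsMap ⊤ α) (a1 : F.IsMap Q1 w1) (a2 : F.IsMap Q2 w2)
    (b1 : G.IsMap Q1 w1) (b2 : G.IsMap Q2 w2) : F ≤ G := by
  refine h.sat.le_of_essential (topP p) fun P σ hP hσ => ?_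
  rcases hP with rfl | hP
  · exact hA σ hσ
  rcases ess h.sat hP with rfl | rfl
  · refine le_step (A := sZ2 K) (Z2_W.trans (W_D.trans D_Q1)) D_Q1 (fun x => rfl) a1 b1 (fun τ hτ h1 => ?_) hσ
      ((L1.c h σ hσ).imp_right fun ⟨g, hg⟩ => ⟨g, fun x hx =>
        ⟨rfl, (hg x hx).2.2, neg_eq_zero.2 (hg x hx).2.1, (hg x hx).1⟩⟩)
    obtain ⟨α, e1, e2⟩ := L1.d h.sat τ hτ h1
    exact ((hA α e1).mono le_top).congr fun x hx => (e2 x hx).symm
  · refine le_step (A := sD K) D_Q2 D_Q2 (fun x => rfl) a2 b2 (fun τ hτ h1 => ?_) hσ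
      ((L2.c σ hσ).imp_right fun ⟨g, hg⟩ => ⟨g, fun x hx => ⟨neg_eq_zero.2 (hg x hx), rfl⟩⟩)
    obtain ⟨α, e1, e2⟩ := L2.d h.sat τ hτ h1
    exact ((hA α e1).mono le_top).congr fun x hx => (e2 x hx).symm

theorem au_au (s u s' u' : K) (hu hu') (γ γ' : K ≃+* K) (x : U K) : au s u hu γ (au s' u' hu' γ' x) =
    au (s * γ s') (u * γ u') (by rw [map_mul, hu, ← TF.comm, hu']) (γ * γ') x := by
  have : ∀ t, (γ * γ') t = γ (γ' t) := fun _ => rfl
  ext <;> simp only [au, this, map_mul, map_pow, TF.comm γ] <;> ring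

theorem au_congr {s u s' u' : K} {hu hu'} {γ : K ≃+* K} (h : F.IsMap ⊤ (au s u hu γ)) (e : s = s') (e' : u = u') :
    F.IsMap ⊤ (au s' u' hu' γ) := by subst e e'; exact h

theorem au_comp {s u s' u' : K} {hu hu'} {γ γ' : K ≃+* K} (h : F.IsMap ⊤ (au s u hu γ))
    (h' : F.IsMap ⊤ (au s' u' hu' γ')) :
    F.IsMap ⊤ (au (s * γ s') (u * γ u') (by rw [map_mul, hu, ← TF.comm, hu']) (γ * γ')) :=
  (h'.comp h fun _ _ => trivial).congr fun _ _ => (au_au ..).symm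

theorem tor (h : Std p F) (s u : K) (hu : φ u = u) (hs : s ≠ 0) (u0 : u ≠ 0) : F.IsMap ⊤ (au s u hu 1) := by
  let f : {k : K // k ≠ 0} × {c : K // φ c = c ∧ c ≠ 0} → {k : K // k ≠ 0} × {c : K // φ c = c ∧ c ≠ 0} :=
    fun x => (⟨x.1.1 * x.1.1 * x.2.1⁻¹, by simp [x.1.2, x.2.2.2]⟩, ⟨(nm x.1.1)⁻¹ * (x.2.1 * x.2.1),
      by simp [φ_nm, x.2.2.1], by simp [nm_ne_zero x.1.2, x.2.2.2]⟩)
  obtain ⟨⟨⟨k, k0⟩, c, hc, c0⟩, e⟩ := (Finite.injective_iff_surjective (f := f)).1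
    (fun ⟨⟨k, k0⟩, c, hc, c0⟩ ⟨⟨k', k0'⟩, c', hc', c0'⟩ e => by
      have e1 : k * k * c⁻¹ = k' * k' * c'⁻¹ := congrArg (·.1.1) e
      have e2 : (nm k)⁻¹ * (c * c) = (nm k')⁻¹ * (c' * c') := congrArg (·.2.1) e
      have n := nm_ne_zero k0
      have n' := nm_ne_zero k0'
      replace e1 : k * k * c' = k' * k' * c := by field_simp at e1; linear_combination e1
      replace e2 : nm k' * c ^ 2 = nm k * c' ^ 2 := by field_simp at e2; linear_combination e2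
      have e3 : nm k ^ 2 * c' ^ 3 = nm k' ^ 2 * c ^ 3 := by
        have := congrArg nm e1
        simp only [nm, map_mul, hc, hc'] at this ⊢
        linear_combination this
      obtain rfl : c = c' := mul_left_cancel₀ (mul_ne_zero (pow_ne_zero 2 n') (pow_ne_zero 3 c0)) (by
        linear_combination (nm k' * c ^ 2 + nm k * c' ^ 2) * e2 + c' * e3)
      obtain rfl : k = k' := by
        refine (mul_eq_zero.1 (show (k - k') * (k + k') = 0 from mul_right_cancel₀ c0 (by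
          linear_combination e1))).elim sub_eq_zero.1 fun e5 => ?_
        obtain rfl := eq_neg_of_add_eq_zero_left e5
        refine mul_left_cancel₀ (mul_ne_zero n' (pow_ne_zero 2 c0)) ?_
        simp only [nm, map_neg] at e2 ⊢
        linear_combination -k' * e2
      rfl) (⟨s, hs⟩, ⟨u, hu, u0⟩)
  exact au_congr (au_comp (L1.b h k k0) (L2.b h c hc c0)) (congrArg (·.1.1) e) (congrArg (·.2.1) e)

theorem real_std [LF] [LieS.{0}] (h : Std p F) : F.IsRealizable p := by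
  have T := tor h
  have one : ∀ {s u hu γ}, s ≠ 0 → u ≠ 0 → F.IsMap ⊤ (au s u hu γ) → F.IsMap ⊤ (au 1 1 (map_one _) γ) :=
    fun {s u hu γ} hs u0 H => au_congr (au_comp (T s⁻¹ u⁻¹ (by rw [map_inv₀, hu]) (inv_ne_zero hs) (inv_ne_zero u0)) H)
      (inv_mul_cancel₀ hs) (inv_mul_cancel₀ u0)
  have : Finite (K ≃+* K) := Finite.of_injective _ DFunLike.coe_injective
  let Γ : Subgroup (K ≃+* K) := H5.Cl.sgOf
    { carrier := {γ | F.IsMap ⊤ (au 1 1 (map_one _) γ)}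
      one_mem' := T 1 1 _ one_ne_zero one_ne_zero
      mul_mem' := fun a b => au_congr (au_comp a b) (by simp) (by simp) }
  obtain ⟨G, _, _, J, n1, n2, H⟩ := LieS.grp.{0} K p Γ fun γ hγ e => by
    obtain ⟨α, a1, a2⟩ := IsMap.exists_perm (show F.IsMap ⊤ (au 1 1 (map_one _) γ) from hγ)
    have a3 : ∀ (n : ℕ) x, (α ^ n) x = au 1 1 (map_one _) (γ ^ n) x := fun n => by
      induction n with
      | zero => exact fun x => by ext <;> simp [au]
      | succ n ih => exact fun x => by rw [pow_succ', Perm.mul_apply, ih, a2 _ trivial, au_au, pow_succ']; simp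
    obtain ⟨v, -, hv⟩ := mem_innS_self.1 (h.sat.mem_innS_top (topP p) (a1.iso_self fun _ _ => trivial) (k := 1)
      fun x _ => by rw [pow_one, a3, e]; ext <;> simp [au])
    exact RingEquiv.ext fun t => by simpa [au, XA] using congrArg U.a ((a2 (XA t) trivial).symm.trans (hv _ trivial))
  let ι : (⊤ : Subgroup (U K)) →* G := J.comp (Subgroup.subtype ⊤)
  have hι : ∀ x : U K, extFun ι x = J x := fun x => by rw [extFun_of_mem ι (Subgroup.mem_top x)]; rfl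
  have hinj : Function.Injective ι := fun a b e => Subtype.ext (H.inj e)
  obtain ⟨θ, t⟩ := L.exists_pIso_of_injective ι hinj
  obtain ⟨F', t'⟩ := t.symm.exists_transp le_rfl (groupFusionSystem ι.range) t.symm.img_self
  have hG := (L.realized_of_transp t'.symm (ι := ι) fun x => (extFun_coe ι x).symm).1
  have hT : ∃ T : Sylow p G, (T : Subgroup G) = ι.range := H.syl.imp fun T e => by
    rw [e, MonoidHom.range_comp, Subgroup.range_subtype, MonoidHom.range_eq_map]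
  have key : ∀ P f, F'.IsMap P f ↔ ∃ g : G, ∀ x ∈ P, J (f x) = g * J x * g⁻¹ := fun P f =>
    ⟨fun hf => by simpa [hι] using L.realized_exists_conj hG hf, fun ⟨g, e⟩ =>
      L.realized_isMap hG le_top (fun _ _ => trivial) (g := g) fun x hx => by simpa [hι] using e x hx⟩
  have hF := L.isSaturated_of_realized hG hT
  have b1 : F'.IsMap Q1 w1 := (key _ _).2 ⟨n1, fun x hx => (H.w1 x hx).symm⟩
  have b2 : F'.IsMap Q2 w2 := (key _ _).2 ⟨n2, fun x hx => (H.w2 x hx).symm⟩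
  have hE := (ess_cases (p := p) hF).resolve_right fun ⟨Q, h1, h2, _⟩ => by
    rcases h1 with rfl | rfl | rfl
    · simpa [w2, XC, mem_Q1] using h2.stronglyClosed.mem b2 (x := XC 1) rfl rfl
    · simpa [w1, XE, mem_Q2] using h2.stronglyClosed.mem b1 (x := XE 1 (map_one _)) rfl rfl
    · have := (h2.stronglyClosed_centralizerIn.mem b2 (x := XF 1 (map_one _)) rfl
        ⟨trivial, fun z _ => comm_Z z (XF_mem _ _)⟩).2
      simpa [w2, XF] using (mem_Z_of_comm fun w _ => (this w trivial).symm).2.2.2.2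
  have aut : ∀ α, F'.Iso ⊤ ⊤ α → ∃ g s u hu γ, γ ∈ Γ ∧ s ≠ 0 ∧ u ≠ 0 ∧ ∀ x, α x = g * au s u hu γ x * g⁻¹ :=
    fun α hα => by
      obtain ⟨g, e⟩ := (key _ _).1 hα.isMap
      obtain ⟨y, s, u, hu, γ, h1, hs, u0, e'⟩ := H.nrm g (mem_normalizer_of_finite (by
        rintro _ ⟨x, rfl⟩
        exact ⟨_, e x trivial⟩))
      exact ⟨y, s, u, hu, γ, h1, hs, u0, fun x => H.inj ((e x trivial).trans (e' x))⟩
  have h' : Std p F' := ⟨hF, hE.1, hE.2, fun α hα => by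
    obtain ⟨g, s, u, hu, γ, -, e⟩ := aut α hα
    exact ⟨g, s, u, hu, γ, e⟩⟩
  obtain ⟨ω1, c1, c2⟩ := L1.a h
  obtain ⟨ω2, d1, d2⟩ := L2.a h
  have a1 := LF.f1 h T ω1 c1 c2
  have a2 := LF.f2 h T ω2 d1 d2
  rw [eq_of_le_of_ge (std_le h (fun α hα => ?_) a1 a2 b1 b2) (std_le h' (fun α hα => ?_) b1 b2 a1 a2)]
  · exact ⟨G, _, inferInstance, ι, hG, hT⟩
  · obtain ⟨g, s, u, hu, γ, hs, u0, e⟩ := h.aut α hα
    obtain ⟨m, hm⟩ := H.tor s u hu hs u0 γ (one hs u0 (isMap_au hα e))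
    exact (key _ _).2 ⟨J g * m, fun x _ => by rw [e, map_mul, map_mul, ← hm, map_inv]; group⟩
  · obtain ⟨g, s, u, hu, γ, hγ, hs, u0, e⟩ := aut α hα
    exact ((au_congr (au_comp (T s u hu hs u0) hγ) (mul_one s) (mul_one u)).comp
      (F.isMap_cj le_rfl (Subgroup.mem_top g)) fun _ _ => trivial).congr fun x _ => e x

theorem realizable [LF] [NN] [LieS.{0}] (hF : F.IsSaturated p) : F.IsRealizable p := by
  rcases ess_cases hF with ⟨h1, h2⟩ | ⟨Q, -, h⟩
  · obtain ⟨F', a, b⟩ := NN.out hF h1 h2 fun _ hα _ => stab hF h1 hα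
    exact b (real_std a)
  · exact H4.Sp.isRealizable_of_constrained (topP p) ⟨hF, Q, h⟩

theorem final.{u} [LF] [NN] [LieS.{0}] [LieS.{u}] {Ω : Type*} [Group Ω] {S : Subgroup Ω} [Finite S]
    (F : FusionSystem S) (hF : F.IsSaturated p) {K : Type u} [Field K] [Fintype K] [CharP K p] (n : ℕ) (hn : 1 ≤ n)
    (hK : Fintype.card K = (p ^ n) ^ 3) (T : Sylow p (Cfsg.Lie.twistedD4 K (p ^ n)))
    (e : S ≃* (T : Subgroup (Cfsg.Lie.twistedD4 K (p ^ n)))) : F.IsRealizable p := by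
  obtain ⟨K', _, _, _, _, ⟨f⟩⟩ := LieS.syl p n hn hK T
  obtain ⟨θ, θ', F', t⟩ := H6.exists_transp_of_equiv ((e.trans f).trans Subgroup.topEquiv.symm) F
  exact t.symm.isRealizable' (realizable (t.isSaturated hF))

end Cfsg.Agent.D3.Zf
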